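import Mathlib

/-!
The statement that a quadratic element of the intersection of the `R`-invariant Sylow `p`-subgroups is trivial
when `G R` acts irreducibly (`p ≥ 5`, `R` an `r`-group acting coprimely).
-/

set_option autoImplicit false

namespace CfsgLib.Flavell

universe u

/-- A quadratic element of an `R C_G(R)`-invariant `p`-subgroup of `G` is trivial when `G R` is irreducible. -/
def QuadKey (p : ℕ) : Prop :=
  ∀ (M : Type u) [AddCommGroup M] [Module (ZMod p) M] [Finite M]
    (G R : Subgroup (LinearMap.GeneralLinearGroup (ZMod p) M)) (r : ℕ) [Fact r.Prime],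
    IsPGroup r ↥R → (Nat.card ↥G).Coprime r →
    R ≤ Subgroup.normalizer (G : Set (LinearMap.GeneralLinearGroup (ZMod p) M)) →
    (∀ W : Submodule (ZMod p) M, (∀ g ∈ G ⊔ R, ∀ v ∈ W, (g : Module.End (ZMod p) M) v ∈ W) → W = ⊥ ∨ W = ⊤) →
    ∀ P : Subgroup (LinearMap.GeneralLinearGroup (ZMod p) M), P ≤ G → IsPGroup p ↥P →
      R ≤ Subgroup.normalizer (P : Set (LinearMap.GeneralLinearGroup (ZMod p) M)) →
      G ⊓ Subgroup.centralizer (R : Set (LinearMap.GeneralLinearGroup (ZMod p) M)) ≤
        Subgroup.normalizer (P : Set (LinearMap.GeneralLinearGroup (ZMod p) M)) →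
      ∀ x ∈ P, ((x : Module.End (ZMod p) M) - 1) * ((x : Module.End (ZMod p) M) - 1) = 0 → x = 1

end CfsgLib.Flavell
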