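import Cfsg.Agent.Lib.Techniques.ChiefTools
import Cfsg.Agent.Lib.Flavell.KeyStatement

/-!
The linear representation on a `p`-chief factor.
-/

set_option autoImplicit false
set_option linter.unusedSectionVars false
set_option linter.style.haveILetI false

namespace CfsgLib.Flavell

open Subgroup Cfsg
open scoped commutatorElement

universe u

variable {Y : Type u} [Group Y]

/-- An action by automorphisms on a commutative group, read linearly. -/
noncomputable def linOf (p : ℕ) {A : Type u} [CommGroup A] [Module (ZMod p) (Additive A)]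
    (φ : Y →* MulAut A) : Y →* Module.End (ZMod p) (Additive A) where
  toFun y := (MonoidHom.toAdditive (φ y).toMonoidHom).toZModLinearMap p
  map_one' := by
    refine LinearMap.ext fun v => ?_
    show Additive.ofMul (φ 1 (Additive.toMul v)) = v
    rw [map_one]; rfl
  map_mul' a b := by
    refine LinearMap.ext fun v => ?_
    show Additive.ofMul (φ (a * b) (Additive.toMul v)) = Additive.ofMul (φ a (φ b (Additive.toMul v)))
    rw [map_mul, MulAut.mul_apply]

variable [Finite Y] {p r : ℕ} [hp : Fact p.Prime] [hr : Fact r.Prime]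

/-- A quadratic element of an `R C_G(R)`-invariant `p`-subgroup of `G` is trivial on a `p`-chief
factor of `G R`. -/
theorem trivial_on_chief (hkey : QuadKey.{u} p) {G R P : Subgroup Y} [G.Normal] (hGR : G ⊔ R = ⊤)
    (hR : IsPGroup r R) (hcop : (Nat.card G).Coprime r) (hPG : P ≤ G) (hP : IsPGroup p P)
    (hRP : R ≤ normalizer (P : Set Y)) (hCP : G ⊓ centralizer (R : Set Y) ≤ normalizer (P : Set Y))
    (hfix : ∀ K : Subgroup Y, K ≤ G → K.Normal → ∀ g : Y, (∀ a ∈ R, ⁅a, g⁆ ∈ K) →
      ∃ n ∈ K, n * g ∈ centralizer (R : Set Y))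
    {U V : Subgroup Y} (hUV : IsChiefFactor U V) (hU : IsPGroup p U) {g : Y} (hg : g ∈ P)
    (hq : ⁅⁅U, zpowers g⁆, zpowers g⁆ ≤ V) : ⁅U, zpowers g⁆ ≤ V := by
  classical
  haveI := hUV.2.1
  haveI := hUV.2.2.1
  set π := QuotientGroup.mk' V
  set W := U.map π with hW
  haveI hWn : W.Normal := Subgroup.Normal.map inferInstance π (QuotientGroup.mk'_surjective V)
  have hUU := Techniques.Chief.chief_comm hUV hU
  haveI hWc : IsMulCommutative ↥W := ⟨⟨fun ⟨a, u, hu, hau⟩ ⟨b, v, hv, hbv⟩ => Subtype.ext (by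
    show a * b = b * a
    rw [← hau, ← hbv, ← commutatorElement_eq_one_iff_mul_comm, ← map_commutatorElement]
    exact (QuotientGroup.eq_one_iff _).2 (hUU (commutator_mem_commutator hu hv)))⟩⟩
  letI : CommGroup ↥W := { (inferInstance : Group ↥W) with mul_comm := fun x y => IsMulCommutative.is_comm.comm x y }
  have hexp : ∀ w : ↥W, w ^ p = 1 := by
    let W' : Subgroup Y :=
      { carrier := {u | u ∈ U ∧ π u ^ p = 1}
        one_mem' := ⟨U.one_mem, by rw [map_one, one_pow]⟩
        mul_mem' := fun {x y} hx hy => ⟨U.mul_mem hx.1 hy.1, by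
          have hc : Commute (π x) (π y) := congrArg Subtype.val
            (IsMulCommutative.is_comm.comm (⟨π x, mem_map_of_mem π hx.1⟩ : W) ⟨π y, mem_map_of_mem π hy.1⟩)
          rw [map_mul, hc.mul_pow, hx.2, hy.2, one_mul]⟩
        inv_mem' := fun {x} hx => ⟨U.inv_mem hx.1, by rw [map_inv, inv_pow, hx.2, inv_one]⟩ }
    have hW'n : W'.Normal := ⟨fun n hn y => ⟨hUV.2.1.conj_mem n hn.1 y, by
      rw [map_mul, map_mul, map_inv, conj_pow, hn.2, mul_one, mul_inv_cancel]⟩⟩
    have hVW' : V ≤ W' := fun v hv => ⟨hUV.1.le hv, by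
      rw [show π v = 1 from (QuotientGroup.eq_one_iff v).2 hv, one_pow]⟩
    rcases hUV.2.2.2 W' hW'n hVW' (fun u hu => hu.1) with h | h
    · exfalso
      obtain ⟨u, hu, huV⟩ := SetLike.exists_of_lt hUV.1
      obtain ⟨k, hk⟩ := hU ⟨u, hu⟩
      have hk' : π u ^ p ^ k = 1 := by rw [← map_pow, show u ^ p ^ k = 1 by simpa using congrArg Subtype.val hk, map_one]
      clear hk
      induction k generalizing u with
      | zero => exact huV ((QuotientGroup.eq_one_iff u).1 (show π u = 1 by simpa using hk'))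
      | succ k ih =>
        by_cases h1 : u ^ p ∈ V
        · refine huV (h ▸ (⟨hu, ?_⟩ : u ∈ W'))
          rw [← map_pow]; exact (QuotientGroup.eq_one_iff _).2 h1
        · exact ih (u ^ p) (U.pow_mem hu p) h1 (by rw [map_pow, ← pow_mul, ← pow_succ']; exact hk')
    · rintro ⟨_, u, hu, rfl⟩
      exact Subtype.ext (by simpa using (h.ge hu : u ∈ W').2)
  letI : Module (ZMod p) (Additive ↥W) := AddCommGroup.zmodModule (n := p) fun x =>
    congrArg Additive.ofMul (hexp (Additive.toMul x))
  let ρ : Y →* LinearMap.GeneralLinearGroup (ZMod p) (Additive ↥W) := (linOf p ((MulAut.conjNormal (H := W)).comp π)).toHomUnits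
  have hρ : ∀ (y : Y) (v : Additive ↥W), ((ρ y : Module.End (ZMod p) (Additive ↥W)) v) =
      Additive.ofMul ((MulAut.conjNormal (π y) : MulAut ↥W) (Additive.toMul v)) := fun _ _ => rfl
  have hirr : ∀ S : Submodule (ZMod p) (Additive ↥W),
      (∀ x ∈ G.map ρ ⊔ R.map ρ, ∀ v ∈ S, (x : Module.End (ZMod p) (Additive ↥W)) v ∈ S) → S = ⊥ ∨ S = ⊤ := by
    intro S hS
    let N : Subgroup Y :=
      { carrier := {u | ∃ hu : u ∈ U, Additive.ofMul (⟨π u, mem_map_of_mem π hu⟩ : W) ∈ S}
        one_mem' := ⟨U.one_mem, by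
          rw [show (⟨π 1, mem_map_of_mem π U.one_mem⟩ : W) = 1 from Subtype.ext (map_one π)]; exact S.zero_mem⟩
        mul_mem' := by
          rintro x y ⟨hx, hxS⟩ ⟨hy, hyS⟩
          refine ⟨U.mul_mem hx hy, ?_⟩
          rw [show (⟨π (x * y), mem_map_of_mem π (U.mul_mem hx hy)⟩ : W) =
            ⟨π x, mem_map_of_mem π hx⟩ * ⟨π y, mem_map_of_mem π hy⟩ from Subtype.ext (map_mul π x y)]
          exact S.add_mem hxS hyS
        inv_mem' := by
          rintro x ⟨hx, hxS⟩
          refine ⟨U.inv_mem hx, ?_⟩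
          rw [show (⟨π x⁻¹, mem_map_of_mem π (U.inv_mem hx)⟩ : W) =
            (⟨π x, mem_map_of_mem π hx⟩ : W)⁻¹ from Subtype.ext (map_inv π x)]
          exact S.neg_mem hxS }
    have hNn : N.Normal := by
      refine ⟨fun n hn y => ?_⟩
      obtain ⟨hu, hnS⟩ := hn
      refine ⟨hUV.2.1.conj_mem n hu y, ?_⟩
      have hy : ρ y ∈ G.map ρ ⊔ R.map ρ := by
        rw [← Subgroup.map_sup, hGR]; exact mem_map_of_mem ρ (mem_top y)
      have := hS _ hy _ hnS
      rw [hρ] at this
      convert this using 2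
      exact Subtype.ext (by simp)
    have hVN : V ≤ N := fun v hv => ⟨hUV.1.le hv, by
      rw [show (⟨π v, mem_map_of_mem π (hUV.1.le hv)⟩ : W) = 1 from
        Subtype.ext ((QuotientGroup.eq_one_iff v).2 hv)]
      exact S.zero_mem⟩
    rcases hUV.2.2.2 N hNn hVN (fun _ hu => hu.1) with h | h
    · left
      refine (Submodule.eq_bot_iff S).2 ?_
      rintro x hx
      obtain ⟨⟨_, u, hu, rfl⟩, rfl⟩ := Additive.ofMul.surjective x
      have : u ∈ V := h ▸ (⟨hu, hx⟩ : u ∈ N)
      exact congrArg Additive.ofMul (Subtype.ext ((QuotientGroup.eq_one_iff u).2 this))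
    · right
      refine Submodule.eq_top_iff'.2 fun x => ?_
      obtain ⟨⟨_, u, hu, rfl⟩, rfl⟩ := Additive.ofMul.surjective x
      exact (h.ge hu : u ∈ N).2
  have hPR : R.map ρ ≤ normalizer ((P.map ρ : Subgroup _) : Set _) :=
    (map_mono hRP).trans (le_normalizer_map ρ)
  have hCC : G.map ρ ⊓ centralizer ((R.map ρ : Subgroup _) : Set _) ≤
      normalizer ((P.map ρ : Subgroup _) : Set _) := by
    rintro _ ⟨⟨x, hx, rfl⟩, hc⟩
    obtain ⟨n, hn, hnc⟩ := hfix (G ⊓ ρ.ker) inf_le_left inferInstance x fun a ha => by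
      refine ⟨?_, ?_⟩
      · have h1 : a * x * a⁻¹ ∈ G := (inferInstance : G.Normal).conj_mem x hx a
        rw [commutatorElement_def]; exact G.mul_mem h1 (G.inv_mem hx)
      · exact MonoidHom.mem_ker.2 (by
          rw [map_commutatorElement, commutatorElement_eq_one_iff_mul_comm]
          exact mem_centralizer_iff.1 hc _ (mem_map_of_mem ρ ha))
    have : ρ x = ρ (n * x) := by rw [map_mul, MonoidHom.mem_ker.1 hn.2, one_mul]
    rw [this]
    exact le_normalizer_map ρ (mem_map_of_mem ρ (hCP ⟨G.mul_mem hn.1 hx, hnc⟩))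
  have hx := hkey (Additive ↥W) (G.map ρ) (R.map ρ) r (hR.map ρ) (hcop.coprime_dvd_left (card_map_dvd _ _))
    (by
      refine le_trans (map_mono ?_) (le_normalizer_map ρ)
      rw [normalizer_eq_top]; exact le_top)
    hirr (P.map ρ) (map_mono hPG) (hP.map ρ) hPR hCC (ρ g) (mem_map_of_mem ρ hg) (by
      refine LinearMap.ext fun v => ?_
      obtain ⟨⟨_, u, hu, rfl⟩, rfl⟩ := Additive.ofMul.surjective v
      have key : ∀ (w : Y) (hw : w ∈ U), ((ρ g : Module.End (ZMod p) (Additive ↥W)) - 1)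
          (Additive.ofMul (⟨π w, mem_map_of_mem π hw⟩ : W)) =
          Additive.ofMul (⟨π ⁅g, w⁆, mem_map_of_mem π (by
            rw [commutatorElement_def]; exact U.mul_mem (hUV.2.1.conj_mem w hw g) (U.inv_mem hw))⟩ : W) := by
        intro w hw
        rw [LinearMap.sub_apply, hρ, Module.End.one_apply, ← ofMul_div]
        refine congrArg Additive.ofMul (Subtype.ext ?_)
        simp [div_eq_mul_inv, commutatorElement_def]
      have hgu : ⁅g, u⁆ ∈ U := by
        rw [commutatorElement_def]; exact U.mul_mem (hUV.2.1.conj_mem u hu g) (U.inv_mem hu)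
      rw [Module.End.mul_apply, key u hu, key _ hgu, LinearMap.zero_apply]
      refine congrArg Additive.ofMul (Subtype.ext ((QuotientGroup.eq_one_iff _).2 ?_))
      rw [← commutatorElement_inv ⁅g, u⁆ g]
      refine V.inv_mem (hq (commutator_mem_commutator ?_ (mem_zpowers g)))
      rw [← commutatorElement_inv u g]
      exact (⁅U, zpowers g⁆).inv_mem (commutator_mem_commutator hu (mem_zpowers g)))
  refine Techniques.Chief.commutator_zpowers_le (Techniques.Chief.mem_normalizer_of_normal V g) fun u hu => ?_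
  have h1 := congrArg (fun e : LinearMap.GeneralLinearGroup (ZMod p) (Additive ↥W) =>
    (e : Module.End (ZMod p) (Additive ↥W)) (Additive.ofMul (⟨π u, mem_map_of_mem π hu⟩ : W))) hx
  simp only [Units.val_one, Module.End.one_apply, hρ] at h1
  have h2 : π g * π u * (π g)⁻¹ = π u := by
    simpa using congrArg (fun w : Additive ↥W => ((Additive.toMul w : ↥W) : Y ⧸ V)) h1
  refine (QuotientGroup.eq_one_iff _).1 ?_
  show π ⁅u, g⁆ = 1
  rw [map_commutatorElement, commutatorElement_eq_one_iff_mul_comm]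
  exact (mul_inv_eq_iff_eq_mul.1 h2).symm

end CfsgLib.Flavell
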