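import Cfsg.Agent.Lib.Flavell.FixedZJ
import Cfsg.Agent.Lib.CoprimeBase.HartleyTurull

/-!
The factorisation `G = O_{p'}(G) N(Z(J(S)))` for a `p`-constrained group with a coprime group of automorphisms
whose fixed points involve no `L₂(p)`.
-/

set_option autoImplicit false
set_option linter.unusedSectionVars false

namespace CfsgLib.Flavell

open Subgroup Cfsg

universe u v

/-- An isomorphism of fields identifies the projective groups. -/
theorem exists_pslEquiv {F : Type v} [Field F] [Fintype F] {p : ℕ} [hp : Fact p.Prime] (hF : Fintype.card F = p) :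
    ∃ f : Matrix.ProjectiveSpecialLinearGroup (Fin 2) (ZMod p) →* Matrix.ProjectiveSpecialLinearGroup (Fin 2) F,
      Function.Surjective f := by
  let e := ZMod.ringEquivOfPrime F hp.out hF
  have hs : Function.Surjective (Matrix.SpecialLinearGroup.map (n := Fin 2) e.toRingHom) := by
    intro g
    refine ⟨Matrix.SpecialLinearGroup.map e.symm.toRingHom g, ?_⟩
    refine Subtype.ext (Matrix.ext fun i j => ?_)
    show e (e.symm (g.1 i j)) = g.1 i j
    exact e.apply_symm_apply _
  refine ⟨QuotientGroup.map _ _ (Matrix.SpecialLinearGroup.map e.toRingHom) ?_, ?_⟩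
  · intro z hz
    rw [mem_comap, mem_center_iff]
    intro y
    obtain ⟨x, rfl⟩ := hs y
    rw [← map_mul, ← map_mul, mem_center_iff.1 hz x]
  · intro y
    obtain ⟨g, rfl⟩ := QuotientGroup.mk_surjective y
    obtain ⟨x, rfl⟩ := hs g
    exact ⟨QuotientGroup.mk x, rfl⟩

/-- A group of odd order does not involve `L₂(p)`. -/
theorem not_involves_psl_of_odd {p : ℕ} [hp : Fact p.Prime] (hp5 : 5 ≤ p) {G : Type u} [Group G] [Finite G]
    (hodd : Odd (Nat.card G)) : ¬ Involves (Matrix.ProjectiveSpecialLinearGroup (Fin 2) (ZMod p)) G := by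
  intro h
  obtain ⟨X, f, hf⟩ := CfsgLib.LocalEven.Offender.exists_hom_of_involves h
  let w : Matrix.SpecialLinearGroup (Fin 2) (ZMod p) :=
    ⟨!![0, 1; -1, 0], by simp [Matrix.det_fin_two_of]⟩
  obtain ⟨x, hx⟩ := hf (QuotientGroup.mk w)
  have h2 : f x ^ 2 = 1 := by
    rw [hx, ← QuotientGroup.mk_pow, QuotientGroup.eq_one_iff, pow_two, mem_center_iff]
    intro k
    have w00 : w.1 0 0 = 0 := rfl
    have w01 : w.1 0 1 = 1 := rfl
    have w10 : w.1 1 0 = -1 := rfl
    have w11 : w.1 1 1 = 0 := rfl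
    apply CfsgLib.SL2Ring.ext_entries <;>
      simp only [CfsgLib.SL2Ring.entries_mul, w00, w01, w10, w11] <;> ring
  have h1 : f x ≠ 1 := by
    rw [hx, Ne, QuotientGroup.eq_one_iff, mem_center_iff]
    intro hc
    have := congrArg (fun m : Matrix.SpecialLinearGroup (Fin 2) (ZMod p) => m.1 0 0) (hc (CfsgLib.SL2Ring.up 1))
    have w00 : w.1 0 0 = 0 := rfl
    have w01 : w.1 0 1 = 1 := rfl
    have w10 : w.1 1 0 = -1 := rfl
    have u00 : (CfsgLib.SL2Ring.up (1 : ZMod p)).1 0 0 = 1 := rfl
    have u01 : (CfsgLib.SL2Ring.up (1 : ZMod p)).1 0 1 = 1 := rfl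
    have u10 : (CfsgLib.SL2Ring.up (1 : ZMod p)).1 1 0 = 0 := rfl
    simp [CfsgLib.SL2Ring.entries_mul, w00, w01, w10, u00, u01, u10] at this
  have hd : 2 ∣ Nat.card G := by
    rw [← orderOf_eq_prime h2 h1]
    exact (orderOf_map_dvd f x).trans ((orderOf_dvd_natCard x).trans X.card_subgroup_dvd_card)
  exact (Nat.not_even_iff_odd.2 hodd) (even_iff_two_dvd.2 hd)

/-- In a semidirect product with a coprime group of automorphisms an element centralising the normal factor lies
in it. -/
theorem right_eq_one_of_centralizes {Q : Type u} [Group Q] [Finite Q] (K : Subgroup (MulAut Q))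
    (hcop : (Nat.card K).Coprime (Nat.card Q)) (w : Q ⋊[K.subtype] K)
    (h : ∀ q : Q, w * SemidirectProduct.inl q = SemidirectProduct.inl q * w) : w.right = 1 := by
  have ha : (w.right : MulAut Q) = MulAut.conj w.left⁻¹ := by
    refine MulEquiv.ext fun q => ?_
    have h1 := congrArg (fun x : Q ⋊[K.subtype] K => x.left) (h q)
    simp only [SemidirectProduct.mul_left, SemidirectProduct.left_inl, SemidirectProduct.right_inl, map_one,
      MulAut.one_apply, Subgroup.coe_subtype] at h1
    rw [MulAut.conj_apply, inv_inv, mul_assoc, ← h1, inv_mul_cancel_left]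
  rw [← orderOf_eq_one_iff]
  refine Nat.eq_one_of_dvd_coprimes hcop (orderOf_dvd_natCard _) ?_
  rw [← Subgroup.orderOf_coe, ha]
  exact (orderOf_map_dvd _ _).trans (orderOf_dvd_natCard _)

variable {G : Type u} [Group G] [Finite G] {p : ℕ} [hp : Fact p.Prime]

/-- The factorisation for a solvable group of operators. -/
theorem sup_normalizer_eq_top_of_solvable (hp5 : 5 ≤ p) (hG : IsPConstrained p G) (S : Sylow p G)
    (A : Subgroup (MulAut G)) (hs : Group.IsSolvable A) (hA : (Nat.card A).Coprime (Nat.card G))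
    (C : Subgroup G) (hC : ∀ g : G, g ∈ C ↔ ∀ a ∈ A, a g = g)
    (hfree : ¬ Involves (Matrix.ProjectiveSpecialLinearGroup (Fin 2) (ZMod p)) ↥C) :
    pPrimeCore p G ⊔ normalizer (centerThompsonAOf (S : Subgroup G) : Set G) = ⊤ := by
  by_cases hpG : p ∣ Nat.card G
  swap
  · refine eq_top_iff.2 (le_trans ?_ le_sup_left)
    refine CfsgLib.Cores.le_pPrimeCore_of_not_dvd fun h => hpG ?_
    rwa [Subgroup.card_top] at h
  set N := pPrimeCore p G with hN
  haveI hNc : N.Characteristic := CfsgLib.Cores.pPrimeCore_characteristic p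
  set π := QuotientGroup.mk' N with hπ
  have hNmap : ∀ a : MulAut G, N.map (a : MulAut G).toMonoidHom = N :=
    fun a => characteristic_iff_map_eq.1 hNc a
  let ψ : A →* MulAut (G ⧸ N) :=
    { toFun := fun a => QuotientGroup.congr N N (a : MulAut G) (hNmap _)
      map_one' := MulEquiv.ext fun q => by
        obtain ⟨x, rfl⟩ := QuotientGroup.mk_surjective q
        rfl
      map_mul' := fun a b => MulEquiv.ext fun q => by
        obtain ⟨x, rfl⟩ := QuotientGroup.mk_surjective q
        rfl }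
  have hψ : ∀ (a : A) (x : G), ψ a (π x) = π ((a : MulAut G) x) := fun a x => rfl
  set A' := ψ.range
  let Γ := (G ⧸ N) ⋊[A'.subtype] A'
  haveI : Finite Γ := Finite.of_equiv _ SemidirectProduct.equivProd.symm
  set ι : G ⧸ N →* Γ := SemidirectProduct.inl with hι
  set κ : A' →* Γ := SemidirectProduct.inr with hκ
  have hιinj : Function.Injective ι := SemidirectProduct.inl_injective
  set Gb := ι.range with hGb
  set Kb := κ.range with hKb
  haveI : Gb.Normal := by
    rw [hGb, hι, SemidirectProduct.range_inl_eq_ker_rightHom]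
    infer_instance
  have hGK : Gb ⊔ Kb = ⊤ := by
    refine eq_top_iff.2 fun x _ => ?_
    rw [← SemidirectProduct.inl_left_mul_inr_right x]
    exact mul_mem (mem_sup_left ⟨_, rfl⟩) (mem_sup_right ⟨_, rfl⟩)
  haveI : Group.IsSolvable A' :=
    Group.isSolvable_of_surjective (f := ψ.rangeRestrict) ψ.rangeRestrict_surjective
  have hKs : Group.IsSolvable Kb :=
    Group.isSolvable_of_surjective (f := κ.rangeRestrict) κ.rangeRestrict_surjective
  have hcA' : (Nat.card A').Coprime (Nat.card G) := hA.coprime_dvd_left (card_range_dvd ψ)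
  have hcq : (Nat.card A').Coprime (Nat.card (G ⧸ N)) :=
    hcA'.coprime_dvd_right (card_quotient_dvd_card N)
  have hcKb : Nat.card Kb = Nat.card A' :=
    (Nat.card_congr (MonoidHom.ofInjective (f := κ) SemidirectProduct.inr_injective).toEquiv).symm
  have hcGb : Nat.card Gb = Nat.card (G ⧸ N) :=
    (Nat.card_congr (MonoidHom.ofInjective hιinj).toEquiv).symm
  have hcop : (Nat.card Kb).Coprime (Nat.card Gb) := by rw [hcKb, hcGb]; exact hcq
  have hpK : (Nat.card Kb).Coprime p := by rw [hcKb]; exact hcA'.coprime_dvd_right hpG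
  -- fixed points of the quotient
  have hfree' : ¬ Involves (Matrix.ProjectiveSpecialLinearGroup (Fin 2) (ZMod p))
      ↥(Gb ⊓ centralizer (Kb : Set Γ)) := by
    intro h
    refine hfree (CfsgLib.LocalEven.Offender.involves_of_surjective
      ((ι.comp π).subgroupMap C) ((ι.comp π).subgroupMap_surjective C) ?_)
    refine CfsgLib.LocalEven.Offender.involves_of_injective (inclusion ?_) (inclusion_injective _) h
    rintro _ ⟨⟨q, rfl⟩, hc⟩
    obtain ⟨x, rfl⟩ := QuotientGroup.mk'_surjective N q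
    haveI : Group.IsSolvable ↥A := hs
    obtain ⟨n, hn, hfix⟩ := CfsgLib.CoprimeBase.exists_fixed_mul (A := ↥A) (K := G) hA N
      (fun a y hy => by
        show (a : MulAut G) y ∈ N
        have := hNmap (a : MulAut G)
        rw [← this]; exact ⟨y, hy, rfl⟩) x fun a => by
        show (a : MulAut G) x * x⁻¹ ∈ N
        rw [← QuotientGroup.eq_one_iff]
        show π ((a : MulAut G) x * x⁻¹) = 1
        rw [map_mul, map_inv, mul_inv_eq_one]
        have h1 : κ ⟨ψ a, ⟨a, rfl⟩⟩ * ι (π x) * (κ ⟨ψ a, ⟨a, rfl⟩⟩)⁻¹ = ι (π ((a : MulAut G) x)) := by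
          rw [← map_inv, hκ, hι, ← SemidirectProduct.inl_aut]
          rfl
        rw [mem_centralizer_iff.1 hc _ ⟨_, rfl⟩, mul_inv_cancel_right] at h1
        exact (hιinj h1).symm
    refine ⟨n * x, (hC _).2 fun a ha => hfix ⟨a, ha⟩, ?_⟩
    show ι (π (n * x)) = ι (π x)
    rw [map_mul π, show π n = 1 from (QuotientGroup.eq_one_iff n).2 hn, one_mul]
  -- `Γ` is constrained
  have hc' := CfsgLib.Cores.isPConstrained_iff.1 hG
  have hQle : pCore p Γ ≤ Gb := by
    intro x hx
    obtain ⟨k, hk⟩ := CfsgLib.Cores.isPGroup_pCore p ⟨x, hx⟩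
    have h1 : SemidirectProduct.rightHom x ^ p ^ k = 1 := by
      rw [← map_pow, show x ^ p ^ k = 1 from by simpa using congrArg Subtype.val hk, map_one]
    have h2 : SemidirectProduct.rightHom x = 1 := by
      rw [← orderOf_eq_one_iff]
      exact Nat.eq_one_of_dvd_coprimes (hpK.pow_right k) (hcKb ▸ orderOf_dvd_natCard _)
        (orderOf_dvd_of_pow_eq_one h1)
    rw [hGb, hι, SemidirectProduct.range_inl_eq_ker_rightHom]
    exact h2
  have hQ : (pCore p (G ⧸ N)).map ι ≤ pCore p Γ := by
    have : ((pCore p (G ⧸ N)).map ι).Normal := by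
      refine ⟨fun x hx y => ?_⟩
      obtain ⟨q, hq, rfl⟩ := hx
      rw [← SemidirectProduct.inl_left_mul_inr_right y]
      refine ⟨y.left * ((y.right : MulAut (G ⧸ N)) q) * y.left⁻¹, ?_, ?_⟩
      · refine (inferInstance : (pCore p (G ⧸ N)).Normal).conj_mem _ ?_ _
        rw [← CfsgLib.Cores.map_pCore_equiv (p := p) (y.right : MulAut (G ⧸ N))]
        exact mem_map_of_mem _ hq
      · rw [map_mul, map_mul, map_inv, mul_inv_rev, hι]
        erw [SemidirectProduct.inl_aut]
        simp only [mul_assoc, map_inv]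
    exact CfsgLib.Cores.le_pCore ((CfsgLib.Cores.isPGroup_pCore p).map ι)
  have hΓc : centralizer (pCore p Γ : Set Γ) ≤ pCore p Γ := by
    have hin : centralizer (pCore p Γ : Set Γ) ⊓ Gb ≤ pCore p Γ := by
      rintro _ ⟨hc, q, rfl⟩
      refine hQ (mem_map_of_mem ι (hc' (mem_centralizer_iff.2 fun r hr => hιinj ?_)))
      rw [map_mul, map_mul]
      exact mem_centralizer_iff.1 hc _ (hQ (mem_map_of_mem ι hr))
    intro z hz
    suffices hzG : z ∈ Gb from hin ⟨hz, hzG⟩
    set m := Nat.card ↥(pCore p Γ)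
    have hm : ∀ y ∈ Gb, z ^ m * y * (z ^ m)⁻¹ = y := by
      intro y hy
      have hd : z * y * z⁻¹ * y⁻¹ ∈ pCore p Γ := by
        refine hin ⟨?_, ?_⟩
        · have hn : (centralizer (pCore p Γ : Set Γ)).Normal := inferInstance
          have := Subgroup.mul_mem _ hz (hn.conj_mem _ (Subgroup.inv_mem _ hz) y)
          simpa [mul_assoc] using this
        · exact Subgroup.mul_mem _ ((inferInstance : Gb.Normal).conj_mem y hy z) (Subgroup.inv_mem _ hy)
      set q := z * y * z⁻¹ * y⁻¹ with hq
      have hzq : z * q * z⁻¹ = q := mul_inv_eq_iff_eq_mul.2 (mem_centralizer_iff.1 hz q hd).symm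
      have key : ∀ n : ℕ, z ^ n * y * (z ^ n)⁻¹ = q ^ n * y := by
        intro n
        induction n with
        | zero => simp
        | succ n ih =>
          calc z ^ (n + 1) * y * (z ^ (n + 1))⁻¹ = z * (z ^ n * y * (z ^ n)⁻¹) * z⁻¹ := by
                rw [pow_succ']; group
            _ = (z * q * z⁻¹) ^ n * (z * y * z⁻¹) := by rw [ih, conj_pow]; group
            _ = q ^ (n + 1) * y := by
                have e : z * y * z⁻¹ = q * y := (inv_mul_cancel_right (z * y * z⁻¹) y).symm
                rw [hzq, e, pow_succ]; exact (mul_assoc _ _ _).symm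
      have hqm : q ^ m = 1 :=
        (SubmonoidClass.coe_pow (⟨q, hd⟩ : pCore p Γ) m).symm.trans (congrArg Subtype.val pow_card_eq_one')
      rw [key m, hqm, one_mul]
    have ha' : (z ^ m).right = 1 := right_eq_one_of_centralizes A' hcq (z ^ m) fun q =>
      mul_inv_eq_iff_eq_mul.1 (hm (ι q) ⟨q, rfl⟩)
    have hright : z.right = 1 := by
      rw [← orderOf_eq_one_iff]
      obtain ⟨k, hk⟩ := (CfsgLib.Cores.isPGroup_pCore p (G := Γ)).exists_card_eq
      refine Nat.eq_one_of_dvd_coprimes (hpK.pow_right k) (hcKb ▸ orderOf_dvd_natCard _) (orderOf_dvd_of_pow_eq_one ?_)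
      rw [← hk]
      show SemidirectProduct.rightHom z ^ m = 1
      rw [← map_pow]
      exact ha'
    rw [hGb, hι, SemidirectProduct.range_inl_eq_ker_rightHom]
    exact hright
  -- the Sylow subgroup
  let Sq : Sylow p (G ⧸ N) := S.mapSurjective (f := π) (QuotientGroup.mk'_surjective N)
  have hScard : Nat.card ↥((Sq : Subgroup (G ⧸ N)).map ι) = p ^ (Nat.card Γ).factorization p := by
    rw [card_map_of_injective hιinj, Sq.card_eq_multiplicity]
    congr 1
    rw [SemidirectProduct.card, Nat.factorization_mul Nat.card_pos.ne' Nat.card_pos.ne', Finsupp.add_apply,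
      Nat.factorization_eq_zero_of_not_dvd (n := Nat.card A') fun h => hp.out.ne_one
        (Nat.eq_one_of_dvd_coprimes (hcKb ▸ hpK) h dvd_rfl), add_zero]
  have hn := zjGen_normal_of_fixed hp5 Gb Kb hGK hcop hKs hpK hfree' hΓc (Sylow.ofCard _ hScard)
  have e1 : ((Sylow.ofCard _ hScard : Sylow p Γ) : Subgroup Γ) = (Sq : Subgroup (G ⧸ N)).map ι := rfl
  rw [e1, PStab.zjGen_map_of_injective_restrict (f := ι) (D := (Sq : Subgroup (G ⧸ N)))
    (hιinj.comp (Subgroup.subtype_injective _))] at hn
  have hn1 : (PStab.zjGen 0 (Sq : Subgroup (G ⧸ N))).Normal := by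
    have := hn.comap ι
    rwa [comap_map_eq_self_of_injective hιinj] at this
  have hinj : Set.InjOn π (S : Subgroup G) := by
    intro x hx y hy hxy
    have h1 : x⁻¹ * y ∈ (S : Subgroup G) ⊓ N :=
      ⟨mul_mem (Subgroup.inv_mem _ hx) hy, QuotientGroup.eq.1 hxy⟩
    have h2 : (S : Subgroup G) ⊓ N = ⊥ := by
      rw [inf_eq_bot_of_coprime]
      obtain ⟨k', hk'⟩ := S.2.exists_card_eq
      rw [hk']
      exact ((CfsgLib.Cores.coprime_card_pPrimeCore p).pow_right k').symm
    rw [h2, mem_bot, inv_mul_eq_one] at h1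
    exact h1
  rw [show (Sq : Subgroup (G ⧸ N)) = (S : Subgroup G).map π from rfl,
    PStab.zjGen_map_of_injective_restrict (f := π) (D := (S : Subgroup G))
      (fun x y hxy => Subtype.ext (hinj x.2 y.2 hxy))] at hn1
  rw [PStab.centerThompsonAOf_eq_zjGen]
  have hZp : IsPGroup p (PStab.zjGen 0 (S : Subgroup G)) := S.2.to_le (PStab.zjGen_le _ _)
  have h3 : (normalizer (PStab.zjGen 0 (S : Subgroup G) : Set G)).map π = ⊤ := by
    rw [hπ, CfsgLib.Cores.map_mk'_normalizer_of_coprime hZp (CfsgLib.Cores.coprime_card_pPrimeCore p),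
      normalizer_eq_top_iff]
    exact hn1
  refine eq_top_iff.2 fun g _ => ?_
  obtain ⟨y, hy, hye⟩ := h3.ge (mem_top (π g))
  have : g * y⁻¹ ∈ N := by
    rw [← QuotientGroup.eq_one_iff]
    show π (g * y⁻¹) = 1
    rw [map_mul, map_inv, hye, mul_inv_cancel]
  rw [← inv_mul_cancel_right g y]
  exact mul_mem (mem_sup_left this) (mem_sup_right hy)

end CfsgLib.Flavell
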