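import Mathlib

/-!
A subspace `D` of a finite algebra over `ZMod p` (`p` odd) which contains `1`, is closed under `(a, b) ↦ a b a`
and has no left zero divisors: in it squares determine elements up to sign.
-/

set_option autoImplicit false

namespace CfsgLib.Flavell

universe u

variable {p : ℕ} [Fact p.Prime] {R : Type u} [Ring R] [Algebra (ZMod p) R] [Finite R]

/-- Two anticommuting elements of such a subspace: one of them is zero. -/
theorem eq_zero_or_eq_zero_of_anticomm (h2 : (2 : ZMod p) ≠ 0) (D : Submodule (ZMod p) R) (hone : (1 : R) ∈ D)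
    (hP : ∀ a ∈ D, ∀ b ∈ D, a * b * a ∈ D) (hz : ∀ a ∈ D, a ≠ 0 → ∀ x : R, a * x = 0 → x = 0)
    {u v : R} (hu : u ∈ D) (hv : v ∈ D) (huv : u * v = -(v * u)) : u = 0 ∨ v = 0 := by
  by_contra hcon
  push Not at hcon
  obtain ⟨hu0, hv0⟩ := hcon
  set n : R := u * u with hn
  set m : R := v * v with hm
  have hvn : v * n = n * v := by
    rw [hn, ← mul_assoc, mul_assoc u u v, huv, mul_neg, ← mul_assoc u v u, huv, neg_mul, neg_neg, mul_assoc]
  have hum : u * m = m * u := by
    rw [hm, ← mul_assoc, huv, neg_mul, mul_assoc v u v, huv, mul_neg, neg_neg, mul_assoc]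
  have hun : u * n = n * u := by rw [hn, mul_assoc]
  have hvm : v * m = m * v := by rw [hm, mul_assoc]
  have hnm : n * m = m * n := by rw [hn, mul_assoc, hum, ← mul_assoc, hum, mul_assoc]
  let Good : R → Prop := fun w => u * w = w * u ∧ v * w = w * v ∧ w ∈ D ∧ w * u ∈ D ∧ w * v ∈ D
  have step : ∀ {u v : R}, u ∈ D → u * v = -(v * u) → v * (u * u) = (u * u) * v → ∀ w,
      u * w = w * u → v * w = w * v → w ∈ D → w * u ∈ D → w * v ∈ D →
        u * (u * u * w) = u * u * w * u ∧ v * (u * u * w) = u * u * w * v ∧ u * u * w ∈ D ∧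
          u * u * w * u ∈ D ∧ u * u * w * v ∈ D := by
    intro u v hu huv hvn w w1 w2 w3 w4 w5
    refine ⟨?_, ?_, ?_, ?_, ?_⟩
    · rw [mul_assoc (u * u) w u, ← w1]; simp only [mul_assoc]
    · rw [← mul_assoc v (u * u), hvn, mul_assoc (u * u) v w, w2, ← mul_assoc]
    · convert hP u hu w w3 using 1
      rw [mul_assoc u w u, ← w1, ← mul_assoc]
    · convert hP u hu (w * u) w4 using 1
      rw [← w1]; simp only [mul_assoc]
    · convert neg_mem (hP u hu (w * v) w5) using 1
      rw [mul_assoc u (w * v) u, mul_assoc w v u, show v * u = -(u * v) by rw [huv, neg_neg], mul_neg, mul_neg,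
        neg_neg, ← mul_assoc w u v, ← w1]
      simp only [mul_assoc]
  have hone' : Good 1 := ⟨by simp, by simp, hone, by simpa using hu, by simpa using hv⟩
  have stepn : ∀ w, Good w → Good (n * w) := fun w ⟨a, b, c, d, e⟩ => step hu huv hvn w a b c d e
  have stepm : ∀ w, Good w → Good (m * w) := fun w ⟨a, b, c, d, e⟩ => by
    obtain ⟨x1, x2, x3, x4, x5⟩ := step hv (by rw [huv, neg_neg]) hum w b a c e d
    exact ⟨x2, x1, x3, x5, x4⟩
  have hmon : ∀ w ∈ Submonoid.closure ({n, m} : Set R), Good w := by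
    intro w hw
    induction hw using Submonoid.closure_induction_left with
    | one => exact hone'
    | mul_left x hx y _ ih =>
      rcases hx with rfl | rfl
      · exact stepn y ih
      · exact stepm y ih
  set K := Algebra.adjoin (ZMod p) ({n, m} : Set R)
  have hK : ∀ w ∈ K, Good w := by
    intro w hw
    rw [← Subalgebra.mem_toSubmodule, Algebra.adjoin_eq_span] at hw
    induction hw using Submodule.span_induction with
    | mem x hx => exact hmon x hx
    | zero => exact ⟨by simp, by simp, zero_mem _, by simp, by simp⟩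
    | add x y _ _ hx hy =>
      obtain ⟨a, b, c, d, e⟩ := hx
      obtain ⟨a', b', c', d', e'⟩ := hy
      exact ⟨by rw [mul_add, add_mul, a, a'], by rw [mul_add, add_mul, b, b'], add_mem c c',
        by rw [add_mul]; exact add_mem d d', by rw [add_mul]; exact add_mem e e'⟩
    | smul r x _ hx =>
      obtain ⟨a, b, c, d, e⟩ := hx
      exact ⟨by rw [mul_smul_comm, smul_mul_assoc, a], by rw [mul_smul_comm, smul_mul_assoc, b],
        Submodule.smul_mem _ r c, by rw [smul_mul_assoc]; exact Submodule.smul_mem _ r d,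
        by rw [smul_mul_assoc]; exact Submodule.smul_mem _ r e⟩
  letI : CommRing K := Algebra.adjoinCommRingOfComm (ZMod p) (by
    rintro a (rfl | rfl) b (rfl | rfl) <;> first | rfl | exact hnm | exact hnm.symm)
  haveI : Nontrivial R := ⟨⟨u, 0, hu0⟩⟩
  haveI : Nontrivial K := ⟨⟨1, 0, fun e => one_ne_zero (α := R) (congrArg Subtype.val e)⟩⟩
  haveI : NoZeroDivisors K := ⟨fun {a b} hab => or_iff_not_imp_left.2 fun ha => Subtype.ext
    (hz a (hK a a.2).2.2.1 (fun e => ha (Subtype.ext e)) b (congrArg Subtype.val hab))⟩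
  haveI : IsDomain K := NoZeroDivisors.to_isDomain _
  letI : Fintype K := Fintype.ofFinite K
  classical
  letI : Field K := Fintype.fieldOfDomain K
  let N' : K := ⟨n, Algebra.subset_adjoin (by simp)⟩
  let M' : K := ⟨m, Algebra.subset_adjoin (by simp)⟩
  have hn0 : N' ≠ 0 := fun e => hu0 (hz u hu hu0 u (congrArg Subtype.val e))
  have hm0 : M' ≠ 0 := fun e => hv0 (hz v hv hv0 v (congrArg Subtype.val e))
  have hchar : ringChar K ≠ 2 := by
    haveI : CharP K p := charP_of_injective_algebraMap (algebraMap (ZMod p) K).injective p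
    rw [ringChar.eq K p]
    intro e
    subst e
    exact h2 (ZMod.natCast_self 2)
  obtain ⟨x, y, hxy⟩ : ∃ x y : K, N' * x ^ 2 + M' * y ^ 2 = 1 := by
    have hc : Fintype.card K % 2 = 1 := FiniteField.odd_card_of_char_ne_two hchar
    obtain ⟨a, b, hab⟩ := FiniteField.exists_root_sum_quadratic (R := K)
      (f := Polynomial.C N' * Polynomial.X ^ 2) (g := Polynomial.C M' * Polynomial.X ^ 2 - Polynomial.C 1)
      (Polynomial.degree_C_mul_X_pow 2 hn0) (by
        rw [Polynomial.degree_sub_C] <;> rw [Polynomial.degree_C_mul_X_pow 2 hm0] <;> decide) hc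
    refine ⟨a, b, ?_⟩
    simp only [Polynomial.eval_mul, Polynomial.eval_C, Polynomial.eval_pow, Polynomial.eval_X,
      Polynomial.eval_sub] at hab
    linear_combination hab
  obtain ⟨hx1, hx2, hx3, hx4, hx5⟩ := hK x x.2
  obtain ⟨hy1, hy2, hy3, hy4, hy5⟩ := hK y y.2
  have hxy' : n * ((x : R) * x) + m * ((y : R) * y) = 1 := by
    have := congrArg Subtype.val hxy
    simpa [pow_two] using this
  have cxy : (x : R) * y = y * x := congrArg Subtype.val (mul_comm x y)
  set z : R := (x : R) * u + (y : R) * v with hzdef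
  have hzD : z ∈ D := add_mem hx4 hy5
  have key : ∀ a b : R, ∀ s t : R, s * b = b * s → a * s * (b * t) = a * b * (s * t) := by
    intro a b s t h
    rw [mul_assoc, ← mul_assoc s, h, mul_assoc b, ← mul_assoc]
  have hzz : z * z = 1 := by
    rw [hzdef, mul_add, add_mul, add_mul, key _ _ _ _ hx1, key _ _ _ _ hy1, key _ _ _ _ hx2, key _ _ _ _ hy2,
      ← hn, ← hm, cxy, show v * u = -(u * v) by rw [huv, neg_neg]]
    simp only [mul_neg]
    rw [← hxy']
    have e1 : n * ((x : R) * x) = (x : R) * x * n :=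
      congrArg Subtype.val (mul_comm N' (x * x))
    have e2 : m * ((y : R) * y) = (y : R) * y * m :=
      congrArg Subtype.val (mul_comm M' (y * y))
    rw [e1, e2]
    abel
  have hz1 : z = 1 ∨ z = -1 := by
    rcases eq_or_ne (z - 1) 0 with h | h
    · exact Or.inl (sub_eq_zero.1 h)
    · refine Or.inr (eq_neg_of_add_eq_zero_left (hz _ (sub_mem hzD hone) h (z + 1) ?_))
      rw [sub_mul, mul_add, mul_one, hzz, one_mul]; abel
  have hu' : u * z = z * u := by rcases hz1 with h | h <;> simp [h]
  have hv' : v * z = z * v := by rcases hz1 with h | h <;> simp [h]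
  have h2R : ∀ r : R, r = -r → r = 0 := by
    intro r hr
    have : (2 : ZMod p) • r = 0 := by rw [two_smul]; nth_rewrite 2 [hr]; exact add_neg_cancel r
    rw [← one_smul (ZMod p) r, ← inv_mul_cancel₀ h2, mul_smul, this, smul_zero]
  have hy0 : (y : R) = 0 := by
    have e : (y : R) * (u * v) = (y : R) * (v * u) := by
      rw [hzdef, mul_add, add_mul, ← mul_assoc, hx1, ← mul_assoc, hy1] at hu'
      simpa [mul_assoc] using hu'
    have e2 : (y : R) * (v * u) = 0 := h2R _ (by rw [← mul_neg, ← huv, e])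
    by_contra hy
    exact hu0 (hz v hv hv0 u (hz _ hy3 hy (v * u) e2))
  have hx0 : (x : R) = 0 := by
    have e : (x : R) * (v * u) = (x : R) * (u * v) := by
      rw [hzdef, mul_add, add_mul, ← mul_assoc, hx2, ← mul_assoc, hy2] at hv'
      simpa [mul_assoc] using hv'
    have e2 : (x : R) * (v * u) = 0 := h2R _ (by rw [← mul_neg, ← huv, e])
    by_contra hx
    exact hu0 (hz v hv hv0 u (hz _ hx3 hx (v * u) e2))
  simp [hx0, hy0] at hxy'

/-- Squares determine elements up to sign. -/
theorem eq_or_eq_neg_of_sq (h2 : (2 : ZMod p) ≠ 0) (D : Submodule (ZMod p) R) (hone : (1 : R) ∈ D)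
    (hP : ∀ a ∈ D, ∀ b ∈ D, a * b * a ∈ D) (hz : ∀ a ∈ D, a ≠ 0 → ∀ x : R, a * x = 0 → x = 0)
    {a b : R} (ha : a ∈ D) (hb : b ∈ D) (hab : a * a = b * b) : a = b ∨ a = -b := by
  rcases eq_zero_or_eq_zero_of_anticomm h2 D hone hP hz (sub_mem ha hb) (add_mem ha hb) (by
      simp only [sub_mul, mul_sub, add_mul, mul_add, hab]; abel) with h | h
  · exact Or.inl (sub_eq_zero.1 h)
  · exact Or.inr (eq_neg_of_add_eq_zero_left h)

end CfsgLib.Flavell
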