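import Cfsg.Agent.Lib.Flavell.QuadComp
import Cfsg.Agent.Lib.Flavell.FixedSq
import Cfsg.Agent.Lib.Solvable.CoprimeAction

/-!
A solvable group `R` acting coprimely on `G` fixes a frame in every class of minimal operators which it fixes:
first the space of a member (the group of the class is transitive on these spaces), then an opposite space (the
flag subgroup is transitive on them), then a member of the space, since the stabiliser of the two spaces has an
orbit on the nonzero members of size at least half their number and `|R|` is odd.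
-/

set_option autoImplicit false

namespace CfsgLib.Flavell

open CfsgLib.QuadPair LinearMap

universe u

variable {p : ℕ} [Fact p.Prime] {M : Type u} [AddCommGroup M] [Module (ZMod p) M]

local notation "GLM" => LinearMap.GeneralLinearGroup (ZMod p) M
local notation "E" => Module.End (ZMod p) M

variable {G R : Subgroup (LinearMap.GeneralLinearGroup (ZMod p) M)} {A B X Y Z W : Module.End (ZMod p) M}

/-! ### Conjugation by the normaliser -/

theorem conjOp_id (X : E) : conjOp (1 : GLM) X = X := by simp [conjOp_apply]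

theorem conjOp_inv_cancel (g : GLM) (X : E) : conjOp g⁻¹ (conjOp g X) = X := by
  rw [← conjOp_comp, inv_mul_cancel, conjOp_id]

theorem conjOp_opSet_norm {r : GLM} (hr : r ∈ Subgroup.normalizer (G : Set GLM)) (h : X ∈ opSet G) :
    conjOp r X ∈ opSet G := by
  refine ⟨by rw [← conjOp_mul, h.1, map_zero], fun c => ?_⟩
  rw [← map_smul, ← conjOp_unip r (smul_sq h.1 c)]
  exact (Subgroup.mem_normalizer_iff.1 hr _).1 (h.2 c)

theorem IsMinOp.conjNorm {r : GLM} (hr : r ∈ Subgroup.normalizer (G : Set GLM)) (h : IsMinOp G X) :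
    IsMinOp G (conjOp r X) := by
  have key : ∀ (g : GLM) (Z : E), Module.finrank (ZMod p) (range (conjOp g Z)) = Module.finrank (ZMod p) (range Z) :=
    fun g Z => by
      rw [range_conjOp]
      exact LinearEquiv.finrank_map_eq (GeneralLinearGroup.generalLinearEquiv (ZMod p) M g) (range Z)
  refine ⟨conjOp_opSet_norm hr h.1, fun e => h.2.1 ?_, fun Y hY hY0 => ?_⟩
  · exact (conjOp r).injective (e.trans (map_zero _).symm)
  · have := h.2.2 _ (conjOp_opSet_norm (inv_mem hr) hY)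
      (fun e => hY0 ((conjOp r⁻¹).injective (e.trans (map_zero _).symm)))
    rwa [key r X, ← key r⁻¹ Y]

theorem conjOp_mem_opSpace_norm {r : GLM} (hr : r ∈ Subgroup.normalizer (G : Set GLM)) (hA : A ∈ opSet G)
    (hX : X ∈ opSpace hA) : conjOp r X ∈ opSpace (conjOp_opSet_norm hr hA) := by
  refine ⟨conjOp_opSet_norm hr hX.1, ?_, ?_⟩
  · rw [range_conjOp, range_conjOp]; exact Submodule.map_mono hX.2.1
  · rw [ker_conjOp, ker_conjOp]; exact Submodule.map_mono hX.2.2

theorem Partner.conjNorm [FiniteDimensional (ZMod p) M] {r : GLM} (hr : r ∈ Subgroup.normalizer (G : Set GLM)) (h : Partner G X Y) :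
    Partner G (conjOp r X) (conjOp r Y) := by
  refine ⟨IsMinOp.conjNorm hr h.1, IsMinOp.conjNorm hr h.2.1, fun hc => h.2.2 ?_⟩
  have := isNilpotent_conjOp r⁻¹ hc
  rwa [conjOp_pairSum, conjOp_inv_cancel, conjOp_inv_cancel] at this

theorem IsFrame.conjNorm {r : GLM} (hr : r ∈ Subgroup.normalizer (G : Set GLM)) (h : IsFrame G A B) :
    IsFrame G (conjOp r A) (conjOp r B) :=
  ⟨IsMinOp.conjNorm hr h.minA, IsMinOp.conjNorm hr h.minB, by
    rw [IsInvPair, ← conjOp_mul, ← conjOp_mul, ← conjOp_mul, ← conjOp_mul, h.ABA, h.BAB]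
    exact ⟨rfl, rfl⟩⟩

/-! ### The two actions by conjugation -/

/-- Spaces of operators, acted on by conjugation. -/
def ConjSp (p : ℕ) [Fact p.Prime] (M : Type u) [AddCommGroup M] [Module (ZMod p) M] : Type u :=
  Submodule (ZMod p) (Module.End (ZMod p) M)

instance instMulActionConjSp : MulAction GLM (ConjSp p M) where
  smul g S := Submodule.map (conjOp g).toLinearMap S
  one_smul := fun (S : Submodule (ZMod p) E) => by
    show Submodule.map (conjOp (1 : GLM)).toLinearMap S = S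
    rw [show (conjOp (1 : GLM)).toLinearMap = LinearMap.id from LinearMap.ext conjOp_id, Submodule.map_id]
  mul_smul := fun g h (S : Submodule (ZMod p) E) => by
    show Submodule.map (conjOp (g * h)).toLinearMap S =
      Submodule.map (conjOp g).toLinearMap (Submodule.map (conjOp h).toLinearMap S)
    rw [← Submodule.map_comp]
    exact congrArg (fun f => Submodule.map f S) (LinearMap.ext fun X => conjOp_comp g h X)

/-- A point as a subspace. -/
def ConjSp.sub (S : ConjSp p M) : Submodule (ZMod p) E := S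

/-- Operators, acted on by conjugation. -/
def ConjPt (p : ℕ) [Fact p.Prime] (M : Type u) [AddCommGroup M] [Module (ZMod p) M] : Type u :=
  Module.End (ZMod p) M

instance instMulActionConjPt : MulAction GLM (ConjPt p M) where
  smul g X := conjOp (M := M) g X
  one_smul := conjOp_id
  mul_smul g h X := conjOp_comp g h X

/-- The space of a member, as a point. -/
def spPt (hA : A ∈ opSet G) : ConjSp p M := opSpace hA

theorem mem_spPt_smul {g : GLM} {S : ConjSp p M} {X : E} (hX : X ∈ S.sub) :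
    conjOp g X ∈ (g • S).sub := Submodule.mem_map_of_mem hX

variable [FiniteDimensional (ZMod p) M]

theorem smul_spPt_norm {r : GLM} (hr : r ∈ Subgroup.normalizer (G : Set GLM)) (hA : IsMinOp G A) :
    r • spPt hA.1 = spPt (IsMinOp.conjNorm hr hA).1 := by
  refine le_antisymm (α := Submodule (ZMod p) E) (Submodule.map_le_iff_le_comap.2 fun X hX => conjOp_mem_opSpace_norm hr hA.1 hX)
    (fun X hX => ?_)
  refine ⟨conjOp r⁻¹ X, ?_, ?_⟩
  · have h1 := conjOp_mem_opSpace_norm (inv_mem hr) (IsMinOp.conjNorm hr hA).1 hX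
    refine ⟨h1.1, h1.2.1.trans (le_of_eq ?_), le_trans (le_of_eq ?_) h1.2.2⟩ <;> rw [conjOp_inv_cancel]
  · show conjOp r (conjOp r⁻¹ X) = X
    rw [← conjOp_comp, mul_inv_cancel, conjOp_id]

theorem spPt_eq (hA : IsMinOp G A) (hX : X ∈ opSpace hA.1) (hX0 : X ≠ 0) : spPt hX.1 = spPt hA.1 :=
  opSpace_eq hA hX hX0

theorem smul_spPt_of_mem {r : GLM} (hr : r ∈ Subgroup.normalizer (G : Set GLM)) (hA : IsMinOp G A)
    (h : conjOp r A ∈ opSpace hA.1) : r • spPt hA.1 = spPt hA.1 := by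
  rw [smul_spPt_norm hr hA]
  exact spPt_eq hA h (IsMinOp.conjNorm hr hA).2.1

theorem IsFrame.of_mem (hq : QHyp G) (h : IsFrame G A B) (hX : X ∈ opSpace h.minA.1) (hX0 : X ≠ 0) :
    ∃ C ∈ opSpace h.minB.1, C ≠ 0 ∧ IsFrame G X C :=
  hq.exists_frame ⟨(geometry_of_mem h.minA hX hX0).2.2, h.minB,
    not_nilpotent_of_inv h.minA h.minB h.inv hX hX0 (self_mem_opSpace _) h.minB.2.1⟩

/-- The group of a class fixes the class. -/
theorem QHyp.conn_conj_compGp (hA : IsMinOp G A) {g : GLM} (hg : g ∈ compGp G A) :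
    ∀ X : E, Conn G A X → Conn G A (conjOp g X) := by
  induction hg using Subgroup.closure_induction'' with
  | mem x hx =>
    obtain ⟨W, hW, rfl⟩ := hx
    intro X hX
    have h := (hW.symm.trans' hX).conj (g := unip W) (unip_mem (hW.min hA).1)
    rw [show conjOp (unip W) W = W by
      rw [conjOp_unip_val (hW.min hA).1.1, sub_self, add_zero, mul_assoc, (hW.min hA).1.1, mul_zero, sub_zero]] at h
    exact hW.trans' h
  | inv_mem x hx =>
    obtain ⟨W, hW, rfl⟩ := hx
    intro X hX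
    have h := (hW.symm.trans' hX).conj (g := (unip W)⁻¹) (inv_mem (unip_mem (hW.min hA).1))
    rw [show conjOp (unip W)⁻¹ W = W by
      conv_lhs => arg 2; rw [show W = conjOp (unip W) W by
        rw [conjOp_unip_val (hW.min hA).1.1, sub_self, add_zero, mul_assoc, (hW.min hA).1.1, mul_zero, sub_zero]]
      exact conjOp_inv_cancel _ _] at h
    exact hW.trans' h
  | one => intro X hX; rw [conjOp_id]; exact hX
  | mul x y _ _ ihx ihy => intro X hX; rw [conjOp_comp]; exact ihx _ (ihy X hX)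

/-! ### The squares in a space -/

omit [FiniteDimensional (ZMod p) M] in
theorem mul_BA_of_mem (h : IsFrame G A B) (hZ : Z ∈ opSpace h.minA.1) : Z * (B * A) = Z := by
  refine LinearMap.ext fun v => ?_
  have : v - (B * A) v ∈ ker Z := hZ.2.2 (by
    rw [mem_ker, map_sub, ← Module.End.mul_apply, ABA' h, sub_self])
  rw [mem_ker, map_sub, sub_eq_zero] at this
  exact this.symm

theorem triple_mem_left (hq : QHyp G) (h : IsFrame G A B) (hZ : Z ∈ opSpace h.minA.1)
    (hW : W ∈ opSet G) (hWm : W ≠ 0 → IsMinOp G W) : Z * W * Z ∈ opSpace h.minA.1 := by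
  rcases eq_or_ne Z 0 with rfl | hZ0
  · simp
  rcases eq_or_ne W 0 with rfl | hW0
  · simp
  have := triple_mem_opSpace hq (geometry_of_mem h.minA hZ hZ0).2.2 (hWm hW0)
  rwa [opSpace_eq h.minA hZ hZ0] at this

theorem minOp_of_mem (h : IsMinOp G A) (hZ : Z ∈ opSpace h.1) : Z ≠ 0 → IsMinOp G Z :=
  fun h0 => (geometry_of_mem h hZ h0).2.2

/-- `Z ↦ Z B` on the range of `A`. -/
noncomputable def cornerMap (h : IsFrame G A B) :
    (opSpace h.minA.1 : Submodule (ZMod p) E) →ₗ[ZMod p] Module.End (ZMod p) ↥(range A) where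
  toFun Z := ((Z : E) * B).restrict (p := range A) (q := range A) fun _ _ => Z.2.2.1 ⟨_, rfl⟩
  map_add' Z Z' := LinearMap.ext fun v => Subtype.ext (by simp [add_mul])
  map_smul' c Z := LinearMap.ext fun v => Subtype.ext (by simp)

omit [FiniteDimensional (ZMod p) M] in
theorem cornerMap_val (h : IsFrame G A B) (Z : (opSpace h.minA.1 : Submodule (ZMod p) E)) (v : range A) :
    ((cornerMap h Z v : range A) : M) = ((Z : E) * B) v := rfl

theorem cornerMap_cancel (h : IsFrame G A B) (Z : (opSpace h.minA.1 : Submodule (ZMod p) E)) (hZ0 : (Z : E) ≠ 0)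
    (v : range A) (hv : cornerMap h Z v = 0) : v = 0 := by
  have h1 : (Z : E) (B (v : M)) = 0 := congrArg Subtype.val hv
  obtain ⟨-, hk, -⟩ := geometry_of_mem h.minA Z.2 hZ0
  have h2 : A (B (v : M)) = 0 := mem_ker.1 (hk.le (mem_ker.2 h1))
  obtain ⟨w, hw⟩ := v.2
  refine Subtype.ext ?_
  rw [← hw, ← Module.End.mul_apply, ← Module.End.mul_apply, h.ABA, hw] at h2
  simpa using h2

theorem triple_self_mem (hq : QHyp G) (h : IsFrame G A B) (hZ : Z ∈ opSpace h.minA.1) :
    Z * B * Z ∈ opSpace h.minA.1 :=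
  triple_mem_left hq h hZ h.minB.1 fun _ => h.minB

theorem triple_self_ne (h : IsFrame G A B) (hZ : Z ∈ opSpace h.minA.1) (hZ0 : Z ≠ 0) : Z * B * Z ≠ 0 := by
  intro e
  refine hZ0 ?_
  rw [← mul_BA_of_mem h hZ]
  refine LinearMap.ext fun v => ?_
  have e1 : cornerMap h ⟨Z, hZ⟩ ⟨A v, ⟨v, rfl⟩⟩ = 0 := by
    refine cornerMap_cancel h ⟨Z, hZ⟩ hZ0 _ (Subtype.ext ?_)
    show (Z * B) ((Z * B) (A v)) = 0
    rw [← Module.End.mul_apply, ← mul_assoc, e, zero_mul]; rfl
  exact congrArg Subtype.val e1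

theorem eq_or_neg_of_triple (hq : QHyp G) (h : IsFrame G A B) (hZ : Z ∈ opSpace h.minA.1)
    (hW : W ∈ opSpace h.minA.1) (e : Z * B * Z = W * B * W) : Z = W ∨ Z = -W := by
  haveI : Finite M := Module.finite_of_finite (ZMod p)
  haveI : Finite (Module.End (ZMod p) ↥(range A)) :=
    Finite.of_injective (fun f => (f : ↥(range A) → ↥(range A))) DFunLike.coe_injective
  have hinj : ∀ Z W : (opSpace h.minA.1 : Submodule (ZMod p) E), cornerMap h Z = cornerMap h W → (Z : E) = W := by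
    intro Z W e
    rw [← mul_BA_of_mem h Z.2, ← mul_BA_of_mem h W.2]
    refine LinearMap.ext fun v => ?_
    exact congrArg Subtype.val (LinearMap.congr_fun e ⟨A v, ⟨v, rfl⟩⟩)
  have hone : (1 : Module.End (ZMod p) ↥(range A)) ∈ range (cornerMap h) :=
    ⟨⟨A, self_mem_opSpace _⟩, LinearMap.ext fun v => Subtype.ext (by
      obtain ⟨w, hw⟩ := v.2
      show (A * B) (v : M) = (v : M)
      rw [← hw, ← Module.End.mul_apply, h.ABA])⟩
  have hP : ∀ a ∈ range (cornerMap h), ∀ b ∈ range (cornerMap h), a * b * a ∈ range (cornerMap h) := by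
    rintro _ ⟨Z, rfl⟩ _ ⟨W, rfl⟩
    have h1 : B * (W : E) * B ∈ opSpace h.minB.1 :=
      triple_mem_left hq h.symm (self_mem_opSpace _) W.2.1 (minOp_of_mem h.minA W.2)
    refine ⟨⟨(Z : E) * (B * (W : E) * B) * Z,
      triple_mem_left hq h Z.2 h1.1 (minOp_of_mem h.minB h1)⟩, LinearMap.ext fun v => Subtype.ext ?_⟩
    show ((Z : E) * (B * (W : E) * B) * Z * B) v = ((Z : E) * B) (((W : E) * B) (((Z : E) * B) v))
    simp only [Module.End.mul_apply]
  have hz : ∀ a ∈ range (cornerMap h), a ≠ 0 → ∀ x, a * x = 0 → x = 0 := by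
    rintro _ ⟨Z, rfl⟩ h0 x hx
    refine LinearMap.ext fun v => cornerMap_cancel h Z (fun e => h0 ?_) _ (LinearMap.congr_fun hx v)
    rw [show Z = 0 from Subtype.ext e, map_zero]
  rcases eq_or_eq_neg_of_sq hq.two_ne _ hone hP hz (mem_range_self (cornerMap h) ⟨Z, hZ⟩)
      (mem_range_self (cornerMap h) ⟨W, hW⟩) (LinearMap.ext fun v => Subtype.ext (by
        show (Z * B) ((Z * B) v) = (W * B) ((W * B) v)
        rw [← Module.End.mul_apply, ← mul_assoc, e, mul_assoc]; rfl)) with hh | hh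
  · exact Or.inl (hinj ⟨Z, hZ⟩ ⟨W, hW⟩ hh)
  · exact Or.inr (hinj ⟨Z, hZ⟩ (-⟨W, hW⟩) (by rw [map_neg]; exact hh))

/-! ### The two weights -/

omit [FiniteDimensional (ZMod p) M] in
/-- The Weyl element on a member of the opposite space. -/
theorem conjOp_weyl_opp (h : IsFrame G A B) (hY : Y ∈ opSpace h.minB.1) :
    conjOp (weyl A B) Y = -(A * Y * A) := by
  have h1 : B * Y = 0 := mul_eq_zero_of_mem h.minB.1 (self_mem_opSpace _) hY
  have h2 : Y * B = 0 := mul_eq_zero_of_mem h.minB.1 hY (self_mem_opSpace _)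
  have h3 : eZ A B * Y = 0 := LinearMap.ext fun v => by
    obtain ⟨w, hw⟩ := hY.2.1 ⟨v, rfl⟩
    rw [Module.End.mul_apply, ← hw, ← Module.End.mul_apply, eZ_B h]; rfl
  have h4 : Y * eZ A B = 0 := LinearMap.ext fun v => by
    rw [Module.End.mul_apply, LinearMap.zero_apply, ← mem_ker]
    exact hY.2.2 (by rw [mem_ker, ← Module.End.mul_apply, B_eZ h, LinearMap.zero_apply])
  have hw : (weyl A B : E) = eZ A B + A - B := by
    rw [weyl_val h.inv h.AA h.BB]; simp only [eZ]; abel
  have hwi : (((weyl A B)⁻¹ : GLM) : E) = eZ A B - A + B := by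
    refine Units.inv_eq_of_mul_eq_one_right ?_
    rw [hw]
    frame_simp h
    simp only [eZ]
    abel
  rw [conjOp_apply, hw, hwi]
  simp only [add_mul, sub_mul, mul_add, mul_sub, mul_assoc, h1, h2, h3, h4, mul_zero, zero_mul, zero_sub, sub_zero,
    add_zero, zero_add]

theorem weyl_swap (h : IsFrame G A B) :
    weyl A B • spPt h.minA.1 = spPt h.minB.1 ∧ weyl A B • spPt h.minB.1 = spPt h.minA.1 := by
  have hw : weyl A B ∈ G := weyl_mem h.minA.1 h.minB.1
  have hn : weyl A B ∈ Subgroup.normalizer (G : Set GLM) := Subgroup.le_normalizer hw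
  constructor
  · rw [smul_spPt_norm hn h.minA]
    refine spPt_eq h.minB ?_ (IsMinOp.conjNorm hn h.minA).2.1
    rw [conjOp_weyl h.inv h.AA h.BB]
    exact neg_mem (self_mem_opSpace _)
  · rw [smul_spPt_norm hn h.minB]
    refine spPt_eq h.minA ?_ (IsMinOp.conjNorm hn h.minB).2.1
    rw [conjOp_weyl_opp h (self_mem_opSpace _), h.ABA]
    exact neg_mem (self_mem_opSpace _)

/-- The stabiliser in `G` of the two spaces of a frame. -/
def pairStab (h : IsFrame G A B) : Subgroup GLM :=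
  G ⊓ (MulAction.stabilizer GLM (spPt h.minA.1) ⊓ MulAction.stabilizer GLM (spPt h.minB.1))

/-- `Z B Z` is a conjugate of `A` under the stabiliser of the two spaces. -/
theorem exists_pairStab_triple (hq : QHyp G) (h : IsFrame G A B) (hZ : Z ∈ opSpace h.minA.1) (hZ0 : Z ≠ 0) :
    ∃ k ∈ pairStab h, conjOp k A = Z * B * Z := by
  obtain ⟨C, hC, hC0, hf⟩ := h.of_mem hq hZ hZ0
  have e1 : spPt hf.minA.1 = spPt h.minA.1 := spPt_eq h.minA hZ hZ0
  have e2 : spPt hf.minB.1 = spPt h.minB.1 := spPt_eq h.minB hC hC0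
  refine ⟨weyl Z C * weyl A B, ⟨mul_mem (weyl_mem hf.minA.1 hf.minB.1) (weyl_mem h.minA.1 h.minB.1), ?_, ?_⟩, ?_⟩
  · show (weyl Z C * weyl A B) • spPt h.minA.1 = spPt h.minA.1
    rw [mul_smul, (weyl_swap h).1, ← e2, (weyl_swap hf).2, e1]
  · show (weyl Z C * weyl A B) • spPt h.minB.1 = spPt h.minB.1
    rw [mul_smul, (weyl_swap h).2, ← e1, (weyl_swap hf).1, e2]
  · rw [conjOp_comp, conjOp_weyl h.inv h.AA h.BB, map_neg, conjOp_weyl_opp hf, neg_neg]
    show B ∈ opSpace hf.minB.1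
    rw [opSpace_eq h.minB hC hC0]
    exact self_mem_opSpace _

theorem pairStab_mem_opSpace (h : IsFrame G A B) {k : GLM} (hk : k ∈ pairStab h) (hX : X ∈ opSpace h.minA.1) :
    conjOp k X ∈ opSpace h.minA.1 := by
  have := mem_spPt_smul (g := k) (S := spPt h.minA.1) hX
  rwa [show k • spPt h.minA.1 = spPt h.minA.1 from hk.2.1] at this

/-- An orbit of the stabiliser holds at least half of the nonzero members of the space. -/
theorem ncard_le_two_mul_orbit (hq : QHyp G) (h : IsFrame G A B) :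
    {Z : E | Z ∈ opSpace h.minA.1 ∧ Z ≠ 0}.ncard ≤ 2 * {Z : E | ∃ k ∈ pairStab h, conjOp k A = Z}.ncard := by
  classical
  haveI : Finite M := Module.finite_of_finite (ZMod p)
  haveI : Finite E := Finite.of_injective (fun f : E => (f : M → M)) DFunLike.coe_injective
  letI : Fintype E := Fintype.ofFinite E
  rw [Set.ncard_eq_toFinset_card', Set.ncard_eq_toFinset_card']
  set S := ({Z : E | Z ∈ opSpace h.minA.1 ∧ Z ≠ 0}).toFinset with hS
  have h1 : S.card ≤ 2 * (S.image fun Z => Z * B * Z).card := by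
    refine Finset.card_le_mul_card_image S 2 fun b _ => ?_
    rcases Finset.eq_empty_or_nonempty {a ∈ S | a * B * a = b} with e | ⟨a, ha⟩
    · rw [e]; simp
    refine (Finset.card_le_card (t := {a, -a}) fun c hc => ?_).trans Finset.card_le_two
    simp only [hS, Finset.mem_filter, Set.mem_toFinset] at ha hc
    simpa using eq_or_neg_of_triple hq h hc.1.1 ha.1.1 (hc.2.trans ha.2.symm)
  refine h1.trans (Nat.mul_le_mul le_rfl (Finset.card_le_card fun b hb => ?_))
  obtain ⟨a, ha, rfl⟩ := Finset.mem_image.1 hb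
  simp only [hS, Set.mem_toFinset] at ha
  simpa using exists_pairStab_triple hq h ha.1 ha.2

/-- A group of odd order fixing the two spaces moves `A` within its orbit under the stabiliser. -/
theorem exists_pairStab_conj (hq : QHyp G) (h : IsFrame G A B) {K : Subgroup GLM} (hK : Odd (Nat.card K))
    (hKG : K ≤ Subgroup.normalizer (G : Set GLM))
    (hKA : ∀ a ∈ K, a • spPt h.minA.1 = spPt h.minA.1) (hKB : ∀ a ∈ K, a • spPt h.minB.1 = spPt h.minB.1)
    {a : GLM} (ha : a ∈ K) : ∃ k ∈ pairStab h, conjOp k A = conjOp a A := by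
  haveI : Finite M := Module.finite_of_finite (ZMod p)
  haveI : Finite E := Finite.of_injective (fun f : E => (f : M → M)) DFunLike.coe_injective
  set O : Set E := {Z : E | ∃ k ∈ pairStab h, conjOp k A = Z} with hO
  have hnorm : ∀ a ∈ K, ∀ k ∈ pairStab h, a * k * a⁻¹ ∈ pairStab h := by
    intro a ha k hk
    refine ⟨(Subgroup.mem_normalizer_iff.1 (hKG ha) k).1 hk.1, ?_, ?_⟩
    · show (a * k * a⁻¹) • spPt h.minA.1 = spPt h.minA.1
      rw [mul_smul, mul_smul, hKA _ (inv_mem ha), show k • spPt h.minA.1 = _ from hk.2.1, hKA _ ha]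
    · show (a * k * a⁻¹) • spPt h.minB.1 = spPt h.minB.1
      rw [mul_smul, mul_smul, hKB _ (inv_mem ha), show k • spPt h.minB.1 = _ from hk.2.2, hKB _ ha]
  have hmul : ∀ a ∈ K, ∀ b : GLM, conjOp a A ∈ O → conjOp b A ∈ O → conjOp (a * b) A ∈ O := by
    rintro a ha b ⟨k, hk, ek⟩ ⟨l, hl, el⟩
    refine ⟨a * l * a⁻¹ * k, mul_mem (hnorm a ha l hl) hk, ?_⟩
    rw [conjOp_comp _ k, ek, conjOp_comp (a * l) a⁻¹, conjOp_inv_cancel, conjOp_comp a l, el, conjOp_comp]
  have hsq : ∀ a ∈ K, conjOp (a * a) A ∈ O := by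
    intro a ha
    by_cases hin : conjOp a A ∈ O
    · exact hmul a ha a hin hin
    have hmem : ∀ b ∈ K, conjOp b A ∈ opSpace h.minA.1 := fun b hb => by
      have := mem_spPt_smul (g := b) (S := spPt h.minA.1) (self_mem_opSpace h.minA.1)
      rwa [hKA b hb] at this
    set O' : Set E := conjOp a '' O
    have hsub : O ∪ O' ⊆ {Z : E | Z ∈ opSpace h.minA.1 ∧ Z ≠ 0} := by
      rintro _ (⟨k, hk, rfl⟩ | ⟨_, ⟨k, hk, rfl⟩, rfl⟩)
      · exact ⟨pairStab_mem_opSpace h hk (self_mem_opSpace _), (h.minA.conj hk.1).2.1⟩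
      · refine ⟨?_, (IsMinOp.conjNorm (hKG ha) (h.minA.conj hk.1)).2.1⟩
        have := mem_spPt_smul (g := a) (S := spPt h.minA.1) (pairStab_mem_opSpace h hk (self_mem_opSpace _))
        rwa [hKA a ha] at this
    have hdis : Disjoint O O' := by
      rw [Set.disjoint_left]
      rintro Z ⟨k, hk, rfl⟩ ⟨_, ⟨l, hl, rfl⟩, e⟩
      refine hin ⟨(a * l * a⁻¹)⁻¹ * k, mul_mem (inv_mem (hnorm a ha l hl)) hk, ?_⟩
      rw [conjOp_comp, ← e, ← conjOp_comp, ← conjOp_comp]
      congr 1
      group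
    have hcard : (O ∪ O').ncard = 2 * O.ncard := by
      rw [Set.ncard_union_eq hdis, Set.ncard_image_of_injective _ (conjOp a).injective, two_mul]
    have heq : O ∪ O' = {Z : E | Z ∈ opSpace h.minA.1 ∧ Z ≠ 0} :=
      Set.eq_of_subset_of_ncard_le hsub (by rw [hcard]; exact ncard_le_two_mul_orbit hq h)
    have : conjOp (a * a) A ∈ O ∪ O' := by
      rw [heq]
      exact ⟨hmem _ (mul_mem ha ha), (IsMinOp.conjNorm (hKG (mul_mem ha ha)) h.minA).2.1⟩
    refine this.resolve_right ?_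
    rintro ⟨Z, hZ, e⟩
    rw [conjOp_comp] at e
    exact hin ((conjOp a).injective e ▸ hZ)
  obtain ⟨m, hm⟩ := hK
  have hpow : ∀ n : ℕ, conjOp ((a * a) ^ n) A ∈ O := by
    intro n
    induction n with
    | zero => exact ⟨1, one_mem _, by rw [pow_zero]⟩
    | succ n ih => rw [pow_succ']; exact hmul _ (mul_mem ha ha) _ (hsq a ha) ih
  have ea : (a * a) ^ (m + 1) = a := by
    have : a ^ Nat.card K = 1 := congrArg Subtype.val (pow_card_eq_one' (x := (⟨a, ha⟩ : K)))
    rw [← sq, ← pow_mul, show 2 * (m + 1) = Nat.card K + 1 by omega, pow_succ, this, one_mul]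
  obtain ⟨k, hk, e⟩ := hpow (m + 1)
  rw [ea] at e
  exact ⟨k, hk, e⟩

/-! ### The fixed frame -/

/-- The members of a class fixed by `K ≤ N(G)`, of odd order prime to `|G|` and solvable, contain a frame. -/
theorem exists_fixed_frame (hq : QHyp G) (K : Subgroup GLM) (hKG : K ≤ Subgroup.normalizer (G : Set GLM))
    (hcop : (Nat.card K).Coprime (Nat.card G)) (hs : Group.IsSolvable K) (hodd : Odd (Nat.card K))
    (hA : IsMinOp G A) (hK : ∀ a ∈ K, Conn G A (conjOp a A)) :
    ∃ X Y : E, IsFrame G X Y ∧ Conn G A X ∧ ∀ a ∈ K, conjOp a X = X ∧ conjOp a Y = Y := by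
  haveI : Finite M := Module.finite_of_finite (ZMod p)
  haveI : Finite GLM := Finite.of_injective (fun g : GLM => ((g : E) : M → M))
    (DFunLike.coe_injective.comp Units.val_injective)
  have hcop' : ∀ H : Subgroup GLM, H ≤ G → (Nat.card K).Coprime (Nat.card H) := fun H hH =>
    hcop.coprime_dvd_right (Subgroup.card_dvd_of_le hH)
  have hKc : ∀ a ∈ K, ∀ X, Conn G A X → Conn G A (conjOp a X) := by
    intro a ha X hX
    refine (hK a ha).trans' ?_
    induction hX with
    | refl => exact .refl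
    | tail _ hbc ih => exact ih.tail (hbc.conjNorm (hKG ha))
  set L := compGp G A
  have hKL : K ≤ Subgroup.normalizer (L : Set GLM) := by
    refine CfsgLib.Solvable.le_normalizer_of_conj_mem fun a ha x hx => ?_
    have : L ≤ L.comap (MulAut.conj a).toMonoidHom := by
      rw [show L = compGp G A from rfl, compGp, Subgroup.closure_le]
      rintro _ ⟨X, hX, rfl⟩
      show a * unip X * a⁻¹ ∈ compGp G A
      rw [conjOp_unip a (hX.min hA).1.1]
      exact unip_mem_compGp (hKc a ha X hX)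
    exact this hx
  have hLG : L ≤ G := compGp_le hA
  have hN : ∀ g ∈ G, g ∈ Subgroup.normalizer (G : Set GLM) := fun g hg => Subgroup.le_normalizer hg
  -- the fixed space
  obtain ⟨R₀, hR₀, hn₀⟩ := hq.partner A hA
  obtain ⟨B₀, -, -, hf₀⟩ := hq.exists_frame (X := A) (Y := R₀) ⟨hA, hR₀, hn₀⟩
  obtain ⟨k, hk, hkfix⟩ := CfsgLib.Solvable.exists_fixed_point (Ω := ConjSp p M) K L hKL (hcop' L hLG) (Or.inl hs)
    (spPt hA.1) (by
      intro a ha
      obtain ⟨g, hg, hgL, hgm⟩ := (hq.compGp_induction hf₀ (K := L) (hq.opGroup_le_compGp hA .refl)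
        (hq.opGroup_le_compGp hA hf₀.partner.conn) inf_le_right).2 _ (hK a ha)
      refine ⟨g, hgL, ?_⟩
      rw [smul_spPt_norm (hKG ha) hA, smul_spPt_norm (hN g (hLG hgL)) hA]
      exact (spPt_eq (IsMinOp.conjNorm (hKG ha) hA) hgm (hA.conj (hLG hgL)).2.1).symm)
  set A₁ : E := conjOp k A
  have hAA₁ : Conn G A A₁ := QHyp.conn_conj_compGp hA hk A .refl
  have hA₁ : IsMinOp G A₁ := hA.conj (hLG hk)
  have hS : ∀ a ∈ K, a • spPt hA₁.1 = spPt hA₁.1 := by
    intro a ha
    have := hkfix a ha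
    rwa [smul_spPt_norm (hN k (hLG hk)) hA] at this
  -- the fixed opposite space
  obtain ⟨R₁, hR₁, hn₁⟩ := hq.partner A₁ hA₁
  obtain ⟨B₁, -, -, hf₁⟩ := hq.exists_frame (X := A₁) (Y := R₁) ⟨hA₁, hR₁, hn₁⟩
  set U := L ⊓ MulAction.stabilizer GLM (spPt hA₁.1)
  have hKU : K ≤ Subgroup.normalizer (U : Set GLM) := by
    refine CfsgLib.Solvable.le_normalizer_of_conj_mem fun a ha x hx => ⟨?_, ?_⟩
    · exact (Subgroup.mem_normalizer_iff.1 (hKL ha) x).1 hx.1
    · show (a * x * a⁻¹) • spPt hA₁.1 = spPt hA₁.1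
      rw [mul_smul, mul_smul, hS _ (inv_mem ha), show x • spPt hA₁.1 = _ from hx.2, hS a ha]
  obtain ⟨u, hu, hufix⟩ := CfsgLib.Solvable.exists_fixed_point (Ω := ConjSp p M) K U hKU
    (hcop' U (inf_le_left.trans hLG)) (Or.inl hs) (spPt hf₁.minB.1) (by
      intro a ha
      have hfa := hf₁.conjNorm (hKG ha)
      have hmem : A₁ ∈ opSpace hfa.minA.1 := by
        have h1 : spPt hfa.minA.1 = spPt hA₁.1 := by rw [← smul_spPt_norm (hKG ha) hA₁, hS a ha]
        show A₁ ∈ (spPt hfa.minA.1).sub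
        rw [h1]; exact self_mem_opSpace hA₁.1
      obtain ⟨C, hC, hC0, hfC⟩ := hfa.of_mem hq hmem hA₁.2.1
      obtain ⟨v, hv, hvL, hvB⟩ := exists_flag_conj (K := L) hq.five hf₁ hfC (hq.opGroup_le_compGp hA hAA₁)
        (hq.opGroup_le_compGp hA (hAA₁.trans' hf₁.partner.conn))
        (hq.opGroup_le_compGp hA (hAA₁.trans' hfC.partner.conn))
      refine ⟨v, ⟨hvL, smul_spPt_of_mem (hN v hv.1) hA₁ (by rw [flag_conjOp hv]; exact self_mem_opSpace _)⟩, ?_⟩
      rw [smul_spPt_norm (hKG ha) hf₁.minB, smul_spPt_norm (hN v hv.1) hf₁.minB]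
      subst hvB
      exact (spPt_eq (IsMinOp.conjNorm (hKG ha) hf₁.minB) hC hC0).symm)
  set B₂ : E := conjOp u B₁
  have hB₂ : IsMinOp G B₂ := hf₁.minB.conj (hLG hu.1)
  have hT : ∀ a ∈ K, a • spPt hB₂.1 = spPt hB₂.1 := by
    intro a ha
    have := hufix a ha
    rwa [smul_spPt_norm (hN u (hLG hu.1)) hf₁.minB] at this
  obtain ⟨X₀, hX₀, hX₀0, hf₂⟩ : ∃ X₀, X₀ ∈ opSpace hA₁.1 ∧ X₀ ≠ 0 ∧ IsFrame G X₀ B₂ := by
    refine ⟨conjOp u A₁, ?_, (hA₁.conj (hLG hu.1)).2.1, hf₁.conj (hLG hu.1)⟩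
    have := mem_spPt_smul (g := u) (S := spPt hA₁.1) (self_mem_opSpace hA₁.1)
    rwa [show u • spPt hA₁.1 = _ from hu.2] at this
  have hS₂ : ∀ a ∈ K, a • spPt hf₂.minA.1 = spPt hf₂.minA.1 := by
    intro a ha
    rw [spPt_eq hA₁ hX₀ hX₀0]; exact hS a ha
  -- the fixed member
  have hKH : K ≤ Subgroup.normalizer (pairStab hf₂ : Set GLM) := by
    refine CfsgLib.Solvable.le_normalizer_of_conj_mem fun a ha x hx => ⟨?_, ?_, ?_⟩
    · exact (Subgroup.mem_normalizer_iff.1 (hKG ha) x).1 hx.1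
    · show (a * x * a⁻¹) • spPt hf₂.minA.1 = spPt hf₂.minA.1
      rw [mul_smul, mul_smul, hS₂ _ (inv_mem ha), show x • spPt hf₂.minA.1 = _ from hx.2.1, hS₂ a ha]
    · show (a * x * a⁻¹) • spPt hf₂.minB.1 = spPt hf₂.minB.1
      rw [mul_smul, mul_smul, hT _ (inv_mem ha), show x • spPt hf₂.minB.1 = _ from hx.2.2, hT a ha]
  obtain ⟨h, hh, hhfix⟩ := CfsgLib.Solvable.exists_fixed_point (Ω := ConjPt p M) K (pairStab hf₂) hKH
    (hcop' _ inf_le_left) (Or.inl hs) (X₀ : ConjPt p M) (by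
      intro a ha
      obtain ⟨l, hl, e⟩ := exists_pairStab_conj hq hf₂ hodd hKG hS₂ hT ha
      exact ⟨l, hl, e.symm⟩)
  set X : E := conjOp h X₀
  have hXfix : ∀ a ∈ K, conjOp a X = X := fun a ha => hhfix a ha
  have hXmem : X ∈ opSpace hf₂.minA.1 := pairStab_mem_opSpace hf₂ hh (self_mem_opSpace _)
  have hX0 : X ≠ 0 := (hf₂.minA.conj hh.1).2.1
  obtain ⟨Y, hY, hY0, hfXY⟩ := hf₂.of_mem hq hXmem hX0
  refine ⟨X, Y, hfXY, ?_, fun a ha => ⟨hXfix a ha, ?_⟩⟩
  · refine hAA₁.trans' ((hq.conn_mem hA₁ hX₀ hX₀0).trans' ?_)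
    exact hq.conn_mem hf₂.minA hXmem hX0
  · have hmem : conjOp a Y ∈ opSpace hfXY.minB.1 := by
      have h1 : spPt hfXY.minB.1 = spPt hB₂.1 := spPt_eq hf₂.minB hY hY0
      have h2 := mem_spPt_smul (g := a) (S := spPt hfXY.minB.1) (self_mem_opSpace hfXY.minB.1)
      rwa [h1, hT a ha, ← h1] at h2
    have hd : conjOp a Y - Y ∈ opSpace hfXY.minB.1 := sub_mem hmem (self_mem_opSpace _)
    have h3 : X * (conjOp a Y - Y) * X = 0 := by
      rw [mul_sub, sub_mul, hfXY.ABA]
      conv_lhs => arg 1; rw [← hXfix a ha, ← conjOp_mul, ← conjOp_mul, hfXY.ABA, hXfix a ha]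
      exact sub_self X
    refine sub_eq_zero.1 ?_
    by_contra hne
    refine triple_self_ne hfXY.symm hd hne ?_
    calc (conjOp a Y - Y) * X * (conjOp a Y - Y)
        = (conjOp a Y - Y) * X * ((conjOp a Y - Y) * (X * Y)) := by rw [mul_BA_of_mem hfXY.symm hd]
      _ = (conjOp a Y - Y) * (X * (conjOp a Y - Y) * X) * Y := by simp only [mul_assoc]
      _ = 0 := by rw [h3, mul_zero, zero_mul]

end CfsgLib.Flavell
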