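import Cfsg.Agent.Lib.Flavell.FixedFrame
import Cfsg.Agent.Lib.QuadPair.SL2Finite
import Cfsg.Agent.Lib.LocalEven.S4Section
import Cfsg.Agent.Lib.Cores.Basic
import Mathlib.GroupTheory.NoncommPiCoprod

/-!
A coprime solvable group `K` normalising a linear group `G` over `ZMod p` (`p ≥ 5`) which has no normal
`p`-subgroup but a quadratic element fixes the image of a nontrivial homomorphism `SL₂(p) → G`.
-/

set_option autoImplicit false

namespace CfsgLib.Flavell

open CfsgLib.QuadPair CfsgLib.SL2Ring LinearMap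

universe u v

variable {p : ℕ} [Fact p.Prime] {M : Type u} [AddCommGroup M] [Module (ZMod p) M]

local notation "GLM" => LinearMap.GeneralLinearGroup (ZMod p) M
local notation "E" => Module.End (ZMod p) M
local notation "SL2p" => Matrix.SpecialLinearGroup (Fin 2) (ZMod p)

variable {G : Subgroup (LinearMap.GeneralLinearGroup (ZMod p) M)} {A B X Y Z W : Module.End (ZMod p) M}

/-- The representation of `SL₂(p)` on a frame. -/
noncomputable def frameEnd (h : IsFrame G A B) : SL2p →* E where
  toFun g := eZ A B + g.1 0 0 • (A * B) + g.1 0 1 • A + g.1 1 0 • B + g.1 1 1 • (B * A)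
  map_one' := by
    simp only [Matrix.SpecialLinearGroup.coe_one, Matrix.one_apply_eq, Matrix.one_apply_ne (show (0 : Fin 2) ≠ 1 by decide),
      Matrix.one_apply_ne (show (1 : Fin 2) ≠ 0 by decide), one_smul, zero_smul, add_zero]
    rw [← eZ_add A B]; abel
  map_mul' g k := by
    simp only [entries_mul, add_mul, mul_add, smul_mul_assoc, mul_smul_comm, smul_smul, mul_assoc, mul_ABA h,
      mul_BAB h, mul_AA h, mul_BB h, ABA' h, BAB' h, h.AA, h.BB, A_eZ h, eZ_A h, B_eZ h, eZ_B h, eZ_idem h,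
      mul_A_eZ h, mul_eZ_A h, mul_B_eZ h, mul_eZ_B h, mul_zero, smul_zero, add_zero, zero_add, add_smul, smul_add]
    module

/-- The same representation by units. -/
noncomputable def frameHom (h : IsFrame G A B) : SL2p →* GLM := (frameEnd h).toHomUnits

theorem frameHom_val (h : IsFrame G A B) (g : SL2p) : ((frameHom h g : GLM) : E) =
    eZ A B + g.1 0 0 • (A * B) + g.1 0 1 • A + g.1 1 0 • B + g.1 1 1 • (B * A) := rfl

theorem frameHom_up (h : IsFrame G A B) (c : ZMod p) : frameHom h (up c) = unip (c • A) := by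
  refine Units.ext ?_
  rw [frameHom_val, unip_val (smul_sq h.AA c), ← eZ_add A B]
  simp [up]
  abel

theorem frameHom_lo (h : IsFrame G A B) (c : ZMod p) : frameHom h (lo c) = unip (c • B) := by
  refine Units.ext ?_
  rw [frameHom_val, unip_val (smul_sq h.BB c), ← eZ_add A B]
  simp [lo]
  abel

theorem frameHom_fixed (h : IsFrame G A B) {a : GLM} (hA : conjOp a A = A) (hB : conjOp a B = B) (g : SL2p) :
    a * frameHom h g * a⁻¹ = frameHom h g := by
  refine Units.ext ?_
  rw [Units.val_mul, Units.val_mul, ← conjOp_apply, frameHom_val]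
  simp only [eZ, map_add, map_sub, map_smul, conjOp_mul, conjOp_one, hA, hB]

theorem frameHom_mem (h : IsFrame G A B) {L : Subgroup GLM} (hA : ∀ c : ZMod p, unip (c • A) ∈ L)
    (hB : ∀ c : ZMod p, unip (c • B) ∈ L) (g : SL2p) : frameHom h g ∈ L := by
  have : L.comap (frameHom h) = ⊤ := eq_top_of_up_lo
    (fun x => by rw [Subgroup.mem_comap, frameHom_up]; exact hA x)
    (fun x => by rw [Subgroup.mem_comap, frameHom_lo]; exact hB x)
  exact Subgroup.mem_comap.1 (this ▸ Subgroup.mem_top g)

theorem frameHom_not_commute (h : IsFrame G A B) :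
    frameHom h (up 1) * frameHom h (lo 1) ≠ frameHom h (lo 1) * frameHom h (up 1) := by
  intro e
  rw [frameHom_up, frameHom_lo, one_smul, one_smul, Units.ext_iff, Units.val_mul, Units.val_mul, unip_val h.AA,
    unip_val h.BB] at e
  simp only [add_mul, mul_add, one_mul, mul_one] at e
  have e2 : A * B = B * A := by
    calc A * B = 1 + A + (B + A * B) - 1 - A - B := by abel
      _ = 1 + B + (A + B * A) - 1 - A - B := by rw [e]
      _ = B * A := by abel
  exact h.minA.2.1 (by rw [← h.ABA, e2, mul_assoc, h.AA, mul_zero])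

variable [FiniteDimensional (ZMod p) M]

theorem finite_GLM : Finite GLM := by
  haveI : Finite M := Module.finite_of_finite (ZMod p)
  exact Finite.of_injective (fun g : GLM => ((g : E) : M → M)) (DFunLike.coe_injective.comp Units.val_injective)

/-- Without a normal `p`-subgroup every minimal operator has a partner. -/
theorem qHyp_of_pCore (hp : 5 ≤ p) (hO : Cfsg.pCore p G = ⊥) : QHyp G := by
  refine ⟨hp, fun A hA => ?_⟩
  haveI : Finite M := Module.finite_of_finite (ZMod p)
  haveI : Finite GLM := finite_GLM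
  have h2 : (2 : ZMod p) ≠ 0 := by exact_mod_cast natCast_ne_zero_of_lt (n := 2) two_pos (by omega)
  by_contra hc
  push Not at hc
  let S : Set E := {X | ∃ g ∈ G, X = conjOp g A}
  have hSm : ∀ X ∈ S, IsMinOp G X := by rintro X ⟨g, hg, rfl⟩; exact hA.conj hg
  have hSn : ∀ X ∈ S, ∀ Y ∈ S, X * Y * X = 0 ∧ Y * X * Y = 0 := by
    rintro X ⟨g, hg, rfl⟩ Y ⟨h, hh, rfl⟩
    refine triple_zero (hA.conj hg) (hA.conj hh) h2 ?_
    have := isNilpotent_conjOp g (hc _ (hA.conj (mul_mem (inv_mem hg) hh)))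
    rwa [conjOp_pairSum, ← conjOp_comp, mul_inv_cancel_left] at this
  have hconj : ∀ x ∈ S, ∀ X ∈ S, X + (x * X - X * x) ∈ S := by
    intro x hx X hX
    have h0 := (hSn x hx X hX).1
    obtain ⟨g, hg, rfl⟩ := hX
    refine ⟨unip x * g, mul_mem (unip_mem (hSm x hx).1) hg, ?_⟩
    rw [conjOp_comp]
    generalize conjOp g A = X at h0 ⊢
    rw [conjOp_apply, unip_val (hSm x hx).1.1, unip_inv_val (hSm x hx).1.1]
    simp only [add_mul, mul_sub, one_mul, mul_one, h0]
    abel
  obtain ⟨N, hN⟩ := exists_span_pow_eq_bot hconj fun x hx y hy =>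
    pairSpan_cube_eq_bot (hSm x hx).1.1 (hSm y hy).1.1 (hSn x hx y hy).1 (hSn x hx y hy).2
  let T : Set ↥G := {t | ∃ g ∈ G, (t : GLM) = unip (conjOp g A)}
  let U := Subgroup.closure T
  haveI : U.Normal := by
    refine ⟨fun n hn g => ?_⟩
    have : U ≤ U.comap (MulAut.conj g).toMonoidHom := by
      rw [show U = Subgroup.closure T from rfl, Subgroup.closure_le]
      rintro t ⟨k, hk, ht⟩
      refine Subgroup.subset_closure ⟨g * k, mul_mem g.2 hk, ?_⟩
      show (g : GLM) * t * (g : GLM)⁻¹ = _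
      rw [ht, conjOp_unip _ (hA.conj hk).1.1, conjOp_comp]
    exact this hn
  set P := Submodule.span (ZMod p) S
  have hU : ∀ u ∈ U, ((u : GLM) : E) - 1 ∈ degGE P 1 := by
    intro u hu
    rw [← Subgroup.mem_toSubmonoid, Subgroup.closure_toSubmonoid_of_finite] at hu
    induction hu using Submonoid.closure_induction with
    | mem x hx =>
      obtain ⟨g, hg, e⟩ := hx
      rw [e, unip_val (hA.conj hg).1.1, add_sub_cancel_left]
      exact le_degGE_one (Submodule.subset_span ⟨g, hg, rfl⟩)
    | one => simp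
    | mul x y _ _ hx hy =>
      have e : (((x * y : G) : GLM) : E) - 1 = (((x : GLM) : E) - 1) * (((y : GLM) : E) - 1) +
          (((x : GLM) : E) - 1) + (((y : GLM) : E) - 1) := by
        rw [Subgroup.coe_mul, Units.val_mul]; noncomm_ring
      rw [e]
      exact add_mem (add_mem (mul_mem_degGE (by omega) hx hy) hx) hy
  have hpU : IsPGroup p U := by
    intro u
    have h1 : ((((u : G) : GLM) : E) - 1) ^ N = 0 := by
      have := Submodule.pow_mem_pow _ (hU _ u.2) N
      rw [le_bot_iff.1 ((pow_le_degGE_of_le (le_refl (degGE P 1)) N).trans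
        (degGE_eq_bot hN le_rfl).le)] at this
      simpa using this
    refine ⟨N, Subtype.ext (Subtype.ext (Units.ext ?_))⟩
    show ((((u : G) ^ p ^ N : G) : GLM) : E) = 1
    rw [SubmonoidClass.coe_pow, Units.val_pow_eq_pow_val,
      show (((u : G) : GLM) : E) = 1 + ((((u : G) : GLM) : E) - 1) by abel]
    by_cases hsub : Subsingleton E
    · exact Subsingleton.elim _ _
    haveI : Nontrivial E := not_subsingleton_iff_nontrivial.1 hsub
    haveI : CharP E p := charP_of_injective_algebraMap (algebraMap (ZMod p) E).injective p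
    rw [add_pow_char_pow_of_commute _ _ (Commute.one_left _), one_pow,
      pow_eq_zero_of_le (Nat.lt_pow_self (Fact.out : p.Prime).one_lt).le h1, add_zero]
  have hle : U ≤ Cfsg.pCore p G := CfsgLib.Cores.le_pCore hpU
  rw [hO] at hle
  have hmem : (⟨unip A, unip_mem hA.1⟩ : ↥G) ∈ U :=
    Subgroup.subset_closure ⟨1, one_mem G, by rw [conjOp_id]⟩
  exact hA.2.1 ((unip_eq_one_iff hA.1.1).1 (congrArg Subtype.val (Subgroup.mem_bot.1 (hle hmem))))

theorem exists_isMinOp {x : GLM} (hx : x ∈ G) (hx1 : x ≠ 1) (hq : ((x : E) - 1) * ((x : E) - 1) = 0) :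
    ∃ A : E, IsMinOp G A := by
  haveI : Finite M := Module.finite_of_finite (ZMod p)
  haveI : Finite E := Finite.of_injective (fun f : E => (f : M → M)) DFunLike.coe_injective
  obtain ⟨A, ⟨hA, hA0⟩, hmin⟩ := Set.exists_min_image {X : E | X ∈ opSet G ∧ X ≠ 0}
    (fun X => Module.finrank (ZMod p) (range X)) (Set.toFinite _)
    ⟨(x : E) - 1, mem_opSet_of_sq hx hq, sub_ne_zero.2 fun e => hx1 (Units.ext e)⟩
  exact ⟨A, hA, hA0, fun Y hY hY0 => hmin Y ⟨hY, hY0⟩⟩

theorem Conn.conjNorm {r : GLM} (hr : r ∈ Subgroup.normalizer (G : Set GLM)) (h : Conn G X Y) :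
    Conn G (conjOp r X) (conjOp r Y) := by
  induction h with
  | refl => exact .refl
  | tail _ hbc ih => exact ih.tail (hbc.conjNorm hr)

theorem smul_mem_class (hq : QHyp G) (hA : IsMinOp G A) (h : Conn G A X) (c : ZMod p) :
    unip (c • X) ∈ compGp G A := by
  rcases eq_or_ne (c • X) 0 with e | e
  · rw [e, unip_zero]; exact one_mem _
  · exact unip_mem_compGp (h.trans' (hq.conn_mem (h.min hA) (Submodule.smul_mem _ c (self_mem_opSpace _)) e))

/-- The groups of two classes commute. -/
theorem commute_of_classes (hq : QHyp G) (hA : IsMinOp G A) (hB : IsMinOp G B) (h : ¬ Conn G A B) {x y : GLM}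
    (hx : x ∈ compGp G A) (hy : y ∈ compGp G B) : Commute x y := by
  induction hy using Subgroup.closure_induction with
  | mem w hw =>
    obtain ⟨W, hW, rfl⟩ := hw
    have e := hq.commute_compGp hA (hW.min hB) (fun hc => h (hc.trans' hW.symm)) hx
    have : x * unip W * x⁻¹ = unip W := by rw [conjOp_unip x (hW.min hB).1.1, e]
    exact mul_inv_eq_iff_eq_mul.1 this
  | one => exact Commute.one_right x
  | mul a b _ _ ha hb => exact ha.mul_right hb
  | inv a _ ha => exact ha.inv_right

/-- A coprime solvable group of operators fixes an image of `SL₂(p)`. -/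
theorem exists_hom_fixed (hp : 5 ≤ p) (G K : Subgroup GLM) (hKG : K ≤ Subgroup.normalizer (G : Set GLM))
    (hcop : (Nat.card K).Coprime (Nat.card G)) (hs : Group.IsSolvable K) (hO : Cfsg.pCore p G = ⊥)
    {x : GLM} (hx : x ∈ G) (hx1 : x ≠ 1) (hxq : ((x : E) - 1) * ((x : E) - 1) = 0) :
    ∃ F : SL2p →* GLM, (∀ g, F g ∈ G ⊓ Subgroup.centralizer (K : Set GLM)) ∧ F (up 1) ≠ 1 := by
  classical
  haveI : Finite M := Module.finite_of_finite (ZMod p)
  haveI : Finite GLM := finite_GLM
  have hq := qHyp_of_pCore hp hO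
  obtain ⟨A, hA⟩ := exists_isMinOp hx hx1 hxq
  let K₁ : Subgroup GLM :=
    { carrier := {a | a ∈ K ∧ Conn G A (conjOp a A)}
      one_mem' := ⟨one_mem _, by rw [conjOp_id]; exact .refl⟩
      mul_mem' := by
        rintro a b ⟨ha, ha'⟩ ⟨hb, hb'⟩
        refine ⟨mul_mem ha hb, ?_⟩
        rw [conjOp_comp]
        exact ha'.trans' (hb'.conjNorm (hKG ha))
      inv_mem' := by
        rintro a ⟨ha, ha'⟩
        refine ⟨inv_mem ha, ?_⟩
        have h2 := ha'.conjNorm (hKG (inv_mem ha))
        rw [conjOp_inv_cancel] at h2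
        exact h2.symm }
  have hK₁ : K₁ ≤ K := fun a ha => ha.1
  -- the order of `K` is odd
  have heven : 2 ∣ Nat.card G := by
    obtain ⟨R₀, hR₀, hn₀⟩ := hq.partner A hA
    obtain ⟨B₀, -, -, hf₀⟩ := hq.exists_frame (X := A) (Y := R₀) ⟨hA, hR₀, hn₀⟩
    obtain ⟨z, hz, hzv, hzz⟩ := exists_invol hf₀
    have hz1 : z ≠ 1 := by
      intro e
      rw [e, Units.val_one] at hzv
      have e2 : (2 : ZMod p) • (A * B₀ + B₀ * A) = 0 := by
        rw [two_smul]
        calc A * B₀ + B₀ * A + (A * B₀ + B₀ * A)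
            = A * B₀ + eZ A B₀ + B₀ * A - (eZ A B₀ - A * B₀ - B₀ * A) := by abel
          _ = 0 := by rw [eZ_add, ← hzv, sub_self]
      have e3 := (smul_eq_zero.1 e2).resolve_left hq.two_ne
      refine hA.2.1 ?_
      rw [← hf₀.ABA]
      calc A * B₀ * A = (A * B₀ + B₀ * A) * A := by
            rw [add_mul, mul_assoc B₀, hf₀.AA, mul_zero, add_zero]
        _ = 0 := by rw [e3, zero_mul]
    rw [← show orderOf (⟨z, hz⟩ : G) = 2 from orderOf_eq_prime (by rw [pow_two]; exact Subtype.ext hzz)
      fun e => hz1 (congrArg Subtype.val e)]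
    exact orderOf_dvd_natCard _
  have hodd : Odd (Nat.card K₁) := by
    rw [← Nat.not_even_iff_odd, even_iff_two_dvd]
    intro h2
    exact Nat.not_coprime_of_dvd_of_dvd one_lt_two (h2.trans (Subgroup.card_dvd_of_le hK₁)) heven hcop
  obtain ⟨X, Y, hf, hAX, hfix⟩ := exists_fixed_frame hq K₁ (hK₁.trans hKG)
    (hcop.coprime_dvd_left (Subgroup.card_dvd_of_le hK₁)) (CfsgLib.Solvable.isSolvable_of_le hs hK₁) hodd hA
    fun a ha => ha.2
  let I := K ⧸ K₁.subgroupOf K
  letI : Fintype I := Fintype.ofFinite I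
  let rep : I → GLM := fun i => ((i.out : K) : GLM)
  have hrep : ∀ i, rep i ∈ K := fun i => (i.out : K).2
  let φ : I → (SL2p →* GLM) := fun i => (MulAut.conj (rep i)).toMonoidHom.comp (frameHom hf)
  have hφ : ∀ i g, φ i g = rep i * frameHom hf g * (rep i)⁻¹ := fun i g => rfl
  have hf' : ∀ i, IsFrame G (conjOp (rep i) X) (conjOp (rep i) Y) := fun i => hf.conjNorm (hKG (hrep i))
  have hXY : Conn G X Y := hf.partner.conn
  have hmemc : ∀ i g, φ i g ∈ compGp G (conjOp (rep i) X) := by
    intro i g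
    refine frameHom_mem hf (L := (compGp G (conjOp (rep i) X)).comap (MulAut.conj (rep i)).toMonoidHom)
      (fun c => ?_) (fun c => ?_) g <;> rw [Subgroup.mem_comap] <;>
      show rep i * _ * (rep i)⁻¹ ∈ _
    · rw [conjOp_unip _ (smul_sq hf.AA c), map_smul]
      exact smul_mem_class hq (hf' i).minA .refl c
    · rw [conjOp_unip _ (smul_sq hf.BB c), map_smul]
      exact smul_mem_class hq (hf' i).minA (hf' i).partner.conn c
  have hdist : ∀ i j, i ≠ j → ¬ Conn G (conjOp (rep i) X) (conjOp (rep j) X) := by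
    intro i j hij hc
    refine hij ?_
    rw [← i.out_eq', ← j.out_eq', QuotientGroup.eq, Subgroup.mem_subgroupOf]
    show (((i.out : K)⁻¹ * (j.out : K) : K) : GLM) ∈ K₁
    have hm : (rep i)⁻¹ * rep j ∈ K := mul_mem (inv_mem (hrep i)) (hrep j)
    refine ⟨hm, ?_⟩
    have h1 := hc.conjNorm (hKG (inv_mem (hrep i)))
    rw [conjOp_inv_cancel, ← conjOp_comp] at h1
    exact hAX.trans' (h1.trans' (hAX.conjNorm (hKG hm)).symm)
  have hcomm : Pairwise fun i j => ∀ g k, Commute (φ i g) (φ j k) := fun i j hij g k =>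
    commute_of_classes hq (hf' i).minA (hf' j).minA (hdist i j hij) (hmemc i g) (hmemc j k)
  set Ψ : (I → SL2p) →* GLM := MonoidHom.noncommPiCoprod φ hcomm with hΨ
  let diag : SL2p →* (I → SL2p) := MonoidHom.pi fun _ => MonoidHom.id _
  refine ⟨Ψ.comp diag, fun g => ⟨?_, ?_⟩, ?_⟩
  · show Finset.univ.noncommProd (fun i => φ i (diag g i)) (fun _ _ _ _ h => hcomm h _ _) ∈ G
    exact Subgroup.noncommProd_mem G _ fun i _ => compGp_le (hf' i).minA (hmemc i _)
  · show Ψ (diag g) ∈ Subgroup.centralizer (K : Set GLM)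
    rw [Subgroup.mem_centralizer_iff]
    intro a ha
    refine mul_inv_eq_iff_eq_mul.1 ?_
    let b : K := ⟨a, ha⟩
    let σ : I → I := fun i => b • i
    have hσ : Function.Bijective σ := MulAction.bijective b
    let perm : (I → SL2p) →* (I → SL2p) :=
      MonoidHom.pi fun i => Pi.evalMonoidHom (fun _ : I => SL2p) ((Equiv.ofBijective σ hσ).symm i)
    have hh : (MulAut.conj a).toMonoidHom.comp Ψ = Ψ.comp perm := by
      refine MonoidHom.pi_ext fun i k => ?_
      have hperm : perm (Pi.mulSingle i k) = Pi.mulSingle (σ i) k := by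
        funext j
        show (Pi.mulSingle i k : I → SL2p) ((Equiv.ofBijective σ hσ).symm j) = _
        rw [Pi.mulSingle_apply, Pi.mulSingle_apply]
        refine if_congr ?_ rfl rfl
        rw [Equiv.symm_apply_eq]
        rfl
      rw [MonoidHom.comp_apply, MonoidHom.comp_apply, hperm, MonoidHom.noncommPiCoprod_mulSingle,
        MonoidHom.noncommPiCoprod_mulSingle]
      show a * φ i k * a⁻¹ = φ (σ i) k
      have hcls : ((σ i).out)⁻¹ * (b * i.out) ∈ K₁.subgroupOf K := by
        rw [← QuotientGroup.eq, QuotientGroup.out_eq']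
        show σ i = b • ((i.out : K) : I)
        rw [QuotientGroup.out_eq']
      rw [Subgroup.mem_subgroupOf] at hcls
      obtain ⟨h1, h2⟩ := hfix _ hcls
      have hk := frameHom_fixed hf h1 h2 k
      rw [hφ, hφ]
      conv_rhs => rw [← hk]
      simp only [rep, Subgroup.coe_mul, Subgroup.coe_inv, mul_inv_rev, inv_inv, b]
      group
    have := DFunLike.congr_fun hh (diag g)
    rw [MonoidHom.comp_apply, MonoidHom.comp_apply] at this
    exact this
  · intro e
    obtain ⟨i₀⟩ : Nonempty I := ⟨(1 : K)⟩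
    have h1 : diag (up 1) * Pi.mulSingle i₀ (lo 1) * (diag (up 1))⁻¹ * (Pi.mulSingle i₀ (lo 1))⁻¹ =
        Pi.mulSingle i₀ (up 1 * lo 1 * (up 1)⁻¹ * (lo 1)⁻¹) := by
      funext j
      have hd : diag (up 1) j = up 1 := rfl
      rcases eq_or_ne j i₀ with rfl | hj
      · simp [hd]
      · simp [hd, hj]
    have h2 := congrArg Ψ h1
    rw [map_mul, map_mul, map_mul, map_inv, map_inv, show Ψ (diag (up 1)) = 1 from e, one_mul, inv_one, mul_one,
      mul_inv_cancel, MonoidHom.noncommPiCoprod_mulSingle] at h2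
    refine frameHom_not_commute hf ?_
    have h3 : frameHom hf (up 1 * lo 1 * (up 1)⁻¹ * (lo 1)⁻¹) = 1 := by
      rw [hφ, eq_comm, conj_eq_one_iff] at h2
      exact h2
    rw [map_mul, map_mul, map_mul, map_inv, map_inv, mul_inv_eq_one, mul_inv_eq_iff_eq_mul] at h3
    exact h3

/-- A homomorphism from `SL₂(p)` not killing `up 1` gives a section `L₂(p)`. -/
theorem involves_psl_of_hom (hp : 5 ≤ p) {H : Type v} [Group H] (F : SL2p →* H) (hF : F (up 1) ≠ 1) :
    Cfsg.Involves (Matrix.ProjectiveSpecialLinearGroup (Fin 2) (ZMod p)) H := by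
  have hker : F.ker ≤ Subgroup.center SL2p := by
    rcases normal_eq_top_or_scalar (F := ZMod p) (by rw [Nat.card_zmod]; omega) F.ker with h | h
    · exact absurd (MonoidHom.mem_ker.1 (h ▸ Subgroup.mem_top _)) hF
    · intro g hg
      obtain ⟨h01, h10, h00⟩ := h g hg
      rw [Subgroup.mem_center_iff]
      intro k
      apply ext_entries <;> rw [entries_mul, entries_mul] <;> simp only [h01, h10, h00] <;> ring
  let e := (QuotientGroup.quotientKerEquivRange F)
  let q : ↥F.range →* Matrix.ProjectiveSpecialLinearGroup (Fin 2) (ZMod p) :=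
    (QuotientGroup.map F.ker (Subgroup.center SL2p) (MonoidHom.id _) hker).comp e.symm.toMonoidHom
  refine CfsgLib.LocalEven.Offender.involves_of_hom F.range q ?_
  intro y
  obtain ⟨g, rfl⟩ := QuotientGroup.mk_surjective y
  refine ⟨e (QuotientGroup.mk g), ?_⟩
  simp only [q, MonoidHom.comp_apply, MulEquiv.coe_toMonoidHom, MulEquiv.symm_apply_apply]
  rfl

end CfsgLib.Flavell
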