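import Cfsg.Agent.Lib.Flavell.FixedSL2
import Cfsg.Agent.Lib.Techniques.ChiefTools
import Cfsg.Agent.Lib.PStab.ZJ
import Cfsg.Agent.Lib.Transfer.PStableQuot
import Cfsg.Agent.Lib.OpFitCoprime.Fit
import Cfsg.Agent.S0205

/-!
The `ZJ` theorem under coprime action: for `p ≥ 5` a `p`-constrained group is `O_{p'}(G) N(Z(J(S)))` when the fixed
points of a group of automorphisms of coprime order involve no `L₂(p)`.  In the semidirect product only the
`p`-subgroups normalised by the operators have to be stable, and a quadratic element on a chief factor inside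
one gives an `SL₂(p)` among the fixed points.
-/

set_option autoImplicit false
set_option linter.unusedSectionVars false

namespace CfsgLib.Flavell

open Subgroup Cfsg
open scoped commutatorElement Pointwise

universe u

variable {Y : Type u} [Group Y]

/-- An action by automorphisms on a commutative group, read linearly. -/
noncomputable def autLin (p : ℕ) {A : Type u} [CommGroup A] [Module (ZMod p) (Additive A)]
    (φ : Y →* MulAut A) : Y →* Module.End (ZMod p) (Additive A) where
  toFun y := (MonoidHom.toAdditive (φ y).toMonoidHom).toZModLinearMap p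
  map_one' := by
    refine LinearMap.ext fun v => ?_
    show Additive.ofMul (φ 1 (Additive.toMul v)) = v
    rw [map_one]; rfl
  map_mul' a b := by
    refine LinearMap.ext fun v => ?_
    show Additive.ofMul (φ (a * b) (Additive.toMul v)) = Additive.ofMul (φ a (φ b (Additive.toMul v)))
    rw [map_mul, MulAut.mul_apply]

variable [Finite Y] {p : ℕ} [hp : Fact p.Prime]

/-- The linear representation on a `p`-chief factor, with an element acting quadratically on it. -/
theorem exists_chiefRep {U V : Subgroup Y} (hUV : IsChiefFactor U V) (hU : IsPGroup p U) {g : Y}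
    (hq : ⁅⁅U, zpowers g⁆, zpowers g⁆ ≤ V) :
    ∃ (M : Type u) (_ : AddCommGroup M) (_ : Module (ZMod p) M) (_ : Finite M)
      (ρ : Y →* LinearMap.GeneralLinearGroup (ZMod p) M),
      (∀ S : Submodule (ZMod p) M, (∀ y : Y, ∀ v ∈ S, (ρ y : Module.End (ZMod p) M) v ∈ S) → S = ⊥ ∨ S = ⊤) ∧
      ((ρ g : Module.End (ZMod p) M) - 1) * ((ρ g : Module.End (ZMod p) M) - 1) = 0 ∧
      (ρ g = 1 → ⁅U, zpowers g⁆ ≤ V) := by
  classical
  haveI := hUV.2.1
  haveI := hUV.2.2.1
  set π := QuotientGroup.mk' V
  set W := U.map π with hW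
  haveI hWn : W.Normal := Subgroup.Normal.map inferInstance π (QuotientGroup.mk'_surjective V)
  have hUU := Techniques.Chief.chief_comm hUV hU
  haveI hWc : IsMulCommutative ↥W := ⟨⟨fun ⟨a, u, hu, hau⟩ ⟨b, v, hv, hbv⟩ => Subtype.ext (by
    show a * b = b * a
    rw [← hau, ← hbv, ← commutatorElement_eq_one_iff_mul_comm, ← map_commutatorElement]
    exact (QuotientGroup.eq_one_iff _).2 (hUU (commutator_mem_commutator hu hv)))⟩⟩
  letI : CommGroup ↥W := { (inferInstance : Group ↥W) with mul_comm := fun x y => IsMulCommutative.is_comm.comm x y }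
  have hexp : ∀ w : ↥W, w ^ p = 1 := by
    let W' : Subgroup Y :=
      { carrier := {u | u ∈ U ∧ π u ^ p = 1}
        one_mem' := ⟨U.one_mem, by rw [map_one, one_pow]⟩
        mul_mem' := fun {x y} hx hy => ⟨U.mul_mem hx.1 hy.1, by
          have hc : Commute (π x) (π y) := congrArg Subtype.val
            (IsMulCommutative.is_comm.comm (⟨π x, mem_map_of_mem π hx.1⟩ : W) ⟨π y, mem_map_of_mem π hy.1⟩)
          rw [map_mul, hc.mul_pow, hx.2, hy.2, one_mul]⟩
        inv_mem' := fun {x} hx => ⟨U.inv_mem hx.1, by rw [map_inv, inv_pow, hx.2, inv_one]⟩ }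
    have hW'n : W'.Normal := ⟨fun n hn y => ⟨hUV.2.1.conj_mem n hn.1 y, by
      rw [map_mul, map_mul, map_inv, conj_pow, hn.2, mul_one, mul_inv_cancel]⟩⟩
    have hVW' : V ≤ W' := fun v hv => ⟨hUV.1.le hv, by
      rw [show π v = 1 from (QuotientGroup.eq_one_iff v).2 hv, one_pow]⟩
    rcases hUV.2.2.2 W' hW'n hVW' (fun u hu => hu.1) with h | h
    · exfalso
      obtain ⟨u, hu, huV⟩ := SetLike.exists_of_lt hUV.1
      obtain ⟨k, hk⟩ := hU ⟨u, hu⟩
      have hk' : π u ^ p ^ k = 1 := by rw [← map_pow, show u ^ p ^ k = 1 by simpa using congrArg Subtype.val hk, map_one]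
      clear hk
      induction k generalizing u with
      | zero => exact huV ((QuotientGroup.eq_one_iff u).1 (show π u = 1 by simpa using hk'))
      | succ k ih =>
        by_cases h1 : u ^ p ∈ V
        · refine huV (h ▸ (⟨hu, ?_⟩ : u ∈ W'))
          rw [← map_pow]; exact (QuotientGroup.eq_one_iff _).2 h1
        · exact ih (u ^ p) (U.pow_mem hu p) h1 (by rw [map_pow, ← pow_mul, ← pow_succ']; exact hk')
    · rintro ⟨_, u, hu, rfl⟩
      exact Subtype.ext (by simpa using (h.ge hu : u ∈ W').2)
  letI : Module (ZMod p) (Additive ↥W) := AddCommGroup.zmodModule (n := p) fun x =>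
    congrArg Additive.ofMul (hexp (Additive.toMul x))
  let ρ : Y →* LinearMap.GeneralLinearGroup (ZMod p) (Additive ↥W) := (autLin p ((MulAut.conjNormal (H := W)).comp π)).toHomUnits
  have hρ : ∀ (y : Y) (v : Additive ↥W), ((ρ y : Module.End (ZMod p) (Additive ↥W)) v) =
      Additive.ofMul ((MulAut.conjNormal (π y) : MulAut ↥W) (Additive.toMul v)) := fun _ _ => rfl
  refine ⟨Additive ↥W, inferInstance, inferInstance, inferInstanceAs (Finite ↥W), ρ, ?_, ?_, ?_⟩
  · intro S hS
    let N : Subgroup Y :=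
      { carrier := {u | ∃ hu : u ∈ U, Additive.ofMul (⟨π u, mem_map_of_mem π hu⟩ : W) ∈ S}
        one_mem' := ⟨U.one_mem, by
          rw [show (⟨π 1, mem_map_of_mem π U.one_mem⟩ : W) = 1 from Subtype.ext (map_one π)]; exact S.zero_mem⟩
        mul_mem' := by
          rintro x y ⟨hx, hxS⟩ ⟨hy, hyS⟩
          refine ⟨U.mul_mem hx hy, ?_⟩
          rw [show (⟨π (x * y), mem_map_of_mem π (U.mul_mem hx hy)⟩ : W) =
            ⟨π x, mem_map_of_mem π hx⟩ * ⟨π y, mem_map_of_mem π hy⟩ from Subtype.ext (map_mul π x y)]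
          exact S.add_mem hxS hyS
        inv_mem' := by
          rintro x ⟨hx, hxS⟩
          refine ⟨U.inv_mem hx, ?_⟩
          rw [show (⟨π x⁻¹, mem_map_of_mem π (U.inv_mem hx)⟩ : W) =
            (⟨π x, mem_map_of_mem π hx⟩ : W)⁻¹ from Subtype.ext (map_inv π x)]
          exact S.neg_mem hxS }
    have hNn : N.Normal := by
      refine ⟨fun n hn y => ?_⟩
      obtain ⟨hu, hnS⟩ := hn
      refine ⟨hUV.2.1.conj_mem n hu y, ?_⟩
      have := hS y _ hnS
      rw [hρ] at this
      convert this using 2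
      exact Subtype.ext (by simp)
    have hVN : V ≤ N := fun v hv => ⟨hUV.1.le hv, by
      rw [show (⟨π v, mem_map_of_mem π (hUV.1.le hv)⟩ : W) = 1 from
        Subtype.ext ((QuotientGroup.eq_one_iff v).2 hv)]
      exact S.zero_mem⟩
    rcases hUV.2.2.2 N hNn hVN (fun _ hu => hu.1) with h | h
    · left
      refine (Submodule.eq_bot_iff S).2 ?_
      rintro x hx
      obtain ⟨⟨_, u, hu, rfl⟩, rfl⟩ := Additive.ofMul.surjective x
      have : u ∈ V := h ▸ (⟨hu, hx⟩ : u ∈ N)
      exact congrArg Additive.ofMul (Subtype.ext ((QuotientGroup.eq_one_iff u).2 this))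
    · right
      refine Submodule.eq_top_iff'.2 fun x => ?_
      obtain ⟨⟨_, u, hu, rfl⟩, rfl⟩ := Additive.ofMul.surjective x
      exact (h.ge hu : u ∈ N).2
  · refine LinearMap.ext fun v => ?_
    obtain ⟨⟨_, u, hu, rfl⟩, rfl⟩ := Additive.ofMul.surjective v
    have key : ∀ (w : Y) (hw : w ∈ U), ((ρ g : Module.End (ZMod p) (Additive ↥W)) - 1)
        (Additive.ofMul (⟨π w, mem_map_of_mem π hw⟩ : W)) =
        Additive.ofMul (⟨π ⁅g, w⁆, mem_map_of_mem π (by
          rw [commutatorElement_def]; exact U.mul_mem (hUV.2.1.conj_mem w hw g) (U.inv_mem hw))⟩ : W) := by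
      intro w hw
      rw [LinearMap.sub_apply, hρ, Module.End.one_apply, ← ofMul_div]
      refine congrArg Additive.ofMul (Subtype.ext ?_)
      simp [div_eq_mul_inv, commutatorElement_def]
    have hgu : ⁅g, u⁆ ∈ U := by
      rw [commutatorElement_def]; exact U.mul_mem (hUV.2.1.conj_mem u hu g) (U.inv_mem hu)
    rw [Module.End.mul_apply, key u hu, key _ hgu, LinearMap.zero_apply]
    refine congrArg Additive.ofMul (Subtype.ext ((QuotientGroup.eq_one_iff _).2 ?_))
    rw [← commutatorElement_inv ⁅g, u⁆ g]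
    refine V.inv_mem (hq (commutator_mem_commutator ?_ (mem_zpowers g)))
    rw [← commutatorElement_inv u g]
    exact (⁅U, zpowers g⁆).inv_mem (commutator_mem_commutator hu (mem_zpowers g))
  · intro hx
    refine Techniques.Chief.commutator_zpowers_le (Techniques.Chief.mem_normalizer_of_normal V g) fun u hu => ?_
    have h1 := congrArg (fun e : LinearMap.GeneralLinearGroup (ZMod p) (Additive ↥W) =>
      (e : Module.End (ZMod p) (Additive ↥W)) (Additive.ofMul (⟨π u, mem_map_of_mem π hu⟩ : W))) hx
    simp only [Units.val_one, Module.End.one_apply, hρ] at h1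
    have h2 : π g * π u * (π g)⁻¹ = π u := by
      simpa using congrArg (fun w : Additive ↥W => ((Additive.toMul w : ↥W) : Y ⧸ V)) h1
    refine (QuotientGroup.eq_one_iff _).1 ?_
    show π ⁅u, g⁆ = 1
    rw [map_commutatorElement, commutatorElement_eq_one_iff_mul_comm]
    exact (mul_inv_eq_iff_eq_mul.1 h2).symm

section Linear

open LinearMap

variable {M : Type u} [AddCommGroup M] [Module (ZMod p) M]

/-- A normal subgroup of an irreducible linear group has no nontrivial normal `p`-subgroup. -/
theorem pCore_eq_bot_of_irreducible [Finite M] (G : Subgroup (GeneralLinearGroup (ZMod p) M)) (T : Subgroup (GeneralLinearGroup (ZMod p) M))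
    (hT : T ≤ normalizer (G : Set (GeneralLinearGroup (ZMod p) M)))
    (hirr : ∀ S : Submodule (ZMod p) M, (∀ y ∈ T, ∀ v ∈ S, (y : Module.End (ZMod p) M) v ∈ S) → S = ⊥ ∨ S = ⊤) :
    pCore p G = ⊥ := by
  haveI : FiniteDimensional (ZMod p) M := Module.Finite.of_finite
  haveI : Finite (GeneralLinearGroup (ZMod p) M) := finite_GLM
  set U := (pCore p G).map G.subtype with hU
  have hUp : IsPGroup p U := (CfsgLib.Cores.isPGroup_pCore p).map _
  have hTU : T ≤ normalizer (U : Set (GeneralLinearGroup (ZMod p) M)) := by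
    haveI : (pCore p G).Characteristic := CfsgLib.Cores.pCore_characteristic p
    exact CfsgLib.OpFitCoprime.le_normalizer_map_char hT
  let W : Submodule (ZMod p) M :=
    { carrier := {v | ∀ u ∈ U, (u : Module.End (ZMod p) M) v = v}
      zero_mem' := fun u _ => map_zero _
      add_mem' := fun {a b} ha hb u hu => by rw [map_add, ha u hu, hb u hu]
      smul_mem' := fun c a ha u hu => by rw [map_smul, ha u hu] }
  have hinv : ∀ y ∈ T, ∀ v ∈ W, (y : Module.End (ZMod p) M) v ∈ W := by
    intro y hy v hv u hu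
    have h1 := (mem_normalizer_iff.1 (hTU hy) (y⁻¹ * u * y)).2 (by simpa [mul_assoc] using hu)
    have h2 := congrArg (fun w : M => (y : Module.End (ZMod p) M) w) (hv _ h1)
    simp only [Units.val_mul, Module.End.mul_apply] at h2
    rwa [← Module.End.mul_apply (y : Module.End (ZMod p) M), Units.mul_inv, Module.End.one_apply] at h2
  rw [eq_bot_iff]
  intro g hg
  rcases hirr W hinv with h | h
  · refine Subtype.ext (Units.ext (LinearMap.ext fun v => ?_))
    by_contra hne
    haveI : Nontrivial M := by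
      by_contra hn
      haveI := not_nontrivial_iff_subsingleton.1 hn
      exact hne (Subsingleton.elim _ _)
    have hd : p ∣ Nat.card M := by
      rw [Module.natCard_eq_pow_finrank (K := ZMod p), Nat.card_zmod]
      exact dvd_pow_self p Module.finrank_pos.ne'
    obtain ⟨b, hb, hb0⟩ := hUp.exists_fixed_point_of_prime_dvd_card_of_fixed_point M hd
      (a := (0 : M)) (fun u => map_zero _)
    have : b ∈ W := fun u hu => hb ⟨u, hu⟩
    rw [h, Submodule.mem_bot] at this
    exact hb0 this.symm
  · refine Subtype.ext (Units.ext (LinearMap.ext fun v => ?_))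
    exact (h.ge Submodule.mem_top : v ∈ W) g (mem_map_of_mem _ hg)

end Linear

/-- Every normal `p`-subgroup is stable if the fixed points of the operators involve no `L₂(p)`. -/
theorem isPStableOn_of_fixed (hp5 : 5 ≤ p) (G K : Subgroup Y) [G.Normal] (hGK : G ⊔ K = ⊤)
    (hcop : (Nat.card K).Coprime (Nat.card G)) (hs : Group.IsSolvable K) (hpK : (Nat.card K).Coprime p)
    (hfree : ¬ Involves (Matrix.ProjectiveSpecialLinearGroup (Fin 2) (ZMod p)) ↥(G ⊓ centralizer (K : Set Y)))
    (B : Subgroup Y) [B.Normal] (hB : IsPGroup p B) : IsPStableOn p B := by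
  intro a hq
  have hKG : K ≤ normalizer (G : Set Y) := by rw [normalizer_eq_top]; exact le_top
  have ha : a ∈ Techniques.Chief.chiefKer B := by
    intro U V hUV hUB u hu
    have hU : IsPGroup p U := hB.to_le hUB
    have hqU : ⁅⁅U, zpowers a⁆, zpowers a⁆ ≤ V :=
      ((commutator_mono (commutator_mono hUB le_rfl) le_rfl).trans hq.le).trans bot_le
    obtain ⟨M, _, _, _, ρ, hirr, hsq, hone⟩ := exists_chiefRep hUV hU hqU
    refine hone ?_ (commutator_mem_commutator hu (mem_zpowers a))
    by_contra hne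
    haveI : FiniteDimensional (ZMod p) M := Module.Finite.of_finite
    haveI : Finite (LinearMap.GeneralLinearGroup (ZMod p) M) := finite_GLM
    -- `ρ a` has order `p`, so lies in the image of `G`
    have hap : ρ a ^ p = 1 := by
      refine Units.ext ?_
      rw [Units.val_pow_eq_pow_val, show (ρ a : Module.End (ZMod p) M) = 1 + ((ρ a : Module.End (ZMod p) M) - 1) by abel,
        one_add_pow_p (by omega) (by rw [hsq, zero_mul]), Units.val_one]
    have hak : ρ a ^ Nat.card K ∈ G.map ρ := by
      rw [← map_pow]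
      refine mem_map_of_mem ρ ?_
      rw [← QuotientGroup.eq_one_iff]
      obtain ⟨k, hk, e⟩ : ∃ k ∈ K, (k : Y ⧸ G) = (a : Y ⧸ G) := by
        have : a ∈ ((G : Set Y) * (K : Set Y)) := by
          rw [← normal_mul, hGK]; exact mem_top a
        obtain ⟨g, hg, k, hk, rfl⟩ := this
        refine ⟨k, hk, ?_⟩
        show QuotientGroup.mk' G k = QuotientGroup.mk' G (g * k)
        rw [map_mul, show QuotientGroup.mk' G g = 1 from (QuotientGroup.eq_one_iff g).2 hg, one_mul]
      rw [QuotientGroup.mk_pow, ← e, ← QuotientGroup.mk_pow,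
        show k ^ Nat.card K = 1 from congrArg Subtype.val (pow_card_eq_one' (x := (⟨k, hk⟩ : K))), QuotientGroup.mk_one]
    have hmem : ρ a ∈ G.map ρ := by
      obtain ⟨m, hm⟩ : ∃ m : ℕ, (ρ a ^ Nat.card K) ^ m = ρ a := by
        refine exists_pow_eq_self_of_coprime ?_
        exact hpK.coprime_dvd_right (orderOf_dvd_of_pow_eq_one hap)
      exact hm ▸ pow_mem hak m
    have hrange : ρ.range ≤ normalizer ((G.map ρ : Subgroup _) : Set _) := by
      rw [MonoidHom.range_eq_map, ← normalizer_eq_top (H := G)]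
      exact le_normalizer_map ρ
    have hO : pCore p ↥(G.map ρ) = ⊥ :=
      pCore_eq_bot_of_irreducible _ ρ.range hrange fun S hS => hirr S fun y => hS _ ⟨y, rfl⟩
    haveI hKs : Group.IsSolvable ↥(K.map ρ) :=
      Group.isSolvable_of_surjective (f := ρ.subgroupMap K) (ρ.subgroupMap_surjective K)
    obtain ⟨F, hF, hF1⟩ := exists_hom_fixed hp5 (G.map ρ) (K.map ρ) ((map_mono hKG).trans (le_normalizer_map ρ))
      ((hcop.coprime_dvd_left (card_map_dvd _ _)).coprime_dvd_right (card_map_dvd _ _)) hKs hO hmem hne hsq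
    set C := G ⊓ centralizer (K : Set Y)
    have hle : G.map ρ ⊓ centralizer ((K.map ρ : Subgroup _) : Set _) ≤ C.map ρ := by
      rintro _ ⟨⟨x, hx, rfl⟩, hc⟩
      obtain ⟨n, hn, hnc⟩ := CfsgLib.Solvable.exists_mul_mem_centralizer K (G ⊓ ρ.ker)
        (by rw [normalizer_eq_top]; exact le_top) (hcop.coprime_dvd_right (card_dvd_of_le inf_le_left)) (Or.inl hs) x
        fun k hk => ⟨by
          rw [commutatorElement_def]; exact G.mul_mem ((inferInstance : G.Normal).conj_mem x hx k) (G.inv_mem hx),
          MonoidHom.mem_ker.2 (by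
            rw [map_commutatorElement, commutatorElement_eq_one_iff_mul_comm]
            exact mem_centralizer_iff.1 hc _ (mem_map_of_mem ρ hk))⟩
      exact ⟨n * x, ⟨G.mul_mem hn.1 hx, hnc⟩, by rw [map_mul, MonoidHom.mem_ker.1 hn.2, one_mul]⟩
    let F' : Matrix.SpecialLinearGroup (Fin 2) (ZMod p) →* ↥(C.map ρ) :=
      F.codRestrict _ fun g => hle (hF g)
    refine hfree (CfsgLib.LocalEven.Offender.involves_of_surjective (ρ.subgroupMap C) (ρ.subgroupMap_surjective C)
      (involves_psl_of_hom hp5 F' fun e => hF1 (congrArg Subtype.val e)))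
  set C := centralizer (B : Set Y)
  haveI hn : (Techniques.Chief.chiefKer B).Normal := by
    refine ⟨fun x hx g U V hUV hUB u hu => ?_⟩
    have h1 := hx U V hUV hUB (g⁻¹ * u * g⁻¹⁻¹) (hUV.2.1.conj_mem u hu g⁻¹)
    have h2 := hUV.2.2.1.conj_mem _ h1 g
    rw [Techniques.Chief.elt_conj] at h2
    convert h2 using 2
    group
  haveI : ((Techniques.Chief.chiefKer B).map (QuotientGroup.mk' C)).Normal :=
    hn.map _ (QuotientGroup.mk'_surjective C)
  refine CfsgLib.Cores.le_pCore (N := (Techniques.Chief.chiefKer B).map (QuotientGroup.mk' C))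
    (Techniques.Chief.isPGroup_map_of_coprime _ fun k hk hcopk => ?_) (mem_map_of_mem (QuotientGroup.mk' C) ha)
  exact (QuotientGroup.eq_one_iff k).2 (Techniques.Chief.centralizes_of_coprime hB hk hcopk)

/-- The theorem on `G` itself, with operators inside an overgroup. -/
theorem zjGen_normal_of_fixed (hp5 : 5 ≤ p) (G K : Subgroup Y) [G.Normal] (hGK : G ⊔ K = ⊤)
    (hcop : (Nat.card K).Coprime (Nat.card G)) (hs : Group.IsSolvable K) (hpK : (Nat.card K).Coprime p)
    (hfree : ¬ Involves (Matrix.ProjectiveSpecialLinearGroup (Fin 2) (ZMod p)) ↥(G ⊓ centralizer (K : Set Y)))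
    (hc : centralizer (pCore p Y : Set Y) ≤ pCore p Y) (S : Sylow p Y) :
    (PStab.zjGen 0 (S : Subgroup Y)).Normal :=
  PStab.zjGen_normal (by omega) (fun B _ hB => isPStableOn_of_fixed hp5 G K hGK hcop hs hpK hfree B hB) (Or.inl rfl) S
    ⟨le_rfl, fun _ _ _ h => h⟩ hc

end CfsgLib.Flavell
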