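import Cfsg.Agent.Lib.QuadPair.Geometry
import Cfsg.Agent.Lib.QuadPair.ClassTwo

/-!
Quadratic groups over `ZMod p`, `p ≥ 5`: frames `(A, B)` of minimal operators with `ABA = A`, `BAB = B`, their
weight idempotents, the torus, the flag subgroup of `A`, and the operation `D ↦ BDB`.
-/

set_option autoImplicit false

namespace CfsgLib.Flavell

open CfsgLib.QuadPair LinearMap

universe u

variable {p : ℕ} [Fact p.Prime] {M : Type u} [AddCommGroup M] [Module (ZMod p) M]

local notation "GLM" => LinearMap.GeneralLinearGroup (ZMod p) M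
local notation "E" => Module.End (ZMod p) M

variable {G : Subgroup (LinearMap.GeneralLinearGroup (ZMod p) M)} {A B C D X Y : Module.End (ZMod p) M}

/-- The standing hypothesis: `p ≥ 5` and every minimal operator has a non-nilpotent partner. -/
structure QHyp (G : Subgroup GLM) : Prop where
  five : 5 ≤ p
  partner : ∀ A : E, IsMinOp G A → ∃ R, IsMinOp G R ∧ ¬ IsNilpotent (pairSum A R)

theorem QHyp.two_ne (h : QHyp G) : (2 : ZMod p) ≠ 0 := by
  intro e
  have h2 := (ZMod.natCast_eq_zero_iff 2 p).1 (by simpa using e)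
  have := Nat.le_of_dvd two_pos h2
  have := h.five
  omega

theorem QHyp.card_ne (h : QHyp G) : Nat.card (ZMod p) ≠ 3 := by
  rw [Nat.card_zmod]
  have := h.five
  omega

/-- A frame: two minimal operators inverse to one another. -/
structure IsFrame (G : Subgroup GLM) (A B : E) : Prop where
  minA : IsMinOp G A
  minB : IsMinOp G B
  inv : IsInvPair A B

theorem IsFrame.symm (h : IsFrame G A B) : IsFrame G B A := ⟨h.minB, h.minA, h.inv.symm⟩

theorem IsFrame.AA (h : IsFrame G A B) : A * A = 0 := h.minA.1.1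
theorem IsFrame.BB (h : IsFrame G A B) : B * B = 0 := h.minB.1.1
theorem IsFrame.ABA (h : IsFrame G A B) : A * B * A = A := h.inv.1
theorem IsFrame.BAB (h : IsFrame G A B) : B * A * B = B := h.inv.2

/-- The idempotent of weight zero. -/
def eZ (A B : E) : E := 1 - A * B - B * A

theorem eZ_symm (A B : E) : eZ B A = eZ A B := by simp only [eZ]; abel

section Idem

variable (h : IsFrame G A B)
include h

theorem mul_ABA (x : E) : A * (B * (A * x)) = A * x := by
  rw [← mul_assoc, ← mul_assoc, h.ABA]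
theorem mul_BAB (x : E) : B * (A * (B * x)) = B * x := by
  rw [← mul_assoc, ← mul_assoc, h.BAB]
theorem mul_AA (x : E) : A * (A * x) = 0 := by rw [← mul_assoc, h.AA, zero_mul]
theorem mul_BB (x : E) : B * (B * x) = 0 := by rw [← mul_assoc, h.BB, zero_mul]
theorem ABA' : A * (B * A) = A := by rw [← mul_assoc, h.ABA]
theorem BAB' : B * (A * B) = B := by rw [← mul_assoc, h.BAB]

theorem A_eZ : A * eZ A B = 0 := by
  simp only [eZ, mul_sub, mul_one, mul_AA h, ABA' h]; abel
theorem eZ_A : eZ A B * A = 0 := by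
  simp only [eZ, sub_mul, one_mul, mul_assoc, h.AA, mul_zero, ABA' h]; abel
theorem B_eZ : B * eZ A B = 0 := by
  simp only [eZ, mul_sub, mul_one, mul_BB h, BAB' h]; abel
theorem eZ_B : eZ A B * B = 0 := by
  simp only [eZ, sub_mul, one_mul, mul_assoc, h.BB, mul_zero, BAB' h]; abel
theorem eZ_idem : eZ A B * eZ A B = eZ A B := by
  conv_lhs => arg 1; rw [eZ]
  simp only [sub_mul, one_mul, mul_assoc, B_eZ h, A_eZ h, mul_zero, sub_zero]
theorem mul_A_eZ (x : E) : A * (eZ A B * x) = 0 := by rw [← mul_assoc, A_eZ h, zero_mul]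
theorem mul_eZ_A (x : E) : eZ A B * (A * x) = 0 := by rw [← mul_assoc, eZ_A h, zero_mul]
theorem mul_B_eZ (x : E) : B * (eZ A B * x) = 0 := by rw [← mul_assoc, B_eZ h, zero_mul]
theorem mul_eZ_B (x : E) : eZ A B * (B * x) = 0 := by rw [← mul_assoc, eZ_B h, zero_mul]
theorem mul_eZ_idem (x : E) : eZ A B * (eZ A B * x) = eZ A B * x := by rw [← mul_assoc, eZ_idem h]

end Idem

/-- Normal form for products in a frame. -/
macro "frame_simp" h:term : tactic =>
  `(tactic| simp only [mul_assoc, mul_ABA $h, mul_BAB $h, mul_AA $h, mul_BB $h, ABA' $h, BAB' $h,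
    IsFrame.AA $h, IsFrame.BB $h, A_eZ $h, eZ_A $h, B_eZ $h, eZ_B $h, eZ_idem $h, mul_A_eZ $h, mul_eZ_A $h,
    mul_B_eZ $h, mul_eZ_B $h, mul_eZ_idem $h, mul_add, add_mul, mul_sub, sub_mul, mul_zero, zero_mul, one_mul,
    mul_one, smul_mul_assoc, mul_smul_comm, smul_zero, add_zero, zero_add, sub_zero, zero_sub, mul_neg, neg_mul,
    neg_zero, smul_add, smul_sub, smul_neg, neg_neg])

theorem eZ_add (A B : E) : A * B + eZ A B + B * A = 1 := by simp only [eZ]; abel

theorem one_add_pow_p (hp : 3 ≤ p) {x : E} (h3 : x * x * x = 0) : (1 + x) ^ p = 1 := by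
  have key : ∀ n : ℕ, (1 + x) ^ n = 1 + (n : ZMod p) • x + ((n.choose 2 : ℕ) : ZMod p) • (x * x) := by
    intro n
    induction n with
    | zero => simp
    | succ n ih =>
      rw [pow_succ, ih, Nat.choose_succ_succ, Nat.choose_one_right]
      push_cast
      simp only [add_mul, mul_add, mul_one, one_mul, smul_mul_assoc, h3, smul_zero, add_smul, one_smul]
      abel
  rw [key p]
  have h2 : ((p.choose 2 : ℕ) : ZMod p) = 0 := by
    rw [ZMod.natCast_eq_zero_iff]
    exact (Fact.out : p.Prime).dvd_choose_self two_ne_zero (by omega)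
  rw [h2]
  simp

theorem mem_opSet_of_sq {g : GLM} (hg : g ∈ G) (hq : ((g : E) - 1) * ((g : E) - 1) = 0) :
    (g : E) - 1 ∈ opSet G := by
  refine ⟨hq, fun c => ?_⟩
  have e : ∀ n : ℕ, ((g ^ n : GLM) : E) = 1 + (n : ZMod p) • ((g : E) - 1) := by
    intro n
    induction n with
    | zero => simp
    | succ n ih =>
      rw [pow_succ, Units.val_mul, ih]
      nth_rewrite 2 [show (g : E) = 1 + ((g : E) - 1) by abel]
      simp only [add_mul, mul_add, mul_one, one_mul, smul_mul_assoc, hq, smul_zero, Nat.cast_succ, add_smul, one_smul]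
      abel
  have : unip (c • ((g : E) - 1)) = g ^ c.val := by
    refine Units.ext ?_
    rw [e, ZMod.natCast_zmod_val, unip_val (smul_sq hq c)]
  rw [this]
  exact pow_mem hg _

section Torus

variable (h : IsFrame G A B)
include h

/-- The torus element of a frame. -/
theorem exists_tor {c : ZMod p} (hc : c ≠ 0) :
    ∃ t ∈ G, (t : E) = eZ A B + c • (A * B) + c⁻¹ • (B * A) ∧
      ((t⁻¹ : GLM) : E) = eZ A B + c⁻¹ • (A * B) + c • (B * A) := by
  have key : ∀ d : ZMod p, d ≠ 0 → ∀ (A' B' : E), A' = d • A → B' = d⁻¹ • B →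
      (weyl A' B' : E) = eZ A B + d • A - d⁻¹ • B := by
    rintro d hd _ _ rfl rfl
    rw [weyl_val ⟨by simp [smul_mul_assoc, mul_smul_comm, smul_smul, hd, h.ABA],
      by simp [smul_mul_assoc, mul_smul_comm, smul_smul, hd, h.BAB]⟩ (smul_sq h.AA d) (smul_sq h.BB d⁻¹)]
    simp only [smul_mul_assoc, mul_smul_comm, smul_smul, mul_inv_cancel₀ hd, inv_mul_cancel₀ hd, one_smul, eZ]
    abel
  set w : GLM := weyl (c • A) (c⁻¹ • B)
  set v : GLM := weyl A B
  have hw : (w : E) = eZ A B + c • A - c⁻¹ • B := key c hc _ _ rfl rfl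
  have hv : (v : E) = eZ A B + A - B := by
    rw [show v = weyl A B from rfl, key 1 one_ne_zero A B (one_smul _ _).symm (by rw [inv_one, one_smul])]
    simp
  have hwG : w ∈ G := weyl_mem (smul_mem_opSet h.minA.1 c) (smul_mem_opSet h.minB.1 c⁻¹)
  have hvG : v ∈ G := weyl_mem h.minA.1 h.minB.1
  have hvi : ((v⁻¹ : GLM) : E) = eZ A B - A + B := by
    refine Units.inv_eq_of_mul_eq_one_right ?_
    rw [hv, ← eZ_add A B]
    frame_simp h
    simp only [eZ]
    abel
  have hwi : ((w⁻¹ : GLM) : E) = eZ A B - c • A + c⁻¹ • B := by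
    refine Units.inv_eq_of_mul_eq_one_right ?_
    rw [hw]
    frame_simp h
    simp only [smul_smul, mul_inv_cancel₀ hc, inv_mul_cancel₀ hc, one_smul, eZ]
    abel
  refine ⟨w * v⁻¹, mul_mem hwG (inv_mem hvG), ?_, ?_⟩
  · rw [Units.val_mul, hw, hvi]
    frame_simp h
    abel
  · rw [mul_inv_rev, inv_inv, Units.val_mul, hwi, hv]
    frame_simp h
    abel

end Torus

/-- The stabiliser in `G` of the range and the kernel of `A`. -/
def stabOp (G : Subgroup GLM) (A : E) : Subgroup GLM where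
  carrier := {g | g ∈ G ∧ (range A).map (g : E) = range A ∧ (ker A).map (g : E) = ker A}
  one_mem' := ⟨one_mem G, by simp [Module.End.one_eq_id], by simp [Module.End.one_eq_id]⟩
  mul_mem' := by
    rintro g h ⟨hg, g1, g2⟩ ⟨hh, h1, h2⟩
    refine ⟨mul_mem hg hh, ?_, ?_⟩
    · rw [Units.val_mul, Module.End.mul_eq_comp, Submodule.map_comp, h1, g1]
    · rw [Units.val_mul, Module.End.mul_eq_comp, Submodule.map_comp, h2, g2]
  inv_mem' := by
    rintro g ⟨hg, g1, g2⟩
    refine ⟨inv_mem hg, ?_, ?_⟩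
    · conv_lhs => rw [← g1, ← Submodule.map_comp, ← Module.End.mul_eq_comp, Units.inv_mul,
        Module.End.one_eq_id, Submodule.map_id]
    · conv_lhs => rw [← g2, ← Submodule.map_comp, ← Module.End.mul_eq_comp, Units.inv_mul,
        Module.End.one_eq_id, Submodule.map_id]

theorem mem_stabOp {g : GLM} :
    g ∈ stabOp G A ↔ g ∈ G ∧ (range A).map (g : E) = range A ∧ (ker A).map (g : E) = ker A := Iff.rfl

theorem stabOp_le : stabOp G A ≤ G := fun _ h => h.1

theorem mem_stabOp_iff [FiniteDimensional (ZMod p) M] (hA : IsMinOp G A) {g : GLM} :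
    g ∈ stabOp G A ↔ g ∈ G ∧ conjOp g A ∈ opSpace hA.1 := by
  constructor
  · rintro ⟨hg, h1, h2⟩
    refine ⟨hg, conjOp_mem_opSet hg hA.1, ?_, ?_⟩
    · rw [range_conjOp, h1]
    · rw [ker_conjOp, h2]
  · rintro ⟨hg, hm⟩
    obtain ⟨h1, h2, -⟩ := geometry_of_mem hA hm (hA.conj hg).2.1
    exact ⟨hg, by rw [← range_conjOp, h1], by rw [← ker_conjOp, h2]⟩

theorem stabOp_congr [FiniteDimensional (ZMod p) M] (hA : IsMinOp G A) (hX : X ∈ opSpace hA.1) (hX0 : X ≠ 0) :
    stabOp G X = stabOp G A := by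
  obtain ⟨h1, h2, -⟩ := geometry_of_mem hA hX hX0
  ext g
  simp [mem_stabOp, h1, h2]

/-- The flag subgroup of `A`. -/
def flagGp (G : Subgroup GLM) (A : E) : Subgroup GLM where
  carrier := {g | g ∈ G ∧ (A * ((g : E) - 1) = 0 ∧ ((g : E) - 1) * A = 0 ∧
      ∀ v ∈ ker A, ((g : E) - 1) v ∈ range A) ∧
    (A * (((g⁻¹ : GLM) : E) - 1) = 0 ∧ (((g⁻¹ : GLM) : E) - 1) * A = 0 ∧
      ∀ v ∈ ker A, (((g⁻¹ : GLM) : E) - 1) v ∈ range A)}
  one_mem' := ⟨one_mem G, by simp, by simp⟩
  inv_mem' := by rintro g ⟨h0, h1, h2⟩; exact ⟨inv_mem h0, h2, by rwa [inv_inv]⟩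
  mul_mem' := by
    have key : ∀ a b : E, (A * (a - 1) = 0 ∧ (a - 1) * A = 0 ∧ ∀ v ∈ ker A, (a - 1) v ∈ range A) →
        (A * (b - 1) = 0 ∧ (b - 1) * A = 0 ∧ ∀ v ∈ ker A, (b - 1) v ∈ range A) →
        (A * (a * b - 1) = 0 ∧ (a * b - 1) * A = 0 ∧ ∀ v ∈ ker A, (a * b - 1) v ∈ range A) := by
      rintro a b ⟨a1, a2, a3⟩ ⟨b1, b2, b3⟩
      have e : a * b - 1 = (a - 1) * (b - 1) + (a - 1) + (b - 1) := by noncomm_ring
      refine ⟨?_, ?_, fun v hv => ?_⟩
      · rw [e, mul_add, mul_add, ← mul_assoc, a1, b1, zero_mul]; simp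
      · rw [e, add_mul, add_mul, mul_assoc, b2, a2, mul_zero]; simp
      · have hb : (b - 1) v ∈ ker A := by
          rw [mem_ker, ← Module.End.mul_apply, b1, LinearMap.zero_apply]
        rw [e, LinearMap.add_apply, LinearMap.add_apply, Module.End.mul_apply]
        exact add_mem (add_mem (a3 _ hb) (a3 v hv)) (b3 v hv)
    rintro g h ⟨g0, g1, g2⟩ ⟨h0, h1, h2⟩
    refine ⟨mul_mem g0 h0, ?_, ?_⟩
    · rw [Units.val_mul]; exact key _ _ g1 h1
    · rw [mul_inv_rev, Units.val_mul]; exact key _ _ h2 g2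

theorem flagGp_le : flagGp G A ≤ G := fun _ h => h.1

theorem flag_cube {g : GLM} (h : g ∈ flagGp G A) : ((g : E) - 1) * ((g : E) - 1) * ((g : E) - 1) = 0 := by
  obtain ⟨-, ⟨h1, h2, h3⟩, -⟩ := h
  refine LinearMap.ext fun v => ?_
  have hk : ((g : E) - 1) v ∈ ker A := by
    rw [mem_ker, ← Module.End.mul_apply, h1, LinearMap.zero_apply]
  obtain ⟨w, hw⟩ := h3 _ hk
  rw [Module.End.mul_apply, Module.End.mul_apply, ← hw, ← Module.End.mul_apply, h2]; rfl

theorem flag_pow_p (hp : 3 ≤ p) {g : GLM} (h : g ∈ flagGp G A) : g ^ p = 1 := by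
  refine Units.ext ?_
  rw [Units.val_pow_eq_pow_val, show (g : E) = 1 + ((g : E) - 1) by abel, one_add_pow_p hp (flag_cube h),
    Units.val_one]

theorem mem_flagGp (hp : 3 ≤ p) {g : GLM} (hg : g ∈ G) (h1 : A * ((g : E) - 1) = 0)
    (h2 : ((g : E) - 1) * A = 0) (h3 : ∀ v ∈ ker A, ((g : E) - 1) v ∈ range A) : g ∈ flagGp G A := by
  set x := (g : E) - 1 with hx
  have hcube : x * x * x = 0 := by
    refine LinearMap.ext fun v => ?_
    have hk : x v ∈ ker A := by rw [mem_ker, ← Module.End.mul_apply, h1, LinearMap.zero_apply]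
    obtain ⟨w, hw⟩ := h3 _ hk
    rw [Module.End.mul_apply, Module.End.mul_apply, ← hw, ← Module.End.mul_apply, h2]; rfl
  have hp1 : g ^ p = 1 := Units.ext (by
    rw [Units.val_pow_eq_pow_val, show (g : E) = 1 + x by rw [hx]; abel, one_add_pow_p hp hcube, Units.val_one])
  have hi : ((g⁻¹ : GLM) : E) - 1 = -x + x * x := by
    refine sub_eq_iff_eq_add.2 (Units.inv_eq_of_mul_eq_one_right ?_)
    rw [show (g : E) = 1 + x by rw [hx]; abel]
    have : (1 + x) * (-x + x * x + 1) = 1 + x * x * x := by noncomm_ring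
    rw [this, hcube, add_zero]
  refine ⟨hg, ⟨h1, h2, h3⟩, ?_, ?_, fun v hv => ?_⟩
  · rw [hi, mul_add, mul_neg, h1, ← mul_assoc, h1, zero_mul]; simp
  · rw [hi, add_mul, neg_mul, h2, mul_assoc, h2, mul_zero]; simp
  · rw [hi, LinearMap.add_apply, LinearMap.neg_apply, Module.End.mul_apply]
    have hk : x v ∈ ker A := by rw [mem_ker, ← Module.End.mul_apply, h1, LinearMap.zero_apply]
    exact add_mem (neg_mem (h3 v hv)) (h3 _ hk)

theorem isPGroup_flagGp (hp : 3 ≤ p) : IsPGroup p (flagGp G A) := fun g =>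
  ⟨1, Subtype.ext (by simpa using flag_pow_p hp g.2)⟩

theorem flag_mul_A {g : GLM} (h : g ∈ flagGp G A) : (g : E) * A = A ∧ A * (g : E) = A := by
  obtain ⟨-, ⟨h1, h2, -⟩, -⟩ := h
  constructor
  · rw [show (g : E) = 1 + ((g : E) - 1) by abel, add_mul, one_mul, h2, add_zero]
  · rw [show (g : E) = 1 + ((g : E) - 1) by abel, mul_add, mul_one, h1, add_zero]

theorem flag_conjOp {g : GLM} (h : g ∈ flagGp G A) : conjOp g A = A := by
  rw [conjOp_apply, (flag_mul_A h).1, (flag_mul_A (inv_mem h)).2]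

variable [FiniteDimensional (ZMod p) M]

theorem flagGp_le_stabOp (hA : IsMinOp G A) : flagGp G A ≤ stabOp G A := fun g hg =>
  (mem_stabOp_iff hA).2 ⟨hg.1, by rw [flag_conjOp hg]; exact self_mem_opSpace hA.1⟩

theorem flagGp_normal {g : GLM} (hg : g ∈ stabOp G A) {u : GLM} (hu : u ∈ flagGp G A) (hp : 3 ≤ p) :
    g * u * g⁻¹ ∈ flagGp G A := by
  obtain ⟨-, g1', g2'⟩ := inv_mem hg
  obtain ⟨hgG, g1, g2⟩ := hg
  obtain ⟨hu0, ⟨h1, h2, h3⟩, -⟩ := hu
  have e : ((g * u * g⁻¹ : GLM) : E) - 1 = (g : E) * ((u : E) - 1) * ((g⁻¹ : GLM) : E) := by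
    rw [mul_sub, mul_one, sub_mul, Units.mul_inv, Units.val_mul, Units.val_mul]
  refine mem_flagGp hp (mul_mem (mul_mem hgG hu0) (inv_mem hgG)) ?_ ?_ fun v hv => ?_
  · refine LinearMap.ext fun v => ?_
    rw [e, Module.End.mul_apply, Module.End.mul_apply, Module.End.mul_apply]
    have hk : ((u : E) - 1) (((g⁻¹ : GLM) : E) v) ∈ ker A := by
      rw [mem_ker, ← Module.End.mul_apply, h1, LinearMap.zero_apply]
    exact mem_ker.1 (g2 ▸ Submodule.mem_map_of_mem hk)
  · refine LinearMap.ext fun v => ?_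
    rw [e, Module.End.mul_apply, Module.End.mul_apply, Module.End.mul_apply]
    obtain ⟨w, hw⟩ : ((g⁻¹ : GLM) : E) (A v) ∈ range A := g1' ▸ Submodule.mem_map_of_mem ⟨v, rfl⟩
    rw [← hw, ← Module.End.mul_apply ((u : E) - 1), h2, LinearMap.zero_apply, map_zero, LinearMap.zero_apply]
  · rw [e, Module.End.mul_apply, Module.End.mul_apply, ← g1]
    exact Submodule.mem_map_of_mem (h3 _ (g2' ▸ Submodule.mem_map_of_mem hv))

theorem unip_mem_flagGp (hp : 3 ≤ p) (hA : IsMinOp G A) (hX : X ∈ opSpace hA.1) : unip X ∈ flagGp G A := by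
  refine mem_flagGp hp (unip_mem hX.1) ?_ ?_ fun v _ => ?_ <;> rw [unip_val hX.1.1, add_sub_cancel_left]
  · exact mul_eq_zero_of_mem hA.1 (self_mem_opSpace hA.1) hX
  · exact mul_eq_zero_of_mem hA.1 hX (self_mem_opSpace hA.1)
  · exact hX.2.1 ⟨v, rfl⟩

theorem opGroup_le_flagGp (hp : 3 ≤ p) (hA : IsMinOp G A) : opGroup hA.1 ≤ flagGp G A := fun g hg => by
  obtain ⟨X, hX, rfl⟩ := mem_opGroup.1 hg
  exact unip_mem_flagGp hp hA hX

/-- `B D B` lies in the space of `B` for any two minimal operators. -/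
theorem triple_mem_opSpace (hq : QHyp G) (hB : IsMinOp G B) (hD : IsMinOp G D) : B * D * B ∈ opSpace hB.1 := by
  by_cases hn : IsNilpotent (pairSum B D)
  · rw [(triple_zero hB hD hq.two_ne hn).1]; exact zero_mem _
  obtain ⟨C, hC, hC0, hCm, hinv⟩ := exists_inverse hq.two_ne hq.card_ne hB hD hn
  have h : IsFrame G B C := ⟨hB, hCm, hinv⟩
  obtain ⟨hr, hk, -⟩ := geometry_of_mem hD hC hC0
  have d1 : eZ B C * D = 0 := LinearMap.ext fun v => by
    obtain ⟨w, hw⟩ := hr.ge ⟨v, rfl⟩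
    rw [Module.End.mul_apply, ← hw, ← Module.End.mul_apply, eZ_B h]; rfl
  have d2 : D * eZ B C = 0 := LinearMap.ext fun v => by
    rw [Module.End.mul_apply, LinearMap.zero_apply, ← mem_ker]
    exact hk.le (by rw [mem_ker, ← Module.End.mul_apply, B_eZ h, LinearMap.zero_apply])
  have d3 : C * D = 0 := LinearMap.ext fun v => by
    obtain ⟨w, hw⟩ := hr.ge ⟨v, rfl⟩
    rw [Module.End.mul_apply, ← hw, ← Module.End.mul_apply, h.BB]; rfl
  have d4 : D * C = 0 := LinearMap.ext fun v => by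
    rw [Module.End.mul_apply, LinearMap.zero_apply, ← mem_ker]
    exact hk.le (by rw [mem_ker, ← Module.End.mul_apply, h.BB, LinearMap.zero_apply])
  set w : GLM := weyl B C
  have hw : (w : E) = eZ B C + B - C := by
    rw [weyl_val hinv h.AA h.BB]; simp only [eZ]; abel
  have hwi : ((w⁻¹ : GLM) : E) = eZ B C - B + C := by
    refine Units.inv_eq_of_mul_eq_one_right ?_
    rw [hw]
    frame_simp h
    simp only [eZ]
    abel
  have e : conjOp w D = -(B * D * B) := by
    rw [conjOp_apply, hw, hwi]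
    simp only [add_mul, sub_mul, mul_add, mul_sub, mul_assoc, d1, d3, mul_zero, zero_mul, d2, d4,
      ← mul_assoc D, zero_sub, sub_zero, add_zero, zero_add]
  have hm : -(B * D * B) ∈ opSpace hB.1 := by
    refine ⟨e ▸ conjOp_mem_opSet (weyl_mem hB.1 hCm.1) hD.1, ?_, ?_⟩
    · rintro _ ⟨v, rfl⟩
      exact ⟨-((D * B) v), by simp [mul_assoc]⟩
    · intro v hv
      rw [mem_ker] at hv ⊢
      simp [hv]
  simpa using neg_mem hm

end CfsgLib.Flavell
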