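import Cfsg.Agent.Lib.Flavell.QuadTorus
import Cfsg.Agent.Lib.Cores.Basic

/-!
The classes of minimal operators under the partner relation in a group generated by quadratic elements without a
normal `p`-subgroup: members of distinct classes commute, `G` fixes every class, and the group of a class is
generated by the operator groups of one frame and the flag subgroup.
-/

set_option autoImplicit false

namespace CfsgLib.Flavell

open CfsgLib.QuadPair LinearMap

universe u

variable {p : ℕ} [Fact p.Prime] {M : Type u} [AddCommGroup M] [Module (ZMod p) M]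

local notation "GLM" => LinearMap.GeneralLinearGroup (ZMod p) M
local notation "E" => Module.End (ZMod p) M

variable {G H N : Subgroup (LinearMap.GeneralLinearGroup (ZMod p) M)} {A B C F D X Y : Module.End (ZMod p) M}

/-- A subspace invariant under `G`. -/
def InvUnder (G : Subgroup GLM) (W : Submodule (ZMod p) M) : Prop := ∀ g ∈ G, ∀ v ∈ W, (g : E) v ∈ W

/-- The hypotheses of the core argument. -/
structure QSys (G : Subgroup GLM) : Prop extends QHyp G where
  ss : ∀ W, InvUnder G W → ∃ W', InvUnder G W' ∧ IsCompl W W'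
  noP : Cfsg.pCore p G = ⊥
  gen : G ≤ Subgroup.closure {g : GLM | g ∈ G ∧ ((g : E) - 1) * ((g : E) - 1) = 0}

theorem opSet_zero_sq (hX : X ∈ opSet G) : X * X = 0 := hX.1

theorem unip_smul_mul (hX : X * X = 0) (a b : ZMod p) : unip (a • X) * unip (b • X) = unip ((a + b) • X) := by
  refine Units.ext ?_
  rw [Units.val_mul, unip_val (smul_sq hX a), unip_val (smul_sq hX b), unip_val (smul_sq hX _)]
  simp only [add_mul, mul_add, one_mul, mul_one, smul_mul_assoc, mul_smul_comm, hX, smul_zero, add_smul, add_zero]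
  abel

theorem conjOp_unip_val (hD : D * D = 0) (X : E) :
    conjOp (unip D) X = X + (D * X - X * D) - D * X * D := by
  rw [conjOp_apply, unip_val hD, unip_inv_val hD]
  simp only [add_mul, mul_sub, one_mul, mul_one]
  abel

variable [FiniteDimensional (ZMod p) M]

/-- `X` and `Y` form a non-nilpotent pair. -/
def Partner (G : Subgroup GLM) (X Y : E) : Prop := IsMinOp G X ∧ IsMinOp G Y ∧ ¬ IsNilpotent (pairSum X Y)

/-- Joined by a chain of non-nilpotent pairs. -/
def Conn (G : Subgroup GLM) (X Y : E) : Prop := Relation.ReflTransGen (Partner G) X Y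

theorem Partner.symm (h : Partner G X Y) : Partner G Y X := ⟨h.2.1, h.1, by rw [pairSum_comm]; exact h.2.2⟩

theorem Conn.symm (h : Conn G X Y) : Conn G Y X := by
  induction h with
  | refl => exact .refl
  | tail _ hbc ih => exact Relation.ReflTransGen.head hbc.symm ih

theorem Conn.trans' (h : Conn G X Y) (h' : Conn G Y C) : Conn G X C := Relation.ReflTransGen.trans h h'

theorem Conn.min (h : Conn G X Y) (hX : IsMinOp G X) : IsMinOp G Y := by
  induction h with
  | refl => exact hX
  | tail _ hbc _ => exact hbc.2.1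

theorem Partner.conn (h : Partner G X Y) : Conn G X Y := .single h

theorem Partner.conj (h : Partner G X Y) {g : GLM} (hg : g ∈ G) : Partner G (conjOp g X) (conjOp g Y) := by
  refine ⟨h.1.conj hg, h.2.1.conj hg, fun hc => h.2.2 ?_⟩
  have := isNilpotent_conjOp g⁻¹ hc
  rwa [conjOp_pairSum, ← conjOp_comp, ← conjOp_comp, inv_mul_cancel, show conjOp (1 : GLM) X = X by simp [conjOp_apply],
    show conjOp (1 : GLM) Y = Y by simp [conjOp_apply]] at this

theorem Conn.conj (h : Conn G X Y) {g : GLM} (hg : g ∈ G) : Conn G (conjOp g X) (conjOp g Y) := by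
  induction h with
  | refl => exact .refl
  | tail _ hbc ih => exact ih.tail (hbc.conj hg)

theorem IsFrame.partner (h : IsFrame G A B) : Partner G A B :=
  ⟨h.minA, h.minB, not_nilpotent_of_inv h.minA h.minB h.inv (self_mem_opSpace _) h.minA.2.1 (self_mem_opSpace _)
    h.minB.2.1⟩

theorem IsFrame.conj (h : IsFrame G A B) {g : GLM} (hg : g ∈ G) : IsFrame G (conjOp g A) (conjOp g B) :=
  ⟨h.minA.conj hg, h.minB.conj hg, by
    rw [IsInvPair, ← conjOp_mul, ← conjOp_mul, ← conjOp_mul, ← conjOp_mul, h.ABA, h.BAB]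
    exact ⟨rfl, rfl⟩⟩

/-- The group of the class of `A`. -/
def compGp (G : Subgroup GLM) (A : E) : Subgroup GLM :=
  Subgroup.closure {g | ∃ X, Conn G A X ∧ g = unip X}

theorem unip_mem_compGp (h : Conn G A X) : unip X ∈ compGp G A := Subgroup.subset_closure ⟨X, h, rfl⟩

theorem compGp_le (hA : IsMinOp G A) : compGp G A ≤ G := by
  rw [compGp, Subgroup.closure_le]
  rintro _ ⟨X, hX, rfl⟩
  exact unip_mem (hX.min hA).1

theorem compGp_eq_of_conn (h : Conn G A X) : compGp G X = compGp G A := by
  unfold compGp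
  congr 1
  ext g
  exact ⟨fun ⟨Y, hY, e⟩ => ⟨Y, h.trans' hY, e⟩, fun ⟨Y, hY, e⟩ => ⟨Y, h.symm.trans' hY, e⟩⟩

theorem QHyp.sandwich (hq : QHyp G) (hX : IsMinOp G X) (hF : IsMinOp G F) :
    ¬ IsNilpotent (pairSum X F) ↔ F * X * F ≠ 0 := by
  refine ⟨fun hn h0 => hn ?_, fun h0 hn => h0 (triple_zero hX hF hq.two_ne hn).2⟩
  rw [isNilpotent_pairSum_iff hX.1.1 hF.1.1]
  exact ⟨2, by rw [pow_two, ← mul_assoc, mul_assoc X F, mul_assoc X, h0, mul_zero]⟩

theorem QHyp.exists_frame (hq : QHyp G) (h : Partner G X Y) :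
    ∃ C ∈ opSpace h.2.1.1, C ≠ 0 ∧ IsFrame G X C := by
  obtain ⟨C, hC, hC0, hCm, hinv⟩ := exists_inverse hq.two_ne hq.card_ne h.1 h.2.1 h.2.2
  exact ⟨C, hC, hC0, h.1, hCm, hinv⟩

theorem QHyp.conn_mem (hq : QHyp G) (hX : IsMinOp G X) (hY : Y ∈ opSpace hX.1) (hY0 : Y ≠ 0) : Conn G X Y := by
  obtain ⟨R, hR, hn⟩ := hq.partner X hX
  have hYm := (geometry_of_mem hX hY hY0).2.2
  refine (Partner.conn (Y := R) ⟨hX, hR, hn⟩).trans' (Partner.conn ⟨hR, hYm, fun hc => hn ?_⟩)
  rw [pairSum_comm]
  refine nilpotent_of_mem hq.two_ne hq.card_ne hR hYm hc (self_mem_opSpace _) ?_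
  rw [opSpace_eq hX hY hY0]
  exact self_mem_opSpace _

theorem QHyp.conn_of_bracket (hq : QHyp G) (hA : IsMinOp G A) (hB : IsMinOp G B)
    (hne : bracket A B ≠ 0) : Conn G A B := by
  by_cases hn : IsNilpotent (pairSum A B)
  swap
  · exact Partner.conn ⟨hA, hB, hn⟩
  have key : ∀ {A B : E}, IsMinOp G A → IsMinOp G B → IsNilpotent (pairSum A B) → ∀ hne : bracket A B ≠ 0,
      IsMinOp G (bracket A B) → Conn G A (bracket A B) := by
    intro A B hA hB hn _ hZ
    set Z : E := bracket A B with hZdef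
    obtain ⟨t1, t2⟩ := triple_zero hA hB hq.two_ne hn
    have hc : ∀ c : ZMod p, IsMinOp G (A + c • Z) := by
      intro c
      have := hA.conj (g := unip ((-c) • B)) (unip_mem (smul_mem_opSet hB.1 _))
      rw [conjOp_unip_val (smul_sq hB.1.1 _)] at this
      convert this using 1
      simp only [hZdef, bracket, smul_mul_assoc, mul_smul_comm, smul_smul, smul_sub, neg_smul, neg_mul, mul_neg,
        t2, smul_zero, sub_zero, neg_zero]
      abel
    obtain ⟨F, hF, hnF⟩ := hq.partner Z hZ
    obtain ⟨R, hR, hnR⟩ := hq.partner A hA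
    have hF' := (hq.sandwich hZ hF).1 hnF
    have hR' := (hq.sandwich hA hR).1 hnR
    have bad : ∀ {x y : E}, (x ≠ 0 ∨ y ≠ 0) → ∀ c c' : ZMod p, x + c • y = 0 → x + c' • y = 0 → c = c' := by
      intro x y hxy c c' e1 e2
      have e3 : (c - c') • y = 0 := by rw [sub_smul, ← sub_eq_zero.2 (e1.trans e2.symm)]; abel
      rcases smul_eq_zero.1 e3 with h | h
      · exact sub_eq_zero.1 h
      · subst h
        rw [smul_zero, add_zero] at e1
        exact absurd rfl (hxy.resolve_left (not_not.2 e1))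
    have hsand : ∀ (W : E) (c : ZMod p), W * (A + c • Z) * W = W * A * W + c • (W * Z * W) := fun W c => by
      simp only [mul_add, add_mul, mul_smul_comm, smul_mul_assoc]
    obtain ⟨c, hcR, hcF⟩ : ∃ c : ZMod p, R * (A + c • Z) * R ≠ 0 ∧ F * (A + c • Z) * F ≠ 0 := by
      by_contra hcon
      push Not at hcon
      haveI : NeZero p := ⟨(Fact.out : p.Prime).ne_zero⟩
      have h5 := hq.five
      have hd : ∀ i j : ℕ, i < 5 → j < 5 → ((i : ℕ) : ZMod p) = (j : ℕ) → i = j := fun i j hi hj e => by
        have := (ZMod.natCast_eq_natCast_iff' i j p).1 e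
        rwa [Nat.mod_eq_of_lt (by omega), Nat.mod_eq_of_lt (by omega)] at this
      let P : ZMod p → Prop := fun c => R * (A + c • Z) * R = 0
      let Q : ZMod p → Prop := fun c => F * (A + c • Z) * F = 0
      have uP : ∀ c c', P c → P c' → c = c' := fun c c' e1 e2 =>
        bad (Or.inl hR') c c' (by rw [← hsand]; exact e1) (by rw [← hsand]; exact e2)
      have uQ : ∀ c c', Q c → Q c' → c = c' := fun c c' e1 e2 =>
        bad (Or.inr hF') c c' (by rw [← hsand]; exact e1) (by rw [← hsand]; exact e2)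
      have hPQ : ∀ c, P c ∨ Q c := fun c => or_iff_not_imp_left.2 fun hP => hcon c hP
      rcases hPQ ((0 : ℕ) : ZMod p) with h0 | h0 <;> rcases hPQ ((1 : ℕ) : ZMod p) with h1 | h1 <;>
        rcases hPQ ((2 : ℕ) : ZMod p) with h2 | h2 <;>
        first
          | exact absurd (hd 0 1 (by omega) (by omega) (uP _ _ h0 h1)) (by omega)
          | exact absurd (hd 0 1 (by omega) (by omega) (uQ _ _ h0 h1)) (by omega)
          | exact absurd (hd 0 2 (by omega) (by omega) (uP _ _ h0 h2)) (by omega)
          | exact absurd (hd 0 2 (by omega) (by omega) (uQ _ _ h0 h2)) (by omega)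
          | exact absurd (hd 1 2 (by omega) (by omega) (uP _ _ h1 h2)) (by omega)
          | exact absurd (hd 1 2 (by omega) (by omega) (uQ _ _ h1 h2)) (by omega)
    have p1 : Partner G (A + c • Z) R := ⟨hc c, hR, (hq.sandwich (hc c) hR).2 hcR⟩
    have p2 : Partner G (A + c • Z) F := ⟨hc c, hF, (hq.sandwich (hc c) hF).2 hcF⟩
    have a : Conn G A R := Partner.conn ⟨hA, hR, hnR⟩
    have b : Conn G F Z := (Partner.conn (X := Z) ⟨hZ, hF, hnF⟩).symm
    exact ((a.trans' p1.symm.conn).trans' p2.conn).trans' b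
  obtain ⟨t1, t2⟩ := triple_zero hA hB hq.two_ne hn
  have hZ := (rank_split hA hB t1 t2 hne).1
  have hne' : bracket B A ≠ 0 := by rw [bracket_swap]; exact neg_ne_zero.2 hne
  have hZ' := (rank_split hB hA t2 t1 hne').1
  have c1 := key hA hB hn hne hZ
  have c2 := key hB hA (by rwa [pairSum_comm]) hne' hZ'
  have c3 : Conn G (bracket B A) (bracket A B) :=
    hq.conn_mem hZ' (by rw [bracket_swap A B]; exact neg_mem (self_mem_opSpace _)) hne
  exact c1.trans' (c2.trans' c3).symm

theorem QHyp.commute_of_not_conn (hq : QHyp G) (hX : IsMinOp G X) (hY : IsMinOp G Y) (h : ¬ Conn G X Y) :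
    X * Y = Y * X := by
  by_contra hne
  exact h (hq.conn_of_bracket hX hY (sub_ne_zero.2 hne))

/-- The elements of `G` fix every class. -/
theorem QSys.conn_conjOp (hs : QSys G) {g : GLM} (hg : g ∈ G) : ∀ {X : E}, IsMinOp G X → Conn G X (conjOp g X) := by
  have hq := hs.toQHyp
  have hgc := hs.gen hg
  have main : ∀ g ∈ Subgroup.closure {g : GLM | g ∈ G ∧ ((g : E) - 1) * ((g : E) - 1) = 0},
      g ∈ G ∧ ∀ X : E, IsMinOp G X → Conn G X (conjOp g X) := by
    intro g hg
    induction hg using Subgroup.closure_induction with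
    | mem x hx =>
      refine ⟨hx.1, fun X hX => ?_⟩
      set D : E := (x : E) - 1 with hDdef
      have hD : D ∈ opSet G := mem_opSet_of_sq hx.1 hx.2
      let Xi : ZMod p → E := fun i => conjOp (unip (i • D)) X
      have hm : ∀ i, IsMinOp G (Xi i) := fun i => hX.conj (unip_mem (smul_mem_opSet hD i))
      have hval : ∀ i : ZMod p, Xi i = X + i • (D * X - X * D) - (i * i) • (D * X * D) := by
        intro i
        simp only [Xi, conjOp_unip_val (smul_sq hD.1 i), smul_mul_assoc, mul_smul_comm, smul_smul, smul_sub]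
      have hdep : Xi 3 = Xi 0 - (3 : ZMod p) • Xi 1 + (3 : ZMod p) • Xi 2 := by
        rw [hval, hval, hval, hval]
        simp only [smul_add, smul_sub, smul_smul, zero_smul, mul_zero, zero_mul, mul_one, one_smul, sub_zero,
          add_zero]
        module
      obtain ⟨j, hj, hconn⟩ : ∃ j : ZMod p, j ≠ 0 ∧ Conn G X (Xi j) := by
        by_contra hcon
        push Not at hcon
        obtain ⟨F, hF, hnF⟩ := hq.partner (Xi 3) (hm 3)
        have hcomm : ∀ i : ZMod p, i ≠ 3 → Xi i * F = F * Xi i := by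
          intro i hi
          refine hq.commute_of_not_conn (hm i) hF fun hc => hcon (3 - i) (sub_ne_zero.2 (Ne.symm hi)) ?_
          have hc' : Conn G (Xi i) (Xi 3) := hc.trans' (Partner.conn (X := Xi 3) ⟨hm 3, hF, hnF⟩).symm
          have := hc'.conj (g := unip ((-i) • D)) (unip_mem (smul_mem_opSet hD _))
          simp only [Xi, ← conjOp_comp, unip_smul_mul hD.1, neg_add_cancel, zero_smul, unip_zero] at this
          rwa [show conjOp (1 : GLM) X = X by simp [conjOp_apply], show -i + 3 = 3 - i by ring] at this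
        have h5 := hq.five
        have n1 : (1 : ZMod p) ≠ 3 := fun e => natCast_ne_zero_of_lt (p := p) (n := 2) two_pos (by omega)
          (by push_cast; linear_combination -e)
        have n2 : (2 : ZMod p) ≠ 3 := fun e => one_ne_zero (α := ZMod p) (by linear_combination -e)
        have n0 : (0 : ZMod p) ≠ 3 := fun e => natCast_ne_zero_of_lt (p := p) (n := 3) three_pos (by omega)
          (by push_cast; exact e.symm)
        have : Xi 3 * F = F * Xi 3 := by
          rw [hdep]
          simp only [add_mul, sub_mul, mul_add, mul_sub, smul_mul_assoc, mul_smul_comm, hcomm _ n0, hcomm _ n1,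
            hcomm _ n2]
        refine (hq.sandwich (hm 3) hF).1 hnF ?_
        rw [← this, mul_assoc, hF.1.1, mul_zero]
      have hn : ∀ n : ℕ, Conn G X (Xi ((n : ZMod p) * j)) := by
        intro n
        induction n with
        | zero => simp only [Xi, Nat.cast_zero, zero_mul, zero_smul, unip_zero, conjOp_apply]; simp; exact .refl
        | succ n ih =>
          refine hconn.trans' ?_
          have := ih.conj (g := unip (j • D)) (unip_mem (smul_mem_opSet hD _))
          simp only [Xi, ← conjOp_comp, unip_smul_mul hD.1] at this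
          convert this using 4
          push_cast; ring
      haveI : NeZero p := ⟨(Fact.out : p.Prime).ne_zero⟩
      have h1 := hn (j⁻¹).val
      rw [ZMod.natCast_zmod_val, inv_mul_cancel₀ hj] at h1
      simpa only [Xi, one_smul, hDdef, unip_op hx.2] using h1
    | one => exact ⟨one_mem G, fun X _ => by simp [conjOp_apply]; exact .refl⟩
    | mul x y _ _ ihx ihy =>
      exact ⟨mul_mem ihx.1 ihy.1, fun X hX => by
        rw [conjOp_comp]; exact (ihy.2 X hX).trans' (ihx.2 _ (hX.conj ihy.1))⟩
    | inv x _ ih =>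
      refine ⟨inv_mem ih.1, fun X hX => ?_⟩
      have := ih.2 _ (hX.conj (inv_mem ih.1))
      rw [← conjOp_comp, mul_inv_cancel] at this
      rw [show conjOp (1 : GLM) X = X by simp [conjOp_apply]] at this
      exact this.symm
  exact fun {X} hX => (main g hgc).2 X hX

theorem QSys.compGp_normal (hs : QSys G) (hA : IsMinOp G A) {g : GLM} (hg : g ∈ G) :
    ∀ x ∈ compGp G A, g * x * g⁻¹ ∈ compGp G A := by
  intro x hx
  have : compGp G A ≤ (compGp G A).comap (MulAut.conj g).toMonoidHom := by
    rw [compGp, Subgroup.closure_le]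
    rintro _ ⟨X, hX, rfl⟩
    show g * unip X * g⁻¹ ∈ compGp G A
    rw [conjOp_unip g (hX.min hA).1.1]
    exact unip_mem_compGp (hX.trans' (hs.conn_conjOp hg (hX.min hA)))
  exact this hx

theorem QHyp.opGroup_le_compGp (hq : QHyp G) (hA : IsMinOp G A) (h : Conn G A X) :
    opGroup (h.min hA).1 ≤ compGp G A := by
  intro g hg
  obtain ⟨Y, hY, rfl⟩ := mem_opGroup.1 hg
  rcases eq_or_ne Y 0 with rfl | hY0
  · rw [unip_zero]; exact one_mem _
  exact unip_mem_compGp (h.trans' (hq.conn_mem (h.min hA) hY hY0))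

/-- The group of a class commutes with the members of the other classes. -/
theorem QHyp.commute_compGp (hq : QHyp G) (hA : IsMinOp G A) (hY : IsMinOp G Y) (h : ¬ Conn G A Y)
    {g : GLM} (hg : g ∈ compGp G A) : conjOp g Y = Y := by
  induction hg using Subgroup.closure_induction with
  | mem x hx =>
    obtain ⟨X, hX, rfl⟩ := hx
    have hc := hq.commute_of_not_conn (hX.min hA) hY fun hc => h (hX.trans' hc)
    rw [conjOp_unip_val (hX.min hA).1.1, hc, sub_self, add_zero, mul_assoc, (hX.min hA).1.1, mul_zero, sub_zero]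
  | one => simp [conjOp_apply]
  | mul x y _ _ ihx ihy => rw [conjOp_comp, ihy, ihx]
  | inv x _ ih =>
    conv_lhs => rw [← ih]
    rw [← conjOp_comp, inv_mul_cancel]
    simp [conjOp_apply]

/-- The flag subgroup inside the group of the class. -/
def flagIn (G : Subgroup GLM) (A : E) : Subgroup GLM := flagGp G A ⊓ compGp G A

/-- A subgroup with the operator groups of a frame and the flag subgroup contains the class group, and conjugates
`A` to every member of the class. -/
theorem QHyp.compGp_induction (hq : QHyp G) (h : IsFrame G A B) {K : Subgroup GLM}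
    (hKA : opGroup h.minA.1 ≤ K) (hKB : opGroup h.minB.1 ≤ K) (hKU : flagIn G A ≤ K) :
    compGp G A ≤ K ∧ ∀ X, (hX : Conn G A X) →
      ∃ g ∈ K, g ∈ compGp G A ∧ conjOp g A ∈ opSpace (hX.min h.minA).1 := by
  set L : Subgroup GLM := K ⊓ compGp G A
  have hLA : opGroup h.minA.1 ≤ L := le_inf hKA (hq.opGroup_le_compGp h.minA .refl)
  have hLB : opGroup h.minB.1 ≤ L := le_inf hKB (hq.opGroup_le_compGp h.minA h.partner.conn)
  have hLU : flagIn G A ≤ L := le_inf hKU inf_le_right
  have hLG : L ≤ G := inf_le_right.trans (compGp_le h.minA)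
  have key : ∀ X, (hX : Conn G A X) → ∃ g ∈ L, conjOp g A ∈ opSpace (hX.min h.minA).1 := by
    intro X hX
    induction hX with
    | refl => exact ⟨1, one_mem L, by simp [conjOp_apply]; exact self_mem_opSpace _⟩
    | @tail X Y hX hXY ih =>
      obtain ⟨g, hg, hgm⟩ := ih
      have hgi : g⁻¹ ∈ G := inv_mem (hLG hg)
      have hgA0 := (h.minA.conj (hLG hg)).2.1
      have hp' : Partner G A (conjOp g⁻¹ Y) := by
        have h1 : Partner G (conjOp g A) Y := by
          refine ⟨h.minA.conj (hLG hg), hXY.2.1, fun hc => hXY.2.2 ?_⟩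
          refine nilpotent_of_mem hq.two_ne hq.card_ne (h.minA.conj (hLG hg)) hXY.2.1 hc ?_ (self_mem_opSpace _)
          rw [opSpace_eq (Conn.min hX h.minA) hgm hgA0]
          exact self_mem_opSpace _
        have := h1.conj hgi
        rwa [← conjOp_comp, inv_mul_cancel, show conjOp (1 : GLM) A = A by simp [conjOp_apply]] at this
      obtain ⟨C, hC, hC0, hfC⟩ := hq.exists_frame hp'
      obtain ⟨u, hu, huK, huB⟩ := exists_flag_conj hq.five h hfC
        (hq.opGroup_le_compGp h.minA .refl) (hq.opGroup_le_compGp h.minA h.partner.conn)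
        (hq.opGroup_le_compGp h.minA hfC.partner.conn)
      have hw : weyl A B ∈ L := by
        unfold weyl
        exact mul_mem (mul_mem (hLA (unip_mem_opGroup (self_mem_opSpace _)))
          (inv_mem (hLB (unip_mem_opGroup (self_mem_opSpace _))))) (hLA (unip_mem_opGroup (self_mem_opSpace _)))
      refine ⟨g * u * weyl A B, mul_mem (mul_mem hg (hLU ⟨hu, huK⟩)) hw, ?_⟩
      rw [conjOp_comp, conjOp_weyl h.inv h.AA h.BB, map_neg, conjOp_comp, huB]
      refine neg_mem ?_
      have hm := conjOp_mem_opSpace (hXY.2.1.conj hgi).1 (hLG hg) hC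
      convert hm using 2
      rw [← conjOp_comp, mul_inv_cancel]
      simp [conjOp_apply]
  refine ⟨?_, fun X hX => ?_⟩
  · refine (le_inf ?_ le_rfl : compGp G A ≤ L ⊓ compGp G A).trans (inf_le_left.trans inf_le_left)
    rw [compGp, Subgroup.closure_le]
    rintro _ ⟨X, hX, rfl⟩
    obtain ⟨g, hg, hgm⟩ := key X hX
    have hXm := hX.min h.minA
    have hmem : conjOp g⁻¹ X ∈ opSpace h.minA.1 := by
      have hgA0 := (h.minA.conj (hLG hg)).2.1
      have h0 : X ∈ opSpace (conjOp_mem_opSet (hLG hg) h.minA.1) := by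
        rw [opSpace_eq hXm hgm hgA0]; exact self_mem_opSpace _
      rw [opSpace_conj h.minA.1 (hLG hg)] at h0
      obtain ⟨X₀, hX₀, e⟩ := Submodule.mem_map.1 h0
      rw [← e]
      show conjOp g⁻¹ (conjOp g X₀) ∈ _
      rw [← conjOp_comp, inv_mul_cancel]
      simpa [conjOp_apply] using hX₀
    have hu := hLA (unip_mem_opGroup hmem)
    rw [← conjOp_unip g⁻¹ hXm.1.1] at hu
    have := mul_mem (mul_mem hg hu) (inv_mem hg)
    simpa [mul_assoc] using this
  · obtain ⟨g, hg, hgm⟩ := key X hX
    exact ⟨g, hg.1, hg.2, hgm⟩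

/-- No nontrivial normal `p`-subgroup inside a normal subgroup of `G`. -/
theorem QSys.eq_bot_of_normal (hs : QSys G) (hH : H ≤ G) (hHn : ∀ g ∈ G, ∀ x ∈ H, g * x * g⁻¹ ∈ H)
    (hN : IsPGroup p N) (hNH : N ≤ H) (hNn : ∀ g ∈ H, ∀ x ∈ N, g * x * g⁻¹ ∈ N) : N = ⊥ := by
  haveI : Finite M := Module.finite_of_finite (ZMod p)
  haveI : Finite GLM := Finite.of_injective (fun g : GLM => ((g : E) : M → M))
    (DFunLike.coe_injective.comp Units.val_injective)
  haveI hn1 : (H.subgroupOf G).Normal := ⟨fun x hx g => hHn g g.2 x hx⟩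
  let Q : Subgroup ↥(H.subgroupOf G) := (N.subgroupOf G).subgroupOf (H.subgroupOf G)
  haveI : Q.Normal := ⟨fun x hx g => hNn _ g.2 _ hx⟩
  have hQ : IsPGroup p Q := by
    refine IsPGroup.of_injective (ϕ := ((G.subtype.comp (H.subgroupOf G).subtype).comp Q.subtype).codRestrict N
      fun x => x.2) hN ?_
    intro a b e
    exact Subtype.ext (Subtype.ext (Subtype.ext (congrArg Subtype.val e :)))
  have hle := (Subgroup.map_mono (f := (H.subgroupOf G).subtype) (CfsgLib.Cores.le_pCore hQ)).trans
    (CfsgLib.Cores.map_subtype_pCore_le_of_normal p (H.subgroupOf G))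
  rw [hs.noP] at hle
  rw [eq_bot_iff]
  intro x hx
  have : (⟨x, hH (hNH hx)⟩ : ↥G) ∈ (⊥ : Subgroup ↥G) :=
    hle ⟨⟨⟨x, hH (hNH hx)⟩, hNH hx⟩, hx, rfl⟩
  rw [Subgroup.mem_bot] at this ⊢
  exact congrArg Subtype.val this

end CfsgLib.Flavell
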