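import Cfsg.Agent.Lib.Flavell.QuadSpan

/-!
A `p`-group that fixes a frame, normalises its stabiliser and fixes every `β_u α_s` centralises the class group.
-/

set_option autoImplicit false

namespace CfsgLib.Flavell

open CfsgLib.QuadPair LinearMap

universe u

variable {p : ℕ} [Fact p.Prime] {M : Type u} [AddCommGroup M] [Module (ZMod p) M]

local notation "GLM" => LinearMap.GeneralLinearGroup (ZMod p) M
local notation "E" => Module.End (ZMod p) M

variable {G Q : Subgroup (LinearMap.GeneralLinearGroup (ZMod p) M)} {A B X Y v w a r : Module.End (ZMod p) M}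
  {u s g e l : LinearMap.GeneralLinearGroup (ZMod p) M}

theorem blocks_conj (hc : conjOp g (A * B) = A * B) (hc' : conjOp g (B * A) = B * A) (x : GLM) :
    al A B ((g * x * g⁻¹ : GLM) : E) = conjOp g (al A B x) ∧ be A B ((g * x * g⁻¹ : GLM) : E) = conjOp g (be A B x) ∧
      ga A B ((g * x * g⁻¹ : GLM) : E) = conjOp g (ga A B x) := by
  have hx : ((g * x * g⁻¹ : GLM) : E) = conjOp g (x : E) := by rw [conjOp_apply, Units.val_mul, Units.val_mul]
  have hZ : conjOp g (eZ A B) = eZ A B := by simp only [eZ, map_sub, conjOp_one, hc, hc']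
  simp only [hx, al, be, ga]
  refine ⟨?_, ?_, ?_⟩ <;> rw [conjOp_mul, conjOp_mul] <;> simp only [hc, hc', hZ]

theorem conjOp_eq_iff {g : GLM} {x : E} : conjOp g x = x ↔ (g : E) * x = x * g := by
  constructor
  · intro e
    conv_rhs => rw [← e, conjOp_apply, mul_assoc, Units.inv_mul, mul_one]
  · intro e
    rw [conjOp_apply, e, mul_assoc, Units.mul_inv, mul_one]

theorem conjOp_mul_apply {g : GLM} {x : E} (h : conjOp g x = x) (v : M) : (g : E) (x v) = x ((g : E) v) := by
  rw [← Module.End.mul_apply, conjOp_eq_iff.1 h, Module.End.mul_apply]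

theorem lam_inv_mem (hl : l ∈ lam G A B) : l⁻¹ ∈ lam G A B := inv_mem hl

/-- The filtration by fixed vectors. -/
def fil (Q : Subgroup GLM) : ℕ → Submodule (ZMod p) M
  | 0 => ⊥
  | i + 1 =>
    { carrier := {v | ∀ e ∈ Q, (e : E) v - v ∈ fil Q i}
      zero_mem' := fun e _ => by simp
      add_mem' := fun {x y} hx hy e he => by
        rw [map_add, add_sub_add_comm]; exact add_mem (hx e he) (hy e he)
      smul_mem' := fun c x hx e he => by
        rw [map_smul, ← smul_sub]; exact Submodule.smul_mem _ c (hx e he) }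

theorem mem_fil_succ {i : ℕ} {x : M} : x ∈ fil Q (i + 1) ↔ ∀ e ∈ Q, (e : E) x - x ∈ fil Q i := Iff.rfl

theorem fil_mono (i : ℕ) : fil Q i ≤ fil Q (i + 1) := by
  induction i with
  | zero => exact bot_le
  | succ i ih => exact fun x hx e he => ih (hx e he)

theorem fil_inv (i : ℕ) : InvUnder Q (fil Q i) := by
  cases i with
  | zero => intro g _ x hx; rw [(Submodule.mem_bot _).1 hx, map_zero]; exact zero_mem _
  | succ i =>
    intro g hg x hx
    rw [← sub_add_cancel ((g : E) x) x]
    exact add_mem (fil_mono i (hx g hg)) hx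

variable [FiniteDimensional (ZMod p) M]

theorem fil_top (hQ : IsPGroup p Q) : fil Q (Module.finrank (ZMod p) M) = ⊤ := by
  haveI : Finite M := Module.finite_of_finite (ZMod p)
  haveI : Finite GLM := Finite.of_injective (fun g : GLM => ((g : E) : M → M))
    (DFunLike.coe_injective.comp Units.val_injective)
  have key : ∀ i, i ≤ Module.finrank (ZMod p) M → i ≤ Module.finrank (ZMod p) (fil Q i) := by
    intro i
    induction i with
    | zero => simp
    | succ i ih =>
      intro hi
      have h1 := ih (by omega)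
      by_cases htop : fil Q i = ⊤
      · have h2 : fil Q (i + 1) = ⊤ := top_le_iff.1 (htop ▸ fil_mono i)
        rw [h2, finrank_top]
        exact hi
      let f : ↥Q →* Module.End (ZMod p) M := (Units.coeHom _).comp Q.subtype
      obtain ⟨x, hx, hfix⟩ := CfsgLib.FGS.LinearPLength.exists_fixedMod hQ f (fil Q i)
        (fun g x hx => fil_inv i _ g.2 x hx) htop ⊤
      have hlt : fil Q i < fil Q (i + 1) :=
        lt_of_le_of_ne (fil_mono i) fun e => hx (e ▸ fun g hg => hfix ⟨g, hg⟩ trivial)
      have := Submodule.finrank_lt_finrank_of_lt hlt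
      omega
  exact Submodule.eq_top_of_finrank_eq (le_antisymm (Submodule.finrank_le _) (key _ le_rfl))

/-- The weight one parts of the flag elements of the class. -/
def flagVec (h : IsFrame G A B) : Submodule (ZMod p) E := AddSubgroup.toZModSubmodule p
  { carrier := {v | ∃ u ∈ flagIn G A, v = al A B (u : E) + be A B u}
    zero_mem' := ⟨1, one_mem _, by simp only [al, be, Units.val_one]; frame_simp h⟩
    add_mem' := by
      rintro _ _ ⟨u, hu, rfl⟩ ⟨s, hs, rfl⟩
      obtain ⟨e1, e2, -⟩ := blocks_mul h hu.1 hs.1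
      exact ⟨u * s, mul_mem hu hs, by rw [e1, e2]; abel⟩
    neg_mem' := by
      rintro _ ⟨u, hu, rfl⟩
      obtain ⟨e1, e2⟩ := blocks_inv h hu.1
      exact ⟨u⁻¹, inv_mem hu, by rw [e1, e2]; abel⟩ }

theorem mem_flagVec {h : IsFrame G A B} : v ∈ flagVec h ↔ ∃ u ∈ flagIn G A, v = al A B (u : E) + be A B u := Iff.rfl

/-- The pairing `β_v α_w`. -/
def pr (A B v w : E) : E := v * eZ A B * w

omit [FiniteDimensional (ZMod p) M] in
theorem vec_blocks (h : IsFrame G A B) (u : GLM) :
    eZ A B * (al A B (u : E) + be A B u) = al A B u ∧ (al A B (u : E) + be A B u) * eZ A B = be A B u := by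
  simp only [al, be]; constructor <;> frame_simp h

omit [FiniteDimensional (ZMod p) M] in
theorem pr_blocks (h : IsFrame G A B) (u s : GLM) :
    pr A B (al A B (u : E) + be A B u) (al A B (s : E) + be A B s) = be A B u * al A B s := by
  rw [pr, (vec_blocks h u).2]
  simp only [al, be]; frame_simp h

/-- The hypotheses of the last step. -/
structure EndHyp (G : Subgroup GLM) (h : IsFrame G A B) (Q : Subgroup GLM) : Prop where
  le : Q ≤ G
  pgroup : IsPGroup p Q
  fixB : ∀ e ∈ Q, conjOp e B = B
  fixX : ∀ e ∈ Q, ∀ X ∈ opSpace h.minA.1, conjOp e X = X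
  fixT : ∀ e ∈ Q, ∀ u ∈ flagIn G A, ∀ s ∈ flagIn G A,
    conjOp e (be A B u * al A B s * B) = be A B u * al A B s * B
  norm : ∀ l ∈ lam G A B, ∀ e ∈ Q, l * e * l⁻¹ ∈ Q

section Main

variable {h : IsFrame G A B}

theorem EndHyp.fixA (hE : EndHyp G h Q) (he : e ∈ Q) : conjOp e A = A := hE.fixX e he A (self_mem_opSpace _)

theorem EndHyp.fixIdem (hE : EndHyp G h Q) (he : e ∈ Q) :
    conjOp e (A * B) = A * B ∧ conjOp e (B * A) = B * A ∧ conjOp e (eZ A B) = eZ A B := by
  have h1 := hE.fixA he
  have h2 := hE.fixB e he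
  refine ⟨by rw [conjOp_mul, h1, h2], by rw [conjOp_mul, h1, h2], ?_⟩
  simp only [eZ, map_sub, conjOp_one, conjOp_mul, h1, h2]

theorem EndHyp.conj_flagIn (hs : QSys G) (hE : EndHyp G h Q) (he : e ∈ Q) (hu : u ∈ flagIn G A) :
    e * u * e⁻¹ ∈ flagIn G A := by
  refine ⟨flagGp_normal ((mem_stabOp_iff h.minA).2 ⟨hE.le he, ?_⟩) hu.1 (by have := hs.five; omega),
    hs.compGp_normal h.minA (hE.le he) u hu.2⟩
  rw [hE.fixA he]; exact self_mem_opSpace _

theorem EndHyp.conj_vec (hs : QSys G) (hE : EndHyp G h Q) (he : e ∈ Q) (hv : v ∈ flagVec h) :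
    conjOp e v ∈ flagVec h := by
  obtain ⟨u, hu, rfl⟩ := mem_flagVec.1 hv
  obtain ⟨e1, e2, -⟩ := blocks_conj (hE.fixIdem he).1 (hE.fixIdem he).2.1 u
  exact mem_flagVec.2 ⟨_, hE.conj_flagIn hs he hu, by rw [e1, e2, map_add]⟩

theorem lam_fixIdem (h : IsFrame G A B) (hl : l ∈ lam G A B) :
    conjOp l (A * B) = A * B ∧ conjOp l (B * A) = B * A ∧ conjOp l (eZ A B) = eZ A B := by
  obtain ⟨c1, c2, c3⟩ := lam_comm h hl
  exact ⟨conjOp_eq_iff.2 c1, conjOp_eq_iff.2 c2, conjOp_eq_iff.2 c3⟩

theorem lam_conj_vec (hq : QHyp G) (hl : l ∈ lam G A B) (hv : v ∈ flagVec h) : conjOp l v ∈ flagVec h := by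
  obtain ⟨u, hu, rfl⟩ := mem_flagVec.1 hv
  obtain ⟨e1, e2, -⟩ := blocks_conj (lam_fixIdem h hl).1 (lam_fixIdem h hl).2.1 u
  refine mem_flagVec.2 ⟨l * u * l⁻¹, ⟨flagGp_normal hl.1.1 hu.1 (by have := hq.five; omega),
    (compGp G A).mul_mem ((compGp G A).mul_mem hl.2 hu.2) ((compGp G A).inv_mem hl.2)⟩, by rw [e1, e2, map_add]⟩

theorem EndHyp.pr_inv (hE : EndHyp G h Q) (he : e ∈ Q) (hv : v ∈ flagVec h) (hw : w ∈ flagVec h) :
    pr A B (conjOp e v) (conjOp e w) = pr A B v w := by
  obtain ⟨u, hu, rfl⟩ := mem_flagVec.1 hv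
  obtain ⟨s, hs', rfl⟩ := mem_flagVec.1 hw
  have e0 : ∀ x : E, be A B u * al A B s * B * A = be A B u * al A B s := fun _ => by
    rw [mul_assoc _ B A, mul_assoc, al_eM h]
  rw [pr, ← (hE.fixIdem he).2.2, ← conjOp_mul, ← conjOp_mul, ← pr, pr_blocks h]
  have := hE.fixT e he u hu s hs'
  rw [← e0 0]
  conv_lhs => rw [conjOp_mul, this, hE.fixA he]

theorem pr_diff_mem (hq : QHyp G) (hv : v ∈ flagVec h) (hw : w ∈ flagVec h) :
    pr A B v w - pr A B w v ∈ opSpace h.minA.1 := by
  obtain ⟨u, hu, rfl⟩ := mem_flagVec.1 hv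
  obtain ⟨s, hs', rfl⟩ := mem_flagVec.1 hw
  rw [pr_blocks h, pr_blocks h]
  exact omega_mem hq h hu.1 hs'.1

/-- The first vanishing: `β_{ev} α_v = β_v α_{ev}`. -/
theorem EndHyp.twist_diag (hs : QSys G) (hE : EndHyp G h Q) (he : e ∈ Q) (hv : v ∈ flagVec h) :
    pr A B (conjOp e v) v = pr A B v (conjOp e v) := by
  have hq := hs.toQHyp
  by_contra hne
  have hshift : pr A B (conjOp e v) v = pr A B v (conjOp e⁻¹ v) := by
    conv_lhs => rw [← hE.pr_inv (inv_mem he) (hE.conj_vec hs he hv) hv, ← conjOp_comp, inv_mul_cancel]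
    simp [conjOp_apply]
  set K : E := (pr A B v (conjOp e⁻¹ v) - pr A B v (conjOp e v)) * B with hKdef
  have hKk : K ∈ kk h := by
    rw [hKdef, ← hshift]; exact mul_B_mem_kk h (pr_diff_mem hq (hE.conj_vec hs he hv) hv)
  have hK0 : K ≠ 0 := by
    intro e0
    apply hne
    have hmem := pr_diff_mem hq (hE.conj_vec hs he hv) hv (h := h)
    have h2 := (mem_opA_blocks h hmem).2
    rw [hshift] at h2 ⊢
    rw [← sub_eq_zero, ← h2, ← mul_assoc, ← hKdef, e0, zero_mul]
  obtain ⟨j, hjA, hj0, hjfix⟩ := exists_fixed_in hE.pgroup (W := range A)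
    (by rw [Ne, range_eq_bot]; exact h.minA.2.1) (fun g hg x hx => by
      obtain ⟨y, rfl⟩ := hx
      exact ⟨(g : E) y, (conjOp_mul_apply (hE.fixA hg) y).symm⟩)
  obtain ⟨u, hu, huv⟩ := mem_flagVec.1 hv
  set M0 : E := ((e⁻¹ : GLM) : E) - (e : E) with hM0
  set K0 : E := v * B * (v * eZ A B) with hK0def
  have hK0Z : K0 ∈ spanZ G A B := by
    rw [hK0def, huv, (vec_blocks h u).2, add_mul, show be A B (u : E) * B = 0 by simp only [be]; frame_simp h,
      add_zero]
    exact (kLemma_diag hq h hu).2
  have hpres : ∀ i, ∀ x ∈ fil Q i, K0 x ∈ fil Q i := by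
    have hcomm : ∀ y : E, (∀ g ∈ Q, conjOp g y = y) → ∀ i, ∀ x ∈ fil Q i, y x ∈ fil Q i := by
      intro y hy i
      induction i with
      | zero => intro x hx; rw [(Submodule.mem_bot _).1 hx, map_zero]; exact zero_mem _
      | succ i ih =>
        intro x hx g hg
        rw [conjOp_mul_apply (hy g hg), ← map_sub]
        exact ih _ (hx g hg)
    have hlam : ∀ l ∈ lam G A B, ∀ i, ∀ x ∈ fil Q i, (l : E) x ∈ fil Q i := by
      intro l hl i
      induction i with
      | zero => intro x hx; rw [(Submodule.mem_bot _).1 hx, map_zero]; exact zero_mem _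
      | succ i ih =>
        intro x hx g hg
        have hg' := hE.norm _ (lam_inv_mem hl) g hg
        rw [inv_inv] at hg'
        have e0 : (g : E) ((l : E) x) - (l : E) x = (l : E) (((l⁻¹ * g * l : GLM) : E) x - x) := by
          simp only [map_sub, Units.val_mul, Module.End.mul_apply, apply_inv_apply]
        rw [e0]
        exact ih _ (hx _ hg')
    clear_value K0
    clear hK0def
    induction hK0Z using Submodule.span_induction with
    | mem y hy =>
      obtain ⟨l, hl, rfl⟩ := hy
      intro i x hx
      have hz : ∀ g ∈ Q, conjOp g (eZ A B) = eZ A B := fun g hg => (hE.fixIdem hg).2.2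
      rw [Module.End.mul_apply, Module.End.mul_apply]
      exact hcomm _ hz i _ (hlam l hl i _ (hcomm _ hz i x hx))
    | zero => intro i x _; simp
    | add y z _ _ hy hz => intro i x hx; rw [LinearMap.add_apply]; exact add_mem (hy i x hx) (hz i x hx)
    | smul c y _ hy => intro i x hx; rw [LinearMap.smul_apply]; exact Submodule.smul_mem _ c (hy i x hx)
  have hdrop : ∀ n i, ∀ x ∈ fil Q (i + n), ((M0 * K0) ^ n) x ∈ fil Q i := by
    intro n
    induction n with
    | zero => intro i x hx; simpa using hx
    | succ n ih =>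
      intro i x hx
      rw [pow_succ, Module.End.mul_apply]
      refine ih i _ ?_
      rw [Module.End.mul_apply, hM0, LinearMap.sub_apply]
      have hx' := hpres _ x (show x ∈ fil Q (i + n + 1) from hx)
      have e0 : ((e⁻¹ : GLM) : E) (K0 x) - (e : E) (K0 x) =
          (((e⁻¹ : GLM) : E) (K0 x) - K0 x) - ((e : E) (K0 x) - K0 x) := by abel
      rw [e0]
      exact sub_mem (hx' _ (inv_mem he)) (hx' _ he)
  have hnil : (M0 * K0) ^ Module.finrank (ZMod p) M = 0 := LinearMap.ext fun x => by
    have := hdrop (Module.finrank (ZMod p) M) 0 x (by rw [Nat.zero_add, fil_top hE.pgroup]; trivial)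
    rwa [fil, Submodule.mem_bot] at this
  have hKcomm : ∀ g ∈ Q, conjOp g K = K := fun g hg => by
    rw [hKdef, conjOp_mul, hE.fixB g hg, ← hshift,
      hE.fixX g hg _ (pr_diff_mem hq (hE.conj_vec hs he hv) hv)]
  have hconj : ∀ {g : GLM}, g ∈ Q → ∀ x : M, (∀ k ∈ Q, (k : E) x = x) →
      (pr A B v (conjOp g v) * B) x = (v * eZ A B * ((g : E) * (v * B))) x := by
    intro g hg x hx
    have : pr A B v (conjOp g v) * B = v * eZ A B * ((g : E) * (v * B)) * ((g⁻¹ : GLM) : E) := by
      rw [pr, conjOp_apply]
      simp only [mul_assoc]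
      rw [show ((g⁻¹ : GLM) : E) * B = B * ((g⁻¹ : GLM) : E) from conjOp_eq_iff.1 (hE.fixB _ (inv_mem hg))]
    rw [this, Module.End.mul_apply, hx _ (inv_mem hg)]
  have hfirst : ∀ x : M, (∀ k ∈ Q, (k : E) x = x) → K x = (v * eZ A B * (M0 * (v * B))) x := by
    intro x hx
    rw [hKdef, sub_mul, LinearMap.sub_apply, hconj (inv_mem he) x hx, hconj he x hx, hM0, sub_mul, mul_sub,
      LinearMap.sub_apply]
  have hiter : ∀ n : ℕ, (∀ k ∈ Q, (k : E) ((K ^ n) j) = (K ^ n) j) ∧ (A * B) ((K ^ n) j) = (K ^ n) j ∧
      (K ^ n) j ≠ 0 := by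
    intro n
    induction n with
    | zero =>
      refine ⟨by simpa using hjfix, ?_, by simpa using hj0⟩
      obtain ⟨y, rfl⟩ := hjA
      rw [pow_zero, Module.End.one_apply, ← Module.End.mul_apply, h.ABA]
    | succ n ih =>
      obtain ⟨i1, i2, i3⟩ := ih
      rw [pow_succ', Module.End.mul_apply]
      refine ⟨fun k hk => by rw [conjOp_mul_apply (hKcomm k hk), i1 k hk], ?_, fun e0 => i3 (kk_inj h hKk hK0 i2 e0)⟩
      rw [← Module.End.mul_apply, (kk_fix h hKk).1]
  have hform : ∀ n : ℕ, (K ^ (n + 1)) j = (v * eZ A B * ((M0 * K0) ^ n * (M0 * (v * B)))) j := by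
    intro n
    induction n with
    | zero => rw [pow_one, pow_zero, one_mul]; exact hfirst j hjfix
    | succ n ih =>
      rw [pow_succ', Module.End.mul_apply, hfirst _ (hiter (n + 1)).1, ih, ← Module.End.mul_apply, hK0def, pow_succ']
      simp only [mul_assoc]
  refine (hiter (Module.finrank (ZMod p) M + 1)).2.2 ?_
  rw [hform, hnil]
  simp

theorem pr_add_left (x y z : E) : pr A B (x + y) z = pr A B x z + pr A B y z := by simp only [pr, add_mul]

theorem pr_add_right (x y z : E) : pr A B x (y + z) = pr A B x y + pr A B x z := by simp only [pr, mul_add]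

theorem EndHyp.omega_fix (hs : QSys G) (hE : EndHyp G h Q) (he : e ∈ Q) (hv : v ∈ flagVec h) (hw : w ∈ flagVec h) :
    pr A B v (conjOp e w) - pr A B (conjOp e w) v = pr A B v w - pr A B w v := by
  let om : E → E → E := fun x y => pr A B x y - pr A B y x
  have key : ∀ g ∈ Q, ∀ x ∈ flagVec h, ∀ y ∈ flagVec h, om x (conjOp (g * g) y) = om x y := by
    intro g hg x hx y hy
    have t1 : ∀ x ∈ flagVec h, ∀ y ∈ flagVec h, om x (conjOp g y) = om (conjOp g x) y := by
      intro x hx y hy
      have d := hE.twist_diag hs hg (add_mem hx hy)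
      simp only [map_add, pr_add_left, pr_add_right, hE.twist_diag hs hg hx, hE.twist_diag hs hg hy] at d
      simp only [om]
      have d' := sub_eq_zero.2 d
      rw [← sub_eq_zero, ← neg_eq_zero, ← d']
      abel
    have t2 : om (conjOp g x) (conjOp g y) = om x y := by
      simp only [om, hE.pr_inv hg hx hy, hE.pr_inv hg hy hx]
    rw [conjOp_comp, t1 x hx _ (hE.conj_vec hs hg hy), t2]
  have hpow : ∀ n : ℕ, om v (conjOp ((e * e) ^ n) w) = om v w := by
    intro n
    induction n with
    | zero => simp [conjOp_apply]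
    | succ n ih =>
      rw [pow_succ', conjOp_comp]
      exact (key e he v hv _ (hE.conj_vec hs (pow_mem (mul_mem he he) n) hw)).trans ih
  obtain ⟨k, hk⟩ := hE.pgroup ⟨e, he⟩
  have hk' : e ^ p ^ k = 1 := congrArg Subtype.val hk
  have hodd : p ^ k % 2 = 1 := by
    have h2 : p % 2 = 1 := by
      rcases (Fact.out : p.Prime).eq_two_or_odd with e2 | e2
      · have := hs.five; omega
      · exact e2
    rw [Nat.pow_mod, h2, one_pow]; rfl
  have he2 : (e * e) ^ ((p ^ k + 1) / 2) = e := by
    rw [← pow_two, ← pow_mul, show 2 * ((p ^ k + 1) / 2) = p ^ k + 1 by omega, pow_succ, hk', one_mul]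
  have := hpow ((p ^ k + 1) / 2)
  rwa [he2] at this

/-- A `p`-group satisfying the hypotheses centralises the class group. -/
theorem EndHyp.centralises (hs : QSys G) (hE : EndHyp G h Q) (he : e ∈ Q) (hg : g ∈ compGp G A) :
    e * g = g * e := by
  classical
  have hq := hs.toQHyp
  set Δ : Submodule (ZMod p) E :=
    Submodule.span (ZMod p) {x | ∃ k ∈ Q, ∃ w ∈ flagVec h, x = conjOp k w - w} with hΔdef
  have hΔV : Δ ≤ flagVec h := Submodule.span_le.2 (by
    rintro _ ⟨k, hk, w, hw, rfl⟩; exact sub_mem (hE.conj_vec hs hk hw) hw)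
  have hom : ∀ x ∈ Δ, ∀ a ∈ flagVec h, pr A B a x = pr A B x a := by
    intro x hx a ha
    induction hx using Submodule.span_induction with
    | mem x hx =>
      obtain ⟨k, hk, w, hw, rfl⟩ := hx
      have := hE.omega_fix hs hk ha hw
      rw [sub_eq_sub_iff_sub_eq_sub] at this
      simpa only [pr, mul_sub, sub_mul] using this
    | zero => simp [pr]
    | add y z _ _ hy hz => rw [pr_add_left, pr_add_right, hy, hz]
    | smul c y _ hy => simp only [pr, mul_smul_comm, smul_mul_assoc] at hy ⊢; rw [hy]
  have hzero : ∀ x ∈ Δ, ∀ z ∈ flagVec h, (∀ k ∈ Q, conjOp k z = z) → pr A B x z = 0 := by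
    intro x hx z hz hfix
    induction hx using Submodule.span_induction with
    | mem x hx =>
      obtain ⟨k, hk, w, hw, rfl⟩ := hx
      have := hE.pr_inv hk hw hz
      rw [hfix k hk] at this
      simp only [pr, sub_mul] at this ⊢
      rw [this, sub_self]
    | zero => simp [pr]
    | add y z' _ _ hy hz' => rw [pr_add_left, hy, hz', add_zero]
    | smul c y _ hy => simp only [pr, smul_mul_assoc] at hy ⊢; rw [hy, smul_zero]
  let N : Set E := {x | x ∈ Δ ∧ ∀ k ∈ Q, conjOp k x = x}
  -- the exchange identity
  have hswap : ∀ v ∈ N, ∀ w ∈ N, ∀ a ∈ flagVec h, ∀ r ∈ flagVec h, ∀ Y ∈ opSpace h.minB.1,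
      ∀ Y' : E, pr A B v a * Y * (pr A B w r * Y') + pr A B v r * Y * (pr A B w a * Y') = 0 := by
    intro v hv w hw a ha r hr Y hY Y'
    rw [← hom w hw.1 r hr, ← hom w hw.1 a ha]
    have hK : eZ A B * a * Y * (r * eZ A B) + eZ A B * r * Y * (a * eZ A B) ∈ spanZ G A B := by
      obtain ⟨u, hu, rfl⟩ := mem_flagVec.1 ha
      obtain ⟨s, hs', rfl⟩ := mem_flagVec.1 hr
      rw [(vec_blocks h u).1, (vec_blocks h u).2, (vec_blocks h s).1, (vec_blocks h s).2]
      exact alYbe_mem_spanZ hq h hu hs' hY
    have hgen : ∀ x ∈ spanZ G A B, v * x * (w * Y') = 0 := by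
      intro x hx
      induction hx using Submodule.span_induction with
      | mem x hx =>
        obtain ⟨l, hl, rfl⟩ := hx
        have hlw : ∀ k ∈ Q, conjOp k (conjOp l w) = conjOp l w := by
          intro k hk
          rw [← conjOp_comp, show k * l = l * (l⁻¹ * k * l) by group, conjOp_comp]
          congr 1
          have := hE.norm _ (lam_inv_mem hl) k hk
          rw [inv_inv] at this
          exact hw.2 _ this
        have := hzero v hv.1 _ (lam_conj_vec hq hl (hΔV hw.1)) hlw
        have e0 : v * (eZ A B * (l : E) * eZ A B) * (w * Y') = pr A B v (conjOp l w) * ((l : E) * Y') := by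
          rw [pr, conjOp_apply]
          simp only [mul_assoc]
          rw [← mul_assoc ((l⁻¹ : GLM) : E), Units.inv_mul, one_mul, ← mul_assoc (eZ A B) w]
          have c := (lam_comm h hl).2.2
          rw [← mul_assoc (eZ A B) (l : E), ← c]
          simp only [mul_assoc, mul_eZ_idem h]
          rw [← mul_assoc (eZ A B) (l : E), ← c]
          simp only [mul_assoc]
        rw [e0, this, zero_mul]
      | zero => simp
      | add y z _ _ hy hz => rw [mul_add, add_mul, hy, hz, add_zero]
      | smul c y _ hy => rw [mul_smul_comm, smul_mul_assoc, hy, smul_zero]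
    have := hgen _ hK
    simp only [pr]
    simp only [mul_add, add_mul, mul_assoc] at this ⊢
    exact this
  -- nilpotency of the generators
  haveI : Finite M := Module.finite_of_finite (ZMod p)
  let b := Module.finBasis (ZMod p) (flagVec h)
  let gen : (N × Fin (Module.finrank (ZMod p) (flagVec h)) × opSpace h.minB.1) → E := fun t =>
    pr A B t.1.1 (b t.2.1) * (t.2.2 : E)
  have hdup : ∀ (L : List (N × Fin (Module.finrank (ZMod p) (flagVec h)) × opSpace h.minB.1))
      (i : Fin (Module.finrank (ZMod p) (flagVec h))) (v : N) (Y : opSpace h.minB.1) (w : N) (Y' : opSpace h.minB.1),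
      gen (v, i, Y) * (L.map gen).prod * gen (w, i, Y') = 0 := by
    intro L i
    induction L with
    | nil =>
      intro v Y w Y'
      rw [List.map_nil, List.prod_nil, mul_one]
      have := hswap v v.2 w w.2 _ (b i).2 _ (b i).2 Y Y.2 Y'
      rw [← two_smul (ZMod p)] at this
      exact (smul_eq_zero.1 this).resolve_left hq.two_ne
    | cons t L ih =>
      intro v Y w Y'
      obtain ⟨v', i', Y''⟩ := t
      rw [List.map_cons, List.prod_cons]
      have := hswap v v.2 v' v'.2 _ (b i).2 _ (b i').2 Y Y.2 (Y'' : E)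
      rw [add_eq_zero_iff_eq_neg] at this
      simp only [gen] at ih ⊢
      rw [show pr A B v (b i : E) * (Y : E) * (pr A B v' (b i' : E) * (Y'' : E) * (L.map gen).prod) *
          (pr A B w (b i : E) * (Y' : E)) =
          pr A B v (b i : E) * (Y : E) * (pr A B v' (b i' : E) * (Y'' : E)) * (L.map gen).prod *
          (pr A B w (b i : E) * (Y' : E)) by simp only [mul_assoc], this, neg_mul, neg_mul, mul_assoc, mul_assoc,
        ← mul_assoc (pr A B v' (b i : E) * (Y'' : E))]
      simp only [gen] at *
      rw [ih v' Y'' w Y', mul_zero, neg_zero]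
  have hlong : ∀ L : List (N × Fin (Module.finrank (ZMod p) (flagVec h)) × opSpace h.minB.1),
      ¬ (L.map fun t => t.2.1).Nodup → (L.map gen).prod = 0 := by
    intro L
    induction L with
    | nil => intro hL; simp at hL
    | cons t L ih =>
      intro hL
      rw [List.map_cons, List.nodup_cons, not_and_or, not_not] at hL
      rw [List.map_cons, List.prod_cons]
      rcases hL with hm | hn
      · obtain ⟨x, hx, e0⟩ := List.mem_map.1 hm
        obtain ⟨L1, L2, rfl⟩ := List.append_of_mem hx
        rw [List.map_append, List.map_cons, List.prod_append, List.prod_cons, ← mul_assoc, ← mul_assoc]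
        obtain ⟨v1, i1, Y1⟩ := t
        obtain ⟨v2, i2, Y2⟩ := x
        simp only at e0
        subst e0
        rw [hdup L1 i2 v1 Y1 v2 Y2, zero_mul]
      · rw [ih hn, mul_zero]
  -- every normalised element of `N` acts trivially
  have hN : ∀ v ∈ N, v = 0 := by
    intro v hv
    obtain ⟨u0, hu0, hveq⟩ := mem_flagVec.1 (hΔV hv.1)
    obtain ⟨g, hg, ga1, gb1, gc1, -⟩ := exists_normal hq h hu0
    rw [← ga1, ← gb1] at hveq gc1
    have hg1 : g = 1 := by
      have hker : ∀ W, IsSimpleInv (compGp G A) W → W ≤ LinearMap.ker ((g : E) - 1) := by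
        rintro W ⟨hWne, hWi, hWmin⟩
        have hAw : ∀ X, Conn G A X → ∀ x ∈ W, X x ∈ W := fun X hX x hx => by
          have := sub_mem (hWi _ (unip_mem_compGp hX) x hx) hx
          rwa [unip_val (hX.min h.minA).1.1, LinearMap.add_apply, Module.End.one_apply, add_sub_cancel_left] at this
        have hWA := hAw A .refl
        have hWB := hAw B h.partner.conn
        by_cases hWI : W ⊓ range A = ⊥
        · have zA : ∀ x ∈ W, A x = 0 := fun x hx =>
            (Submodule.mem_bot _).1 (by rw [← hWI]; exact ⟨hWA x hx, ⟨x, rfl⟩⟩)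
          intro x hx
          have hfix : ∀ c ∈ compGp G A, (c : E) x = x := by
            intro c hc
            revert x
            induction hc using Subgroup.closure_induction with
            | mem c hc =>
              obtain ⟨X, hX, rfl⟩ := hc
              intro x hx
              obtain ⟨k, -, hk, hkX⟩ := (hq.compGp_induction h (K := ⊤) le_top le_top le_top).2 X hX
              have hk0 := (h.minA.conj (compGp_le h.minA hk)).2.1
              have hX0 : X x = 0 := by
                rw [← mem_ker, ← (geometry_of_mem (hX.min h.minA) hkX hk0).2.1, mem_ker, conjOp_apply,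
                  Module.End.mul_apply, Module.End.mul_apply, zA _ (hWi _ (inv_mem hk) x hx), map_zero]
              rw [unip_val (hX.min h.minA).1.1, LinearMap.add_apply, Module.End.one_apply, hX0, add_zero]
            | one => intro x _; simp
            | mul c d _ _ ihc ihd => intro x hx; rw [Units.val_mul, Module.End.mul_apply, ihd hx, ihc hx]
            | inv c _ ihc =>
              intro x hx
              conv_lhs => rw [← ihc hx]
              rw [inv_apply_apply]
          rw [mem_ker, LinearMap.sub_apply, Module.End.one_apply, hfix g hg.2, sub_self]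
        · have hPW : ∀ t, ∀ x ∈ W, gen t x ∈ W := by
            rintro ⟨v', i', Y''⟩ x hx
            obtain ⟨u1, hu1, e1⟩ := mem_flagVec.1 (hΔV v'.2.1)
            obtain ⟨u2, hu2, e2⟩ := mem_flagVec.1 (b i').2
            simp only [gen, e1, e2]
            rw [pr_blocks h]
            simp only [Module.End.mul_apply]
            have pe : ∀ y ∈ W, eZ A B y ∈ W := fun y hy => by
              simp only [eZ, LinearMap.sub_apply, Module.End.one_apply, Module.End.mul_apply]
              exact sub_mem (sub_mem hy (hWA _ (hWB y hy))) (hWB _ (hWA y hy))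
            simp only [be, al, Module.End.mul_apply]
            have hy : (Y'' : E) x ∈ W := by
              rcases eq_or_ne (Y'' : E) 0 with e0 | e0
              · rw [e0]; simp
              · exact hAw _ (h.partner.conn.trans' (hq.conn_mem h.minB Y''.2 e0)) x hx
            exact hWA _ (hWB _ (hWi _ hu1.2 _ (pe _ (pe _ (hWi _ hu2.2 _ (hWB _ (hWA _ hy)))))))
          have hex : ∃ x ∈ W ⊓ range A, x ≠ 0 ∧ ∀ t, gen t x = 0 := by
            by_contra hcon
            push Not at hcon
            obtain ⟨x0, hx0, hx00⟩ := (Submodule.ne_bot_iff _).1 hWI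
            have hstep : ∀ n : ℕ, ∃ L : List (N × Fin (Module.finrank (ZMod p) (flagVec h)) × opSpace h.minB.1),
                L.length = n ∧ (L.map gen).prod x0 ≠ 0 ∧ (L.map gen).prod x0 ∈ W ⊓ range A := by
              intro n
              induction n with
              | zero => exact ⟨[], rfl, by simpa using hx00, by simpa using hx0⟩
              | succ n ih =>
                obtain ⟨L, hL, hne, hm⟩ := ih
                obtain ⟨t, ht⟩ := hcon _ hm hne
                refine ⟨t :: L, by rw [List.length_cons, hL], ?_, ?_⟩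
                · rwa [List.map_cons, List.prod_cons, Module.End.mul_apply]
                · rw [List.map_cons, List.prod_cons, Module.End.mul_apply]
                  refine ⟨hPW t _ hm.1, ?_⟩
                  obtain ⟨u1, hu1, e1⟩ := mem_flagVec.1 (hΔV t.1.2.1)
                  obtain ⟨u2, hu2, e2⟩ := mem_flagVec.1 (b t.2.1).2
                  simp only [gen, e1, e2]
                  rw [pr_blocks h]
                  simp only [be, Module.End.mul_apply]
                  exact ⟨_, rfl⟩
            obtain ⟨L, hL, hne, -⟩ := hstep (Module.finrank (ZMod p) (flagVec h) + 1)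
            refine hne ?_
            rw [hlong L ?_, LinearMap.zero_apply]
            intro hnd
            have := hnd.length_le_card
            simp [hL] at this
          obtain ⟨x1, hx1, hx10, hx1z⟩ := hex
          let J : Submodule (ZMod p) M := W ⊓ range A ⊓
            ⨅ (w : N) (a : flagVec h) (Y : opSpace h.minB.1), LinearMap.ker (pr A B w a * (Y : E))
          have hJmem : ∀ y, y ∈ J ↔ y ∈ W ∧ y ∈ range A ∧
              ∀ w ∈ N, ∀ a ∈ flagVec h, ∀ Y ∈ opSpace h.minB.1, (pr A B w a * Y) y = 0 := fun y => by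
            simp only [J, Submodule.mem_inf, Submodule.mem_iInf, mem_ker, and_assoc]
            exact ⟨fun ⟨a1, a2, a3⟩ => ⟨a1, a2, fun w hw a ha Y hY => a3 ⟨w, hw⟩ ⟨a, ha⟩ ⟨Y, hY⟩⟩,
              fun ⟨a1, a2, a3⟩ => ⟨a1, a2, fun w a Y => a3 w w.2 a a.2 Y Y.2⟩⟩
          have hx1J : x1 ∈ J := (hJmem _).2 ⟨hx1.1, hx1.2, fun w hw a ha Y hY => by
            rw [show (a : E) = ((⟨a, ha⟩ : flagVec h) : E) from rfl, ← b.sum_repr ⟨a, ha⟩]
            simp only [Submodule.coe_sum, Submodule.coe_smul, pr, Finset.mul_sum, Finset.sum_mul, mul_smul_comm,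
              smul_mul_assoc, LinearMap.sum_apply, LinearMap.smul_apply]
            refine Finset.sum_eq_zero fun i _ => ?_
            have := hx1z (⟨w, hw⟩, i, ⟨Y, hY⟩)
            simp only [gen, pr] at this
            rw [this, smul_zero]⟩
          have hJl : ∀ l ∈ lam G A B, ∀ y ∈ J, (l : E) y ∈ J := by
            intro l hl y hy
            obtain ⟨yW, yA, yz⟩ := (hJmem y).1 hy
            refine (hJmem _).2 ⟨hWi _ hl.2 y yW, hl.1.1.2.1 ▸ Submodule.mem_map_of_mem yA, fun w hw a ha Y hY => ?_⟩
            have hli := lam_inv_mem hl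
            have hYl : conjOp l⁻¹ Y ∈ opSpace h.minB.1 := lam_conj_opA h.symm (l := l⁻¹)
              ⟨⟨hli.1.2, hli.1.1⟩, by rw [compGp_eq_of_conn h.partner.conn]; exact hli.2⟩ hY
            have hwl : conjOp l⁻¹ w ∈ N := by
              refine ⟨?_, fun k hk => ?_⟩
              · have : Δ ≤ Δ.comap (conjOp l⁻¹).toLinearMap := Submodule.span_le.2 (by
                  rintro _ ⟨k, hk, z, hz, rfl⟩
                  refine Submodule.subset_span ⟨l⁻¹ * k * l, by
                    have := hE.norm _ hli k hk; rwa [inv_inv] at this, conjOp l⁻¹ z, lam_conj_vec hq hli hz, ?_⟩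
                  show conjOp l⁻¹ (conjOp k z - z) = _
                  rw [map_sub, ← conjOp_comp (l⁻¹ * k * l), mul_assoc (l⁻¹ * k), mul_inv_cancel, mul_one,
                    ← conjOp_comp])
                exact this hw.1
              · rw [← conjOp_comp, show k * l⁻¹ = l⁻¹ * (l * k * l⁻¹) by group, conjOp_comp, hw.2 _ (hE.norm l hl k hk)]
            have e0 : pr A B w a * Y * (l : E) =
                (l : E) * (pr A B (conjOp l⁻¹ w) (conjOp l⁻¹ a) * conjOp l⁻¹ Y) := by
              have e1 : conjOp l⁻¹ w * eZ A B * conjOp l⁻¹ a * conjOp l⁻¹ Y = conjOp l⁻¹ (w * eZ A B * a * Y) := by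
                rw [conjOp_mul, conjOp_mul, conjOp_mul, (lam_fixIdem h hli).2.2]
              rw [pr, pr, e1, conjOp_apply, inv_inv]
              simp only [← mul_assoc, Units.mul_inv, one_mul]
            rw [← Module.End.mul_apply, e0, Module.End.mul_apply,
              yz _ hwl _ (lam_conj_vec hq hli ha) _ hYl, map_zero]
          have hJA : J ≤ range A := fun y hy => ((hJmem y).1 hy).2.1
          obtain ⟨W1, hW1i, hJW1, -, hW1eq⟩ := exists_generated hq h hJA hJl
          have hW1le : W1 ≤ W := by
            rw [hW1eq]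
            refine sup_le (fun y hy => ((hJmem y).1 hy).1) (Submodule.span_le.2 ?_)
            rintro _ ⟨s, hs', y, hy, rfl⟩
            exact hWi _ hs'.2 _ (hWB _ ((hJmem y).1 hy).1)
          have hW1 : W1 = W := (hWmin W1 hW1i hW1le).resolve_left fun e0 =>
            hx10 ((Submodule.mem_bot _).1 (e0 ▸ hJW1 hx1J))
          have hfixJ : ∀ y ∈ J, (g : E) y = y := fun y hy => by
            obtain ⟨z, rfl⟩ := hJA hy
            rw [← Module.End.mul_apply, (flag_mul_A hg.1).1]
          have hBJ : ∀ y ∈ J, (g : E) (B y) = B y := by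
            intro y hy
            obtain ⟨yW, yA, yz⟩ := (hJmem y).1 hy
            have hz : ∀ a ∈ flagVec h, (pr A B v a * B) y = 0 := fun a ha => yz v hv a ha B (self_mem_opSpace _)
            set z : M := (al A B (g : E) * B) y with hzdef
            have hzW : z ∈ W := by
              have e1 := sub_mem (hWi _ hg.2 _ (hWB y yW)) (hWB y yW)
              have e2 : ((g : E) * B) y - B y = z + (ga A B (g : E) * B) y := by
                rw [flag_u_B h hg.1, hzdef]; simp only [LinearMap.add_apply]; abel
              rw [← Module.End.mul_apply, e2, gc1, ← pr_blocks h, ← hveq, smul_mul_assoc, LinearMap.smul_apply,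
                hz v (hΔV hv.1), smul_zero, add_zero] at e1
              exact e1
            have hz0 : z = 0 := by
              by_contra hne
              have hzi : InvUnder (compGp G A) (Submodule.span (ZMod p) {z}) := by
                refine invUnder_iff.2 (compGp_le_of_gens hq h (fun s hs' => mem_stabSub_of_map_le ?_)
                  (mem_stabSub_of_map_le ?_))
                · intro y' hy'
                  obtain ⟨c, rfl⟩ := Submodule.mem_span_singleton.1 hy'
                  rw [map_smul]
                  refine Submodule.smul_mem _ c ?_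
                  have : (s : E) z = z := by
                    have e0 : (s : E) * (al A B (g : E) * B) =
                        al A B g * B + pr A B (al A B (s : E) + be A B s) v * B := by
                      rw [hveq, pr_blocks h, ← eZ_al h, ← mul_assoc, ← mul_assoc, flag_u_eZ h hs'.1, add_mul,
                        add_mul, ← eZ_al h (g : E)]
                      simp only [be]; frame_simp h
                    rw [hzdef, ← Module.End.mul_apply, e0, LinearMap.add_apply,
                      hom v hv.1 _ (mem_flagVec.2 ⟨s, hs', rfl⟩), hz _ (mem_flagVec.2 ⟨s, hs', rfl⟩), add_zero]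
                  rw [this]
                  exact Submodule.mem_span_singleton_self z
                · intro y' hy'
                  obtain ⟨c, rfl⟩ := Submodule.mem_span_singleton.1 hy'
                  rw [map_smul]
                  refine Submodule.smul_mem _ c ?_
                  have hBz : B z = 0 := by
                    rw [hzdef, ← Module.End.mul_apply, ← eZ_al h]; frame_simp h; rfl
                  rw [unip_val h.BB, LinearMap.add_apply, Module.End.one_apply, hBz, add_zero]
                  exact Submodule.mem_span_singleton_self z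
              rcases hWmin _ hzi ((Submodule.span_singleton_le_iff_mem _ _).2 hzW) with e0 | e0
              · exact hne (Submodule.span_singleton_eq_bot.1 e0)
              · have hx1W : x1 ∈ Submodule.span (ZMod p) {z} := e0 ▸ hx1.1
                obtain ⟨c, hc⟩ := Submodule.mem_span_singleton.1 hx1W
                obtain ⟨y', hy'⟩ := hx1.2
                have e1 : (A * B) x1 = x1 := by rw [← hy', ← Module.End.mul_apply, h.ABA]
                have e2 : (A * B) z = 0 := by
                  rw [hzdef, ← Module.End.mul_apply, ← eZ_al h]; frame_simp h; rfl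
                exact hx10 (by rw [← e1, ← hc, map_smul, e2, smul_zero])
            rw [← Module.End.mul_apply, flag_u_B h hg.1, LinearMap.add_apply, LinearMap.add_apply, ← hzdef, hz0,
              add_zero, gc1, ← pr_blocks h, ← hveq, smul_mul_assoc, LinearMap.smul_apply, hz v (hΔV hv.1),
              smul_zero, add_zero]
          rw [← hW1, hW1eq]
          refine sup_le (fun y hy => ?_) (Submodule.span_le.2 ?_)
          · rw [mem_ker, LinearMap.sub_apply, Module.End.one_apply, hfixJ y hy, sub_self]
          · rintro _ ⟨s, hs', y, hy, rfl⟩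
            rw [SetLike.mem_coe, mem_ker, LinearMap.sub_apply, Module.End.one_apply, sub_eq_zero]
            have hgs : (g : E) * (s : E) = (s : E) * (g : E) := by
              obtain ⟨a1, a2, a3⟩ := blocks_mul h hg.1 hs'.1
              obtain ⟨b1, b2, b3⟩ := blocks_mul h hs'.1 hg.1
              have hp : be A B (s : E) * al A B g = be A B g * al A B s := by
                rw [← pr_blocks h, ← pr_blocks h, ← hveq]
                exact hom v hv.1 _ (mem_flagVec.2 ⟨s, hs', rfl⟩)
              rw [← Units.val_mul, ← Units.val_mul, flag_blocks h (mul_mem hg.1 hs'.1),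
                flag_blocks h (mul_mem hs'.1 hg.1), a1, a2, a3, b1, b2, b3, hp]
              abel
            rw [← Module.End.mul_apply, ← mul_assoc, hgs, Module.End.mul_apply, Module.End.mul_apply, hBJ y hy,
              ← Module.End.mul_apply]
      have htop : LinearMap.ker ((g : E) - 1) = ⊤ := top_le_iff.1 ((hs.iSup_simple h.minA).symm.le.trans
        (iSup₂_le hker))
      exact Units.ext (sub_eq_zero.1 (LinearMap.ker_eq_top.1 htop))
    rw [hveq, hg1, Units.val_one]
    simp only [al, be]; frame_simp h
  have hΔ : Δ = ⊥ := by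
    by_contra hne
    haveI := Submodule.nontrivial_iff_ne_bot.2 hne
    have hΔinv : ∀ k ∈ Q, Δ ≤ Δ.comap (conjOp k).toLinearMap := fun k hk => Submodule.span_le.2 (by
      rintro _ ⟨k', hk', z, hz, rfl⟩
      refine Submodule.subset_span ⟨k * k' * k⁻¹, mul_mem (mul_mem hk hk') (inv_mem hk), conjOp k z,
        hE.conj_vec hs hk hz, ?_⟩
      show conjOp k (conjOp k' z - z) = _
      rw [map_sub, ← conjOp_comp (k * k' * k⁻¹), inv_mul_cancel_right, ← conjOp_comp])
    haveI : Finite GLM := Finite.of_injective (fun g : GLM => ((g : E) : M → M))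
      (DFunLike.coe_injective.comp Units.val_injective)
    let f : ↥Q →* Module.End (ZMod p) ↥Δ :=
      { toFun := fun k => LinearMap.restrict (conjOp k.1).toLinearMap (fun x hx => hΔinv k.1 k.2 hx)
        map_one' := LinearMap.ext fun x => Subtype.ext (by simp [conjOp_apply])
        map_mul' := fun k k' => LinearMap.ext fun x => Subtype.ext (by
          simp [Module.End.mul_apply, conjOp_comp]) }
    obtain ⟨x, hx, hfix⟩ := CfsgLib.FGS.LinearPLength.exists_fixedMod hE.pgroup f ⊥
      (fun k x hx => by simp [(Submodule.mem_bot _).1 hx]) bot_ne_top ⊤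
    refine hx ?_
    rw [Submodule.mem_bot]
    refine Subtype.ext (hN x ⟨x.2, fun k hk => ?_⟩)
    have := hfix ⟨k, hk⟩ trivial
    rw [Submodule.mem_bot, sub_eq_zero] at this
    exact congrArg Subtype.val this
  have hVfix : ∀ k ∈ Q, ∀ w ∈ flagVec h, conjOp k w = w := fun k hk w hw => by
    have hmem : conjOp k w - w ∈ Δ := Submodule.subset_span ⟨k, hk, w, hw, rfl⟩
    rw [hΔ, Submodule.mem_bot, sub_eq_zero] at hmem
    exact hmem
  have hall : compGp G A ≤ Subgroup.centralizer (Q : Set GLM) := by
    refine compGp_le_of_gens hq h (fun u hu => ?_) ?_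
    · rw [Subgroup.mem_centralizer_iff]
      intro k hk
      obtain ⟨s, hs', sa, sb, sc, X, hX, rfl⟩ := exists_normal hq h hu
      rw [← sa, ← sb] at sc
      have hw := hVfix k hk _ (mem_flagVec.2 ⟨s, hs', rfl⟩)
      obtain ⟨i1, i2, i3⟩ := hE.fixIdem hk
      obtain ⟨c1, c2, c3⟩ := blocks_conj i1 i2 s
      have d1 : conjOp k (al A B (s : E)) = al A B s := by
        conv_lhs => rw [← (vec_blocks h s).1, conjOp_mul, i3, hw, (vec_blocks h s).1]
      have d2 : conjOp k (be A B (s : E)) = be A B s := by
        conv_lhs => rw [← (vec_blocks h s).2, conjOp_mul, i3, hw, (vec_blocks h s).2]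
      have d3 : conjOp k (ga A B (s : E)) = ga A B s := by
        rw [sc, map_smul, conjOp_mul, d1, d2]
      have hks : k * s * k⁻¹ = s := Units.ext (by
        rw [flag_blocks h (hE.conj_flagIn hs hk hs').1, c1, c2, c3, d1, d2, d3, ← flag_blocks h hs'.1])
      have hkX : k * unip X * k⁻¹ = unip X := by rw [conjOp_unip k hX.1.1, hE.fixX k hk X hX]
      rw [mul_inv_eq_iff_eq_mul] at hks hkX
      rw [← mul_assoc, hkX, mul_assoc, hks, ← mul_assoc]
    · rw [Subgroup.mem_centralizer_iff]
      intro k hk
      rw [← mul_inv_eq_iff_eq_mul, conjOp_unip k h.BB, hE.fixB k hk]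
  exact (Subgroup.mem_centralizer_iff.1 (hall hg) e he)

end Main

end CfsgLib.Flavell
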