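import Cfsg.Agent.Lib.Flavell.QuadMember
import Cfsg.Agent.Lib.Flavell.FixedSL2
import Cfsg.Agent.Lib.OpFitCoprime.Core

/-!
Frame systems, one frame in every class: the group is transitive on them, so a coprime solvable group fixes one,
and the invariant `p`-subgroups normalised by the fixed points stabilise it.
-/

set_option autoImplicit false

namespace CfsgLib.Flavell

open CfsgLib.QuadPair LinearMap
open scoped Pointwise

universe u

variable {p : ℕ} [Fact p.Prime] {M : Type u} [AddCommGroup M] [Module (ZMod p) M]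

local notation "GLM" => LinearMap.GeneralLinearGroup (ZMod p) M
local notation "E" => Module.End (ZMod p) M

variable {G R P : Subgroup (LinearMap.GeneralLinearGroup (ZMod p) M)} {A B A' B' X : Module.End (ZMod p) M}
  {g : LinearMap.GeneralLinearGroup (ZMod p) M}

/-- The two spaces of a frame. -/
def pairPt (h : IsFrame G A B) : ConjSp p M × ConjSp p M := (spPt h.minA.1, spPt h.minB.1)

theorem pairPt_symm (h : IsFrame G A B) : pairPt h.symm = (pairPt h).swap := rfl

variable [FiniteDimensional (ZMod p) M]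

/-- One frame in every class. -/
structure IsFrameSys (G : Subgroup GLM) (T : Set (ConjSp p M × ConjSp p M)) : Prop where
  frames : ∀ q ∈ T, ∃ A B, ∃ h : IsFrame G A B, q = pairPt h
  cover : ∀ X, IsMinOp G X → ∃ A B, ∃ h : IsFrame G A B, pairPt h ∈ T ∧ Conn G X A
  inj : ∀ (A B A' B' : E) (h : IsFrame G A B) (h' : IsFrame G A' B'), pairPt h ∈ T → pairPt h' ∈ T →
    Conn G A A' → pairPt h = pairPt h'

theorem mem_of_spPt_eq (hA : IsMinOp G A) (hX : IsMinOp G X) (e : spPt hA.1 = spPt hX.1) : X ∈ opSpace hA.1 := by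
  show X ∈ (spPt hA.1).sub
  rw [e]
  exact self_mem_opSpace hX.1

theorem QHyp.conn_of_spPt_eq (hq : QHyp G) (hA : IsMinOp G A) (hX : IsMinOp G X) (e : spPt hA.1 = spPt hX.1) :
    Conn G A X :=
  hq.conn_mem hA (mem_of_spPt_eq hA hX e) hX.2.1

theorem smul_pairPt (hg : g ∈ Subgroup.normalizer (G : Set GLM)) (h : IsFrame G A B) :
    g • pairPt h = pairPt (h.conjNorm hg) :=
  Prod.ext (smul_spPt_norm hg h.minA) (smul_spPt_norm hg h.minB)

theorem mem_stabOp_of_smul (hA : IsMinOp G A) (hg : g ∈ G) (e : g • spPt hA.1 = spPt hA.1) : g ∈ stabOp G A := by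
  rw [smul_spPt_norm (Subgroup.le_normalizer hg) hA] at e
  exact (mem_stabOp_iff hA).2 ⟨hg, mem_of_spPt_eq hA (hA.conj hg) e.symm⟩

theorem smul_of_mem_stabOp (hA : IsMinOp G A) (hg : g ∈ stabOp G A) : g • spPt hA.1 = spPt hA.1 :=
  smul_spPt_of_mem (Subgroup.le_normalizer hg.1) hA ((mem_stabOp_iff hA).1 hg).2

theorem IsFrameSys.smul {T : Set (ConjSp p M × ConjSp p M)} (hT : IsFrameSys G T)
    (hg : g ∈ Subgroup.normalizer (G : Set GLM)) : IsFrameSys G (g • T) := by
  have hgi : g⁻¹ ∈ Subgroup.normalizer (G : Set GLM) := inv_mem hg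
  refine ⟨?_, fun X hX => ?_, fun A B A' B' h h' hm hm' hc => ?_⟩
  · rintro _ ⟨q, hq, rfl⟩
    obtain ⟨A, B, h, rfl⟩ := hT.frames q hq
    exact ⟨_, _, h.conjNorm hg, smul_pairPt hg h⟩
  · obtain ⟨A, B, h, hm, hc⟩ := hT.cover _ (IsMinOp.conjNorm hgi hX)
    refine ⟨_, _, h.conjNorm hg, by rw [← smul_pairPt hg h]; exact Set.smul_mem_smul_set hm, ?_⟩
    have := hc.conjNorm hg
    rwa [← conjOp_comp, mul_inv_cancel, conjOp_id] at this
  · rw [Set.mem_smul_set_iff_inv_smul_mem, smul_pairPt hgi] at hm hm'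
    have := hT.inj _ _ _ _ _ _ hm hm' (hc.conjNorm hgi)
    rw [← smul_pairPt hgi h, ← smul_pairPt hgi h'] at this
    exact MulAction.injective _ this

theorem IsFrameSys.swap {T : Set (ConjSp p M × ConjSp p M)} (hT : IsFrameSys G T) :
    IsFrameSys G (Prod.swap '' T) := by
  refine ⟨?_, fun X hX => ?_, fun A B A' B' h h' hm hm' hc => ?_⟩
  · rintro _ ⟨q, hq, rfl⟩
    obtain ⟨A, B, h, rfl⟩ := hT.frames q hq
    exact ⟨B, A, h.symm, rfl⟩
  · obtain ⟨A, B, h, hm, hc⟩ := hT.cover X hX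
    exact ⟨B, A, h.symm, ⟨_, hm, rfl⟩, hc.trans' h.partner.conn⟩
  · have key : ∀ {A B : E} (h : IsFrame G A B), pairPt h ∈ Prod.swap '' T → pairPt h.symm ∈ T := by
      rintro A B h ⟨q, hq, e⟩
      have : q = pairPt h.symm := by rw [pairPt_symm h, ← e, Prod.swap_swap]
      rwa [← this]
    have := hT.inj _ _ _ _ h.symm h'.symm (key h hm) (key h' hm')
      ((h.partner.conn.symm.trans' hc).trans' h'.partner.conn)
    rw [pairPt_symm h, pairPt_symm h'] at this
    exact Prod.swap_injective this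

theorem finite_pairs : Finite (ConjSp p M × ConjSp p M) := by
  haveI : Finite M := Module.finite_of_finite (ZMod p)
  haveI : Finite E := Finite.of_injective (fun f : E => (f : M → M)) DFunLike.coe_injective
  haveI hsub : Finite (Submodule (ZMod p) E) :=
    Finite.of_injective (fun S : Submodule (ZMod p) E => (S : Set E)) SetLike.coe_injective
  haveI : Finite (ConjSp p M) := hsub
  infer_instance

/-- A frame system whose frames have a property available in every class. -/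
theorem QHyp.exists_frameSys (hq : QHyp G) (Q : ConjSp p M × ConjSp p M → Prop)
    (hQ : ∀ X, IsMinOp G X → ∃ A B, ∃ h : IsFrame G A B, Q (pairPt h) ∧ Conn G X A) :
    ∃ T, IsFrameSys G T ∧ ∀ q ∈ T, Q q := by
  haveI := finite_pairs (p := p) (M := M)
  let Ok : Set (Set (ConjSp p M × ConjSp p M)) := {T |
    (∀ q ∈ T, Q q ∧ ∃ A B, ∃ h : IsFrame G A B, q = pairPt h) ∧
    ∀ (A B A' B' : E) (h : IsFrame G A B) (h' : IsFrame G A' B'), pairPt h ∈ T → pairPt h' ∈ T →
      Conn G A A' → pairPt h = pairPt h'}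
  obtain ⟨T, hT, hmax⟩ := wellFounded_gt.has_min Ok ⟨∅, by simp [Ok]⟩
  refine ⟨T, ⟨fun q hqT => (hT.1 q hqT).2, fun X hX => ?_, hT.2⟩, fun q hqT => (hT.1 q hqT).1⟩
  by_contra hcon
  push Not at hcon
  obtain ⟨A, B, h, hQh, hc⟩ := hQ X hX
  refine hmax (insert (pairPt h) T) ⟨?_, ?_⟩ (Set.ssubset_insert fun hm => hcon A B h hm hc)
  · rintro q (rfl | hq')
    · exact ⟨hQh, A, B, h, rfl⟩
    · exact hT.1 q hq'
  · intro A1 B1 A2 B2 h1 h2 m1 m2 hc12
    rcases m1 with e1 | m1 <;> rcases m2 with e2 | m2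
    · rw [e1, e2]
    · refine absurd ?_ (hcon A2 B2 h2 m2)
      exact hc.trans' ((hq.conn_of_spPt_eq h.minA h1.minA (congrArg Prod.fst e1).symm).trans' hc12)
    · refine absurd ?_ (hcon A1 B1 h1 m1)
      exact hc.trans' ((hq.conn_of_spPt_eq h.minA h2.minA (congrArg Prod.fst e2).symm).trans' hc12.symm)
    · exact hT.2 _ _ _ _ h1 h2 m1 m2 hc12

/-- Transitivity on frame systems. -/
theorem QHyp.frameSys_transitive (hq : QHyp G) {T T' : Set (ConjSp p M × ConjSp p M)} (hT : IsFrameSys G T)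
    (hT' : IsFrameSys G T') : ∃ k ∈ G, k • T = T' := by
  haveI := finite_pairs (p := p) (M := M)
  have hN : ∀ g ∈ G, g ∈ Subgroup.normalizer (G : Set GLM) := fun g hg => Subgroup.le_normalizer hg
  have key : ∀ F : Set (ConjSp p M × ConjSp p M), F ⊆ T → ∃ k ∈ G, ∀ q ∈ F, k • q ∈ T' := by
    intro F
    induction F, Set.toFinite F using Set.Finite.induction_on with
    | empty => exact fun _ => ⟨1, one_mem G, fun q hq => absurd hq (Set.notMem_empty q)⟩
    | @insert q F hqF _ ih =>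
      intro hsub
      obtain ⟨g, hg, hgF⟩ := ih ((Set.subset_insert _ _).trans hsub)
      obtain ⟨A, B, h, rfl⟩ := hT.frames q (hsub (Set.mem_insert _ _))
      have hf := h.conjNorm (hN g hg)
      obtain ⟨A', B', h', hm', hc⟩ := hT'.cover _ hf.minA
      obtain ⟨c, -, hcL, hcm⟩ := (hq.compGp_induction hf (K := ⊤) le_top le_top le_top).2 A' hc
      have hcG : c ∈ G := compGp_le hf.minA hcL
      have hfc := hf.conjNorm (hN c hcG)
      obtain ⟨C, hC, hC0, hfC⟩ := h'.of_mem hq hcm hfc.minA.2.1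
      have hcc : Conn G (conjOp g A) (conjOp c (conjOp g A)) := QHyp.conn_conj_compGp hf.minA hcL _ .refl
      obtain ⟨v, hv, hvK, hvB⟩ := exists_flag_conj (K := compGp G (conjOp g A)) hq.five hfc hfC
        (hq.opGroup_le_compGp hf.minA hcc) (hq.opGroup_le_compGp hf.minA (hcc.trans' hfc.partner.conn))
        (hq.opGroup_le_compGp hf.minA (hcc.trans' hfC.partner.conn))
      refine ⟨v * c * g, mul_mem (mul_mem hv.1 hcG) hg, ?_⟩
      rintro q' (rfl | hq')
      · rw [mul_smul, mul_smul, smul_pairPt (hN g hg) h, smul_pairPt (hN c hcG) hf, smul_pairPt (hN v hv.1) hfc]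
        convert hm' using 1
        refine Prod.ext ?_ ?_
        · show spPt (hfc.conjNorm (hN v hv.1)).minA.1 = spPt h'.minA.1
          simp only [flag_conjOp hv]
          exact spPt_eq h'.minA hcm hfc.minA.2.1
        · show spPt (hfc.conjNorm (hN v hv.1)).minB.1 = spPt h'.minB.1
          simp only [hvB]
          exact spPt_eq h'.minB hC hC0
      · obtain ⟨A1, B1, h1, rfl⟩ := hT.frames q' (hsub (Set.mem_insert_of_mem _ hq'))
        have hf1 := h1.conjNorm (hN g hg)
        have hne : ¬ Conn G (conjOp g A) (conjOp g A1) := by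
          intro hc1
          have hmem : ∀ {A0 B0 : E} (h0 : IsFrame G A0 B0), pairPt h0 ∈ T →
              pairPt (h0.conjNorm (hN g hg)) ∈ g • T := fun h0 h0m => by
            rw [← smul_pairPt (hN g hg) h0]; exact Set.smul_mem_smul_set h0m
          have := (hT.smul (hN g hg)).inj _ _ _ _ hf hf1 (hmem h (hsub (Set.mem_insert _ _)))
            (hmem h1 (hsub (Set.mem_insert_of_mem _ hq'))) hc1
          rw [← smul_pairPt (hN g hg) h, ← smul_pairPt (hN g hg) h1] at this
          exact hqF ((MulAction.injective g this).symm ▸ hq')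
        have hne' : ¬ Conn G (conjOp g A) (conjOp g B1) := fun hc1 => hne (hc1.trans' hf1.partner.conn.symm)
        have hk : v * c ∈ compGp G (conjOp g A) := mul_mem hvK hcL
        have eA := hq.commute_compGp hf.minA hf1.minA hne hk
        have eB := hq.commute_compGp hf.minA hf1.minB hne' hk
        have hfix : (v * c) • pairPt hf1 = pairPt hf1 := by
          rw [smul_pairPt (hN _ (mul_mem hv.1 hcG)) hf1]
          simp only [pairPt, eA, eB]
        rw [mul_smul, smul_pairPt (hN g hg) h1, hfix, ← smul_pairPt (hN g hg) h1]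
        exact hgF _ hq'
  obtain ⟨k, hk, hkT⟩ := key T subset_rfl
  refine ⟨k, hk, Set.Subset.antisymm (by rintro _ ⟨q, hq', rfl⟩; exact hkT q hq') fun q' hq' => ?_⟩
  obtain ⟨A', B', h', rfl⟩ := hT'.frames q' hq'
  obtain ⟨A, B, h, hm, hc⟩ := (hT.smul (hN k hk)).cover A' h'.minA
  have hm' : pairPt h ∈ T' := by
    obtain ⟨q, hqT, e⟩ := hm
    rw [← e]; exact hkT q hqT
  rw [hT'.inj _ _ _ _ h' h hq' hm' hc]
  exact hm

theorem smul_image_swap {a : GLM} (T : Set (ConjSp p M × ConjSp p M)) :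
    a • (Prod.swap '' T) = Prod.swap '' (a • T) := by
  ext q
  constructor
  · rintro ⟨_, ⟨q', hq', rfl⟩, rfl⟩
    exact ⟨a • q', Set.smul_mem_smul_set hq', rfl⟩
  · rintro ⟨_, ⟨q', hq', rfl⟩, rfl⟩
    exact ⟨q'.swap, ⟨q', hq', rfl⟩, rfl⟩

section Coprime

variable (hs : QSys G) (hact : CfsgLib.OpFitCoprime.CoprimeAct G R)
include hs hact

/-- A coprime solvable group fixes a frame system. -/
theorem exists_fixed_frameSys : ∃ T, IsFrameSys G T ∧ ∀ a ∈ R, a • T = T := by
  haveI : Finite M := Module.finite_of_finite (ZMod p)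
  haveI : Finite GLM := finite_GLM
  have hq := hs.toQHyp
  obtain ⟨T₀, hT₀, -⟩ := hq.exists_frameSys (fun _ => True) fun X hX => by
    obtain ⟨Y, hY, hn⟩ := hq.partner X hX
    obtain ⟨C, -, -, h⟩ := hq.exists_frame (X := X) (Y := Y) ⟨hX, hY, hn⟩
    exact ⟨X, C, h, trivial, .refl⟩
  obtain ⟨k, hk, hkfix⟩ := CfsgLib.Solvable.exists_fixed_point R G hact.norm hact.cop (Or.inl hact.solv) T₀
    fun a ha => by
      obtain ⟨k, hk, e⟩ := hq.frameSys_transitive hT₀ (hT₀.smul (hact.norm ha))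
      exact ⟨k, hk, e.symm⟩
  exact ⟨k • T₀, hT₀.smul (Subgroup.le_normalizer hk), hkfix⟩

/-- The invariant subgroups normalised by the fixed points fix the first spaces of a fixed frame system. -/
theorem le_fix_fst {T : Set (ConjSp p M × ConjSp p M)} (hT : IsFrameSys G T) (hfix : ∀ a ∈ R, a • T = T)
    (hPG : P ≤ G) (hP : IsPGroup p P) (hRP : R ≤ Subgroup.normalizer (P : Set GLM))
    (hCP : G ⊓ Subgroup.centralizer (R : Set GLM) ≤ Subgroup.normalizer (P : Set GLM)) :
    ∀ x ∈ P, ∀ q ∈ T, x • q.1 = q.1 := by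
  haveI : Finite M := Module.finite_of_finite (ZMod p)
  haveI : Finite GLM := finite_GLM
  have hq := hs.toQHyp
  set K : Subgroup GLM := G ⊓ ⨅ q ∈ T, MulAction.stabilizer GLM q.1 with hKdef
  have hKmem : ∀ x, x ∈ K ↔ x ∈ G ∧ ∀ q ∈ T, x • q.1 = q.1 := fun x => by
    simp [hKdef, Subgroup.mem_inf, Subgroup.mem_iInf]
  have hKG : K ≤ G := inf_le_left
  have hRK : R ≤ Subgroup.normalizer (K : Set GLM) := by
    refine CfsgLib.Solvable.le_normalizer_of_conj_mem fun a ha x hx => ?_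
    rw [hKmem] at hx ⊢
    refine ⟨(Subgroup.mem_normalizer_iff.1 (hact.norm ha) x).1 hx.1, fun q hq' => ?_⟩
    have hm : a⁻¹ • q ∈ T := by
      rw [← Set.mem_smul_set_iff_inv_smul_mem, hfix a ha]; exact hq'
    rw [mul_smul, mul_smul, show a⁻¹ • q.1 = (a⁻¹ • q).1 from rfl, hx.2 _ hm, Prod.smul_fst, smul_inv_smul]
  obtain ⟨S⟩ := (inferInstance : Nonempty (Sylow p ↥G))
  set S' : Subgroup GLM := (S : Subgroup ↥G).map G.subtype with hS'
  obtain ⟨T', hT', hT'S⟩ := hq.exists_frameSys (fun q => ∀ x ∈ S', x • q.1 = q.1) fun X hX => by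
    obtain ⟨S₀, hS₀⟩ := hs.exists_sylow_le_stabOp hX
    obtain ⟨g, hg⟩ := MulAction.exists_smul_eq ↥G S₀ S
    have hgm : IsMinOp G (conjOp (g : GLM) X) := hX.conj g.2
    obtain ⟨Y, hY, hn⟩ := hq.partner _ hgm
    obtain ⟨C, -, -, h⟩ := hq.exists_frame (X := conjOp (g : GLM) X) (Y := Y) ⟨hgm, hY, hn⟩
    refine ⟨_, C, h, ?_, hs.conn_conjOp g.2 hX⟩
    rintro x ⟨y, hy, rfl⟩
    rw [← hg] at hy
    obtain ⟨y0, hy0, rfl⟩ := Subgroup.mem_map.1 hy
    show ((g : GLM) * (y0 : GLM) * (g : GLM)⁻¹) • spPt h.minA.1 = spPt h.minA.1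
    rw [show spPt h.minA.1 = (g : GLM) • spPt hX.1 from (smul_spPt_norm (Subgroup.le_normalizer g.2) hX).symm,
      mul_smul, mul_smul, inv_smul_smul]
    exact congrArg _ (smul_of_mem_stabOp hX (hS₀ ⟨y0, hy0, rfl⟩))
  obtain ⟨k, hk, hkT⟩ := hq.frameSys_transitive hT' hT
  have hle : MulAut.conj k • S' ≤ K := by
    intro y hy
    rw [CfsgLib.Solvable.mem_conj_smul_iff] at hy
    rw [hKmem]
    refine ⟨?_, fun q hq' => ?_⟩
    · have := Subgroup.map_subtype_le _ hy
      simpa [mul_assoc] using mul_mem (mul_mem hk this) (inv_mem hk)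
    · rw [← hkT] at hq'
      obtain ⟨q0, hq0, rfl⟩ := hq'
      have := hT'S q0 hq0 _ hy
      rw [mul_smul, mul_smul, inv_smul_eq_iff] at this
      exact this
  have hcopK : (Nat.card R).Coprime (Nat.card K) :=
    hact.cop.coprime_dvd_right (Subgroup.card_dvd_of_le hKG)
  obtain ⟨Q, hQ⟩ := CfsgLib.Solvable.exists_invariant_sylow R K hRK hcopK (Or.inl hact.solv) p
  set Q' : Subgroup GLM := (Q : Subgroup ↥K).map K.subtype with hQ'
  have hQG : Q' ≤ G := (Subgroup.map_subtype_le _).trans hKG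
  obtain ⟨S₁, hS₁⟩ : ∃ S₁ : Sylow p ↥G, (S₁ : Subgroup ↥G).map G.subtype = Q' := by
    refine CfsgLib.Solvable.exists_sylow_map_eq hQG S (le_antisymm ?_ ?_)
    · have hQp : IsPGroup p (Q'.subgroupOf G) := (Q.2.map K.subtype).comap_subtype
      obtain ⟨S₂, hS₂⟩ := hQp.exists_le_sylow
      rw [← Nat.card_congr (Subgroup.subgroupOfEquivOfLe hQG).toEquiv]
      refine (Nat.le_of_dvd Nat.card_pos (Subgroup.card_dvd_of_le hS₂)).trans ?_
      rw [S₂.card_eq_multiplicity, S.card_eq_multiplicity]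
    · have hSp : IsPGroup p ((MulAut.conj k • S').subgroupOf K) :=
        ((S.2.map G.subtype).map _).comap_subtype
      obtain ⟨Q₂, hQ₂⟩ := hSp.exists_le_sylow
      rw [← CfsgLib.Solvable.card_sylow_map S, ← hS', ← CfsgLib.Solvable.card_conj_smul k S',
        ← Nat.card_congr (Subgroup.subgroupOfEquivOfLe hle).toEquiv, hQ', CfsgLib.Solvable.card_sylow_map]
      refine (Nat.le_of_dvd Nat.card_pos (Subgroup.card_dvd_of_le hQ₂)).trans ?_
      rw [Q₂.card_eq_multiplicity, Q.card_eq_multiplicity]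
  have hPQ := CfsgLib.OpFitCoprime.le_sylow_of_invariant hact hPG hP hRP hCP S₁ (by rw [hS₁]; exact hQ)
  intro x hx q hq'
  have := hPQ hx
  rw [hS₁] at this
  exact ((hKmem x).1 (Subgroup.map_subtype_le _ this)).2 q hq'

end Coprime

end CfsgLib.Flavell
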