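import Cfsg.Agent.Lib.Flavell.QuadComp

/-!
The blocks `α`, `β`, `γ` of a flag element in a frame, the normalisation `γ - βα/2 ∈ opSpace A`, the space
`kk = opSpace A · B`, and the span of the frame stabiliser: it contains every `β_u α_s B` and every symmetrised
`α_u B β_s`.
-/

set_option autoImplicit false

namespace CfsgLib.Flavell

open CfsgLib.QuadPair LinearMap

universe u

variable {p : ℕ} [Fact p.Prime] {M : Type u} [AddCommGroup M] [Module (ZMod p) M]

local notation "GLM" => LinearMap.GeneralLinearGroup (ZMod p) M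
local notation "E" => Module.End (ZMod p) M

variable {G : Subgroup (LinearMap.GeneralLinearGroup (ZMod p) M)} {A B C D X Y x y : Module.End (ZMod p) M}
  {u s g l : LinearMap.GeneralLinearGroup (ZMod p) M}

/-- The `C ← I'` block. -/
def al (A B x : E) : E := eZ A B * x * (B * A)

/-- The `I ← C` block. -/
def be (A B x : E) : E := A * B * x * eZ A B

/-- The `I ← I'` block. -/
def ga (A B x : E) : E := A * B * x * (B * A)

section Blocks

variable (h : IsFrame G A B)
include h

theorem eP_be (x : E) : A * B * be A B x = be A B x := by simp only [be]; frame_simp h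

theorem be_eZ (x : E) : be A B x * eZ A B = be A B x := by simp only [be]; frame_simp h

theorem eZ_al (x : E) : eZ A B * al A B x = al A B x := by simp only [al]; frame_simp h

theorem al_eM (x : E) : al A B x * (B * A) = al A B x := by simp only [al]; frame_simp h

theorem eP_ga (x : E) : A * B * ga A B x = ga A B x := by simp only [ga]; frame_simp h

theorem ga_eM (x : E) : ga A B x * (B * A) = ga A B x := by simp only [ga]; frame_simp h

theorem flag_zero (hu : u ∈ flagGp G A) :
    B * A * ((u : E) - 1) = 0 ∧ ((u : E) - 1) * (A * B) = 0 ∧ eZ A B * ((u : E) - 1) * eZ A B = 0 := by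
  obtain ⟨-, ⟨h1, h2, h3⟩, -⟩ := hu
  refine ⟨by rw [mul_assoc, h1, mul_zero], by rw [← mul_assoc, h2, zero_mul], LinearMap.ext fun v => ?_⟩
  have hk : eZ A B v ∈ ker A := by rw [mem_ker, ← Module.End.mul_apply, A_eZ h, LinearMap.zero_apply]
  obtain ⟨w, hw⟩ := h3 _ hk
  rw [Module.End.mul_apply, Module.End.mul_apply, ← hw, ← Module.End.mul_apply, eZ_A h]; rfl

theorem flag_blocks (hu : u ∈ flagGp G A) : (u : E) = 1 + al A B u + be A B u + ga A B u := by
  obtain ⟨h1, h2, h3⟩ := flag_zero h hu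
  set z : E := (u : E) - 1 with hz
  have e : ∀ P Q : E, P * Q = 0 → P * (u : E) * Q = P * z * Q := fun P Q hPQ => by
    rw [hz, mul_sub, sub_mul, mul_one, hPQ, sub_zero]
  have hs : z = (A * B + eZ A B + B * A) * z * (A * B + eZ A B + B * A) := by rw [eZ_add]; simp
  simp only [add_mul, mul_add] at hs
  simp only [mul_assoc] at h1 h2 h3 hs
  have h1' : ∀ x : E, B * (A * (z * x)) = 0 := fun x => by
    rw [← mul_assoc A z, ← mul_assoc B, h1, zero_mul]
  simp only [h1, h1', h2, h3, mul_zero, add_zero, zero_add] at hs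
  have h2' : ∀ P : E, P * (z * (A * B)) = 0 := fun P => by rw [h2, mul_zero]
  rw [al, be, ga, e _ _ (by frame_simp h), e _ _ (by frame_simp h), e _ _ (by frame_simp h),
    show (u : E) = 1 + z by rw [hz]; abel]
  conv_lhs => rw [hs]
  simp only [mul_assoc]
  abel

theorem flag_u_B (hu : u ∈ flagGp G A) : (u : E) * B = B + al A B u * B + ga A B u * B := by
  conv_lhs => rw [flag_blocks h hu]
  simp only [be]
  frame_simp h

theorem flag_u_eZ (hu : u ∈ flagGp G A) : (u : E) * eZ A B = eZ A B + be A B u := by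
  conv_lhs => rw [flag_blocks h hu]
  simp only [al, ga, be]
  frame_simp h

theorem eP_flag (hu : u ∈ flagGp G A) : A * B * (u : E) = A * B + be A B u + ga A B u := by
  conv_lhs => rw [flag_blocks h hu]
  simp only [al, ga, be]
  frame_simp h

theorem eZ_flag (hu : u ∈ flagGp G A) : eZ A B * (u : E) = eZ A B + al A B u := by
  conv_lhs => rw [flag_blocks h hu]
  simp only [al, ga, be]
  frame_simp h

theorem blocks_mul (hu : u ∈ flagGp G A) (hs : s ∈ flagGp G A) :
    al A B ((u * s : GLM) : E) = al A B u + al A B s ∧ be A B ((u * s : GLM) : E) = be A B u + be A B s ∧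
      ga A B ((u * s : GLM) : E) = ga A B u + ga A B s + be A B u * al A B s := by
  refine ⟨?_, ?_, ?_⟩
  · conv_lhs => rw [Units.val_mul, flag_blocks h hu, flag_blocks h hs]
    simp only [al, be, ga]
    frame_simp h
  · conv_lhs => rw [Units.val_mul, flag_blocks h hu, flag_blocks h hs]
    simp only [al, be, ga]
    frame_simp h
  · conv_lhs => rw [Units.val_mul, flag_blocks h hu, flag_blocks h hs]
    simp only [al, be, ga]
    frame_simp h
    abel

theorem blocks_inv (hu : u ∈ flagGp G A) :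
    al A B ((u⁻¹ : GLM) : E) = -al A B u ∧ be A B ((u⁻¹ : GLM) : E) = -be A B u := by
  obtain ⟨e1, e2, -⟩ := blocks_mul h hu (inv_mem hu)
  rw [mul_inv_cancel] at e1 e2
  refine ⟨eq_neg_of_add_eq_zero_right (e1.symm.trans ?_), eq_neg_of_add_eq_zero_right (e2.symm.trans ?_)⟩
  · simp only [al, Units.val_one]; frame_simp h
  · simp only [be, Units.val_one]; frame_simp h

end Blocks

/-- The space `opSpace A · B`. -/
def kk (h : IsFrame G A B) : Submodule (ZMod p) E := (opSpace h.minA.1).map (mulRight (ZMod p) B)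

/-- The stabiliser of a frame in the group of its class. -/
def lam (G : Subgroup GLM) (A B : E) : Subgroup GLM := stabOp G A ⊓ stabOp G B ⊓ compGp G A

/-- The span of the blocks on `range A` of the frame stabiliser. -/
def spanP (G : Subgroup GLM) (A B : E) : Submodule (ZMod p) E :=
  Submodule.span (ZMod p) {x | ∃ l ∈ lam G A B, x = A * B * (l : E) * (A * B)}

/-- The span of the middle blocks of the frame stabiliser. -/
def spanZ (G : Subgroup GLM) (A B : E) : Submodule (ZMod p) E :=
  Submodule.span (ZMod p) {x | ∃ l ∈ lam G A B, x = eZ A B * (l : E) * eZ A B}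

theorem weyl_inv_val (h : IsFrame G A B) : ((weyl A B)⁻¹ : GLM).val = eZ A B - A + B :=
  Units.inv_eq_of_mul_eq_one_right (by
    rw [weyl_val h.inv h.AA h.BB, ← eZ_add A B]
    frame_simp h
    simp only [eZ]
    abel)

theorem conjOp_weyl_right (h : IsFrame G A B) : conjOp (weyl A B) B = -A := by
  rw [conjOp_apply, weyl_inv_val h, weyl_val h.inv h.AA h.BB]
  simp only [eZ]
  frame_simp h
  abel

theorem conjOp_weyl_inv (h : IsFrame G A B) : conjOp (weyl A B)⁻¹ A = -B := by
  conv_lhs => arg 2; rw [show A = -conjOp (weyl A B) B by rw [conjOp_weyl_right h, neg_neg]]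
  rw [map_neg, ← conjOp_comp, inv_mul_cancel]
  simp [conjOp_apply]

theorem conjOp_weyl_inv_right (h : IsFrame G A B) : conjOp (weyl A B)⁻¹ B = -A := by
  conv_lhs => arg 2; rw [show B = -conjOp (weyl A B) A by rw [conjOp_weyl h.inv h.AA h.BB, neg_neg]]
  rw [map_neg, ← conjOp_comp, inv_mul_cancel]
  simp [conjOp_apply]

variable [FiniteDimensional (ZMod p) M]

theorem QHyp.weyl_mem_compGp (hq : QHyp G) (h : IsFrame G A B) {A₀ : E} (hc : Conn G A₀ A)
    : weyl A B ∈ compGp G A₀ := by
  rw [← compGp_eq_of_conn hc]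
  unfold weyl
  have a := hq.opGroup_le_compGp h.minA .refl (unip_mem_opGroup (self_mem_opSpace _))
  have b := hq.opGroup_le_compGp h.minA h.partner.conn (unip_mem_opGroup (self_mem_opSpace _))
  exact mul_mem (mul_mem a (inv_mem b)) a

theorem conj_mem_space {Z : E} (hX : IsMinOp G X) (hZ : IsMinOp G Z) (hY : Y ∈ opSpace hX.1)
    (hg : g ∈ G) (hc : conjOp g X ∈ opSpace hZ.1) : conjOp g Y ∈ opSpace hZ.1 := by
  have := conjOp_mem_opSpace hX.1 hg hY
  rwa [opSpace_eq hZ hc (hX.conj hg).2.1] at this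

section Frame

variable (hq : QHyp G) (h : IsFrame G A B)
include hq h

theorem aba_mem (hY : Y ∈ opSpace h.minB.1) : A * Y * A ∈ opSpace h.minA.1 := by
  rcases eq_or_ne Y 0 with rfl | hY0
  · simp
  exact triple_mem_opSpace hq h.minA (geometry_of_mem h.minB hY hY0).2.2

omit hq in
theorem mem_opA_blocks (hX : X ∈ opSpace h.minA.1) : A * B * X = X ∧ X * (B * A) = X := by
  have h1 : (A * B + B * A) * A = A ∧ A * (A * B + B * A) = A := h.inv.left_fix h.AA
  constructor
  · refine LinearMap.ext fun v => ?_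
    obtain ⟨w, hw⟩ := hX.2.1 ⟨v, rfl⟩
    rw [Module.End.mul_apply, ← hw, ← Module.End.mul_apply, h.ABA]
  · refine LinearMap.ext fun v => ?_
    rw [Module.End.mul_apply, ← sub_eq_zero, ← map_sub]
    exact hX.2.2 (by rw [mem_ker, map_sub, ← Module.End.mul_apply, ABA' h, sub_self])

theorem conjB_sandwich (hu : u ∈ flagGp G A) :
    B * conjOp u B * B = B * ga A B u * B * (be A B u * al A B u - ga A B u) * B := by
  have e1 := blocks_mul h hu (inv_mem hu)
  rw [mul_inv_cancel] at e1
  have z1 : ga A B ((1 : GLM) : E) = 0 := by simp only [ga, Units.val_one]; frame_simp h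
  have hg : ga A B ((u⁻¹ : GLM) : E) = be A B u * al A B u - ga A B u := by
    have := e1.2.2
    rw [z1, (blocks_inv h hu).1, mul_neg] at this
    rw [← sub_eq_zero]
    rw [this]; abel
  rw [← hg, conjOp_apply]
  conv_lhs => rw [flag_blocks h hu, flag_blocks h (inv_mem hu)]
  simp only [al, be, ga]
  frame_simp h

theorem gaN_mem (hu : u ∈ flagGp G A) :
    ga A B u - (2 : ZMod p)⁻¹ • (be A B u * al A B u) ∈ opSpace h.minA.1 := by
  set t : E := be A B u * al A B u with ht
  set γ : E := ga A B u with hγ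
  have hp3 : 3 ≤ p := by have := hq.five; omega
  have key : ∀ c : ZMod p,
      B * ((c • A + γ) * (B * ((t - (c • A + γ)) * B))) ∈ opSpace h.minB.1 := by
    intro c
    have hX : c • A ∈ opSpace h.minA.1 := Submodule.smul_mem _ c (self_mem_opSpace _)
    have hc := unip_mem_flagGp hp3 h.minA hX
    obtain ⟨e1, e2, e3⟩ := blocks_mul h hc hu
    have v1 : al A B (unip (c • A) : E) = 0 := by
      rw [unip_val hX.1.1]; simp only [al]; frame_simp h
    have v2 : be A B (unip (c • A) : E) = 0 := by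
      rw [unip_val hX.1.1]; simp only [be]; frame_simp h
    have v3 : ga A B (unip (c • A) : E) = c • A := by
      rw [unip_val hX.1.1]; simp only [ga]; frame_simp h
    have := triple_mem_opSpace hq h.minB (h.minB.conj (g := unip (c • A) * u) (mul_mem hc hu).1)
    rw [conjB_sandwich hq h (mul_mem hc hu), e1, e2, e3, v1, v2, v3, zero_mul, zero_add, zero_add, add_zero] at this
    simpa only [mul_assoc] using this
  have hd := sub_mem (key 1) (key (-1))
  have hval : B * (((1 : ZMod p) • A + γ) * (B * ((t - ((1 : ZMod p) • A + γ)) * B))) -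
      B * (((-1 : ZMod p) • A + γ) * (B * ((t - ((-1 : ZMod p) • A + γ)) * B))) =
      (2 : ZMod p) • (B * ((t - γ - γ) * B)) := by
    simp only [one_smul, neg_smul]
    frame_simp h
    module
  rw [hval] at hd
  have hY : B * ((t - γ - γ) * B) ∈ opSpace h.minB.1 := by
    have := Submodule.smul_mem _ (2 : ZMod p)⁻¹ hd
    rwa [smul_smul, inv_mul_cancel₀ hq.two_ne, one_smul] at this
  have := Submodule.smul_mem _ (-(2 : ZMod p)⁻¹) (aba_mem hq h hY)
  convert this using 1
  have p1 : A * B * t = t := by rw [ht, ← mul_assoc, eP_be h]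
  have p2 : t * (B * A) = t := by rw [ht, mul_assoc, al_eM h]
  have e : A * (B * ((t - γ - γ) * B)) * A = A * B * (t - γ - γ) * (B * A) := by simp only [mul_assoc]
  rw [e, mul_sub, mul_sub, sub_mul, sub_mul, p1, p2, hγ, eP_ga h, ga_eM h, ← hγ, neg_smul, smul_sub, smul_sub]
  have e2 : (2 : ZMod p)⁻¹ • γ + (2 : ZMod p)⁻¹ • γ = γ := by
    rw [← add_smul, show (2 : ZMod p)⁻¹ + 2⁻¹ = 1 by rw [← two_mul]; exact mul_inv_cancel₀ hq.two_ne, one_smul]
  rw [show -((2 : ZMod p)⁻¹ • t - (2 : ZMod p)⁻¹ • γ - (2 : ZMod p)⁻¹ • γ) =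
    ((2 : ZMod p)⁻¹ • γ + (2 : ZMod p)⁻¹ • γ) - (2 : ZMod p)⁻¹ • t by abel, e2]

/-- The normalised element with the same `α` and `β`. -/
theorem exists_normal (hu : u ∈ flagIn G A) :
    ∃ s ∈ flagIn G A, al A B (s : E) = al A B u ∧ be A B (s : E) = be A B u ∧
      ga A B (s : E) = (2 : ZMod p)⁻¹ • (be A B u * al A B u) ∧ ∃ X ∈ opSpace h.minA.1, u = unip X * s := by
  set X := ga A B u - (2 : ZMod p)⁻¹ • (be A B u * al A B u) with hXdef
  have hX := gaN_mem hq h hu.1
  rw [← hXdef] at hX
  have hp3 : 3 ≤ p := by have := hq.five; omega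
  have hXi : unip X ∈ flagIn G A :=
    ⟨unip_mem_flagGp hp3 h.minA hX, hq.opGroup_le_compGp h.minA .refl (unip_mem_opGroup hX)⟩
  refine ⟨(unip X)⁻¹ * u, mul_mem (inv_mem hXi) hu, ?_, ?_, ?_, X, hX, by rw [mul_inv_cancel_left]⟩
  all_goals obtain ⟨m1, m2⟩ := mem_opA_blocks h hX
  all_goals obtain ⟨e1, e2, e3⟩ := blocks_mul h (inv_mem hXi.1) hu.1
  · rw [e1, unip_inv_val hX.1.1, add_eq_right]
    rw [← m1]; simp only [al]; frame_simp h
  · rw [e2, unip_inv_val hX.1.1, add_eq_right]
    rw [← m2]; simp only [be]; frame_simp h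
  · have v : be A B (1 - X) = 0 := by rw [← m2]; simp only [be]; frame_simp h
    have w : ga A B (1 - X) = -X := by
      rw [show ga A B (1 - X) = -(A * B * X * (B * A)) by simp only [ga]; frame_simp h, m1, m2]
    rw [e3, unip_inv_val hX.1.1, v, w, zero_mul, add_zero, hXdef]
    abel

theorem omega_mem (hu : u ∈ flagGp G A) (hs : s ∈ flagGp G A) :
    be A B u * al A B s - be A B s * al A B u ∈ opSpace h.minA.1 := by
  have h1 := gaN_mem hq h (mul_mem hu hs)
  have := Submodule.smul_mem _ (2 : ZMod p) (sub_mem (sub_mem h1 (gaN_mem hq h hu)) (gaN_mem hq h hs))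
  convert this using 1
  obtain ⟨e1, e2, e3⟩ := blocks_mul h hu hs
  rw [e1, e2, e3]
  simp only [add_mul, mul_add, smul_add, smul_sub, smul_smul, mul_inv_cancel₀ hq.two_ne, one_smul, two_smul]
  abel

omit hq in
theorem kk_iff : x ∈ kk h ↔ x * A ∈ opSpace h.minA.1 ∧ x * A * B = x := by
  constructor
  · intro hx
    obtain ⟨X, hX, rfl⟩ := Submodule.mem_map.1 hx
    rw [mulRight_apply, mul_assoc X B A, (mem_opA_blocks h hX).2]
    exact ⟨hX, rfl⟩
  · rintro ⟨h1, h2⟩
    exact Submodule.mem_map.2 ⟨_, h1, h2⟩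

omit hq in
theorem mul_B_mem_kk (hX : X ∈ opSpace h.minA.1) : X * B ∈ kk h := Submodule.mem_map_of_mem hX

omit hq in
theorem eP_mem_kk : A * B ∈ kk h := mul_B_mem_kk h (self_mem_opSpace _)

omit hq in
theorem kk_fix (hx : x ∈ kk h) : A * B * x = x ∧ x * (A * B) = x := by
  obtain ⟨X, hX, rfl⟩ := Submodule.mem_map.1 hx
  rw [mulRight_apply, ← mul_assoc, (mem_opA_blocks h hX).1, mul_assoc, BAB' h]
  exact ⟨rfl, rfl⟩

omit hq in
/-- A nonzero member of `kk` is injective on `range A`. -/
theorem kk_inj (hx : x ∈ kk h) (hx0 : x ≠ 0) {v : M} (hv : (A * B) v = v) : x v = 0 → v = 0 := by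
  intro h0
  obtain ⟨X, hX, rfl⟩ := Submodule.mem_map.1 hx
  have hX0 : X ≠ 0 := fun e => hx0 (by rw [e, map_zero])
  rw [mulRight_apply, Module.End.mul_apply] at h0
  have hk : B v ∈ ker A := by rw [← (geometry_of_mem h.minA hX hX0).2.1]; exact h0
  rw [← hv, Module.End.mul_apply]
  exact mem_ker.1 hk

theorem kk_sq (hx : x ∈ kk h) : x * x ∈ kk h := by
  obtain ⟨X, hX, rfl⟩ := Submodule.mem_map.1 hx
  rcases eq_or_ne X 0 with rfl | hX0
  · simp
  have hXm := (geometry_of_mem h.minA hX hX0).2.2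
  have hm : X * B * X ∈ opSpace h.minA.1 := by
    rw [← opSpace_eq h.minA hX hX0]
    exact triple_mem_opSpace hq hXm h.minB
  simpa only [mulRight_apply, mul_assoc] using mul_B_mem_kk h hm

theorem kk_polar (hx : x ∈ kk h) (hy : y ∈ kk h) : x * y + y * x ∈ kk h := by
  have := sub_mem (sub_mem (kk_sq hq h (add_mem hx hy)) (kk_sq hq h hx)) (kk_sq hq h hy)
  convert this using 1
  simp only [add_mul, mul_add]
  abel

omit hq in
theorem lam_comm (hl : l ∈ lam G A B) :
    (l : E) * (A * B) = A * B * l ∧ (l : E) * (B * A) = B * A * l ∧ (l : E) * eZ A B = eZ A B * l := by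
  obtain ⟨⟨⟨-, a1, a2⟩, -, b1, b2⟩, -⟩ := hl
  have key : ∀ {P Q : E}, IsFrame G P Q → (range P).map (l : E) = range P → (ker Q).map (l : E) = ker Q →
      (l : E) * (P * Q) = P * Q * l := by
    intro P Q hPQ hP hQ
    refine LinearMap.ext fun v => ?_
    have e : (l : E) v = (l : E) (P (Q v)) + (l : E) (v - P (Q v)) := by rw [← map_add, add_sub_cancel]
    have h1 : (l : E) (v - P (Q v)) ∈ ker Q := hQ ▸ Submodule.mem_map_of_mem (by
      rw [mem_ker, map_sub, ← Module.End.mul_apply Q P, ← Module.End.mul_apply (Q * P), hPQ.BAB, sub_self])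
    obtain ⟨w, hw⟩ : (l : E) (P (Q v)) ∈ range P := hP ▸ Submodule.mem_map_of_mem ⟨_, rfl⟩
    simp only [Module.End.mul_apply]
    conv_rhs => rw [e, map_add, mem_ker.1 h1, add_zero, ← hw]
    rw [show P (Q (P w)) = P w by rw [← Module.End.mul_apply, ← Module.End.mul_apply, hPQ.ABA], hw]
  have c1 := key h a1 b2
  have c2 := key h.symm b1 a2
  exact ⟨c1, c2, by simp only [eZ, mul_sub, sub_mul, mul_one, one_mul, c1, c2]⟩

omit hq in
theorem lam_conj_opA (hl : l ∈ lam G A B) (hX : X ∈ opSpace h.minA.1) : conjOp l X ∈ opSpace h.minA.1 := by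
  have hlG : l ∈ G := hl.1.1.1
  have := conjOp_mem_opSpace h.minA.1 hlG hX
  rwa [opSpace_eq h.minA ((mem_stabOp_iff h.minA).1 hl.1.1).2 (h.minA.conj hlG).2.1] at this

theorem kk_le_spanP : kk h ≤ spanP G A B := by
  intro x hx
  obtain ⟨X, hX, rfl⟩ := Submodule.mem_map.1 hx
  rcases eq_or_ne X 0 with rfl | hX0
  · simp
  have hXm := (geometry_of_mem h.minA hX hX0).2.2
  obtain ⟨Y, hY, hY0, hY2, hinv⟩ := exists_inverse hq.two_ne hq.card_ne hXm h.minB
    (not_nilpotent_of_inv h.minA h.minB h.inv hX hX0 (self_mem_opSpace _) h.minB.2.1)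
  have hf : IsFrame G X Y := ⟨hXm, hY2, hinv⟩
  have hAX : A ∈ opSpace hXm.1 := by rw [opSpace_eq h.minA hX hX0]; exact self_mem_opSpace _
  have hBY : B ∈ opSpace hY2.1 := by rw [opSpace_eq h.minB hY hY0]; exact self_mem_opSpace _
  have hw1 := hq.weyl_mem_compGp h .refl
  have hw2 : weyl X Y ∈ compGp G A := hq.weyl_mem_compGp hf (hq.conn_mem h.minA hX hX0)
  set l : GLM := weyl X Y * (weyl A B)⁻¹ with hldef
  have hlc : l ∈ compGp G A := mul_mem hw2 (inv_mem hw1)
  have hlG : l ∈ G := compGp_le h.minA hlc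
  have hwG := compGp_le h.minA hw2
  have hla : conjOp l A ∈ opSpace h.minA.1 := by
    rw [hldef, conjOp_comp, conjOp_weyl_inv h, map_neg]
    exact neg_mem (conj_mem_space hY2 h.minA hBY hwG (by rw [conjOp_weyl_right hf]; exact neg_mem hX))
  have hlb : conjOp l B ∈ opSpace h.minB.1 := by
    rw [hldef, conjOp_comp, conjOp_weyl_inv_right h, map_neg]
    exact neg_mem (conj_mem_space hXm h.minB hAX hwG (by rw [conjOp_weyl hf.inv hf.AA hf.BB]; exact neg_mem hY))
  refine Submodule.subset_span ⟨l, ⟨⟨(mem_stabOp_iff h.minA).2 ⟨hlG, hla⟩, (mem_stabOp_iff h.minB).2 ⟨hlG, hlb⟩⟩,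
    hlc⟩, ?_⟩
  obtain ⟨x1, x2⟩ := mem_opA_blocks h hX
  obtain ⟨y1, y2⟩ := mem_opA_blocks h.symm hY
  have q3 : Y * B = 0 := mul_eq_zero_of_mem h.minB.1 hY (self_mem_opSpace _)
  have q2 : A * B * Y = 0 := by rw [← y1]; frame_simp h
  have e : ((weyl A B)⁻¹ : GLM).val * (A * B) = B := by
    rw [weyl_inv_val h]; frame_simp h
  rw [hldef, Units.val_mul, mulRight_apply, mul_assoc (A * B) _ (A * B), mul_assoc (weyl X Y : E), e,
    weyl_val hf.inv hf.AA hf.BB]
  have z : (X * Y + Y * X) * B = Y * (X * B) := by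
    rw [add_mul, mul_assoc, q3, mul_zero, zero_add, mul_assoc]
  rw [sub_mul, add_mul, sub_mul, one_mul, z, q3, sub_zero, mul_add, mul_sub, ← mul_assoc (A * B) Y, q2, zero_mul,
    sub_zero, mul_assoc A B B, h.BB, mul_zero, zero_add, ← mul_assoc (A * B), x1]

/-- One value: the blocks of a frame stabiliser element attached to `u` and `a`. -/
theorem exists_lam_step (hu : u ∈ flagIn G A) (hγ : ga A B (u : E) = (2 : ZMod p)⁻¹ • (be A B u * al A B u))
    {a t : E} (ha : a ∈ kk h) (hac : a * (ga A B u * B) = ga A B u * B * a)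
    (ht : (ga A B u * B * (ga A B u * B) - a * a) * t = A * B) :
    ∃ l ∈ lam G A B, A * B * (l : E) * (A * B) = -(ga A B u * B + a) ∧
      eZ A B * (l : E) * eZ A B = eZ A B - al A B u * B * (ga A B u * B - a) * t * be A B u := by
  have hp3 : 3 ≤ p := by have := hq.five; omega
  obtain ⟨hX, hXB⟩ := (kk_iff h).1 ha
  obtain ⟨X1, X2⟩ := mem_opA_blocks h hX
  set w : GLM := unip (a * A) * u with hw
  have hXi : unip (a * A) ∈ flagIn G A :=
    ⟨unip_mem_flagGp hp3 h.minA hX, hq.opGroup_le_compGp h.minA .refl (unip_mem_opGroup hX)⟩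
  have hwi : w ∈ flagIn G A := mul_mem hXi hu
  obtain ⟨e1, e2, e3⟩ := blocks_mul h hXi.1 hu.1
  have va : al A B (unip (a * A) : E) = 0 := by rw [unip_val hX.1.1, ← X1]; simp only [al]; frame_simp h
  have vb : be A B (unip (a * A) : E) = 0 := by rw [unip_val hX.1.1, ← X2]; simp only [be]; frame_simp h
  have vc : ga A B (unip (a * A) : E) = a * A := by
    rw [unip_val hX.1.1, show ga A B (1 + a * A) = A * B * (a * A) * (B * A) by simp only [ga]; frame_simp h, X1, X2]
  rw [va, zero_add] at e1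
  rw [vb, zero_add] at e2
  rw [vc, vb, zero_mul, add_zero] at e3
  rw [← hw] at e1 e2 e3
  set q : E := ga A B u with hqdef
  have hD : B * conjOp w B * B = B * ((a * A + q) * B * (be A B u * al A B u - (a * A + q)) * B) := by
    rw [conjB_sandwich hq h hwi.1, e1, e2, e3]; simp only [mul_assoc]
  have htwo : be A B u * al A B u = q + q := by
    rw [hγ, ← add_smul, show (2 : ZMod p)⁻¹ + 2⁻¹ = 1 by rw [← two_mul]; exact mul_inv_cancel₀ hq.two_ne, one_smul]
  have hprod : A * (B * conjOp w B * B) = q * B * (q * B) - a * a := by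
    rw [hD, htwo, show q + q - (a * A + q) = q - a * A by abel, ← mul_assoc A B,
      show (a * A + q) * B * (q - a * A) * B = (a * A * B + q * B) * (q * B - a * A * B) by
        simp only [add_mul, mul_assoc, sub_mul], hXB, ← mul_assoc, mul_add, (kk_fix h ha).1,
      show A * B * (q * B) = q * B by rw [← mul_assoc, eP_ga h], mul_sub, add_mul, add_mul, hac]
    abel
  have hne : B * conjOp w B * B ≠ 0 := by
    intro e0
    rw [e0, mul_zero] at hprod
    rw [← hprod, zero_mul] at ht
    exact h.minA.2.1 (by rw [← h.ABA, ← ht, zero_mul])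
  have hDm : IsMinOp G (conjOp w B) := h.minB.conj hwi.1.1
  have hpart : Partner G B (conjOp w B) :=
    ⟨h.minB, hDm, by rw [pairSum_comm]; exact (hq.sandwich hDm h.minB).2 hne⟩
  obtain ⟨D', hD', hD'0, hf⟩ := hq.exists_frame hpart
  have hAB : Conn G A B := h.partner.conn
  obtain ⟨v, hv, hvK, hvA⟩ := exists_flag_conj hq.five h.symm hf
    (hq.opGroup_le_compGp h.minA hAB) (hq.opGroup_le_compGp h.minA .refl)
    (hq.opGroup_le_compGp h.minA (hAB.trans' hf.partner.conn))
  have hweyl : weyl A B ∈ compGp G A := hq.weyl_mem_compGp h .refl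
  set g : GLM := v⁻¹ * w * weyl A B with hgdef
  have hgc : g ∈ compGp G A := mul_mem (mul_mem (inv_mem hvK) hwi.2) hweyl
  have hgG : g ∈ G := compGp_le h.minA hgc
  have hgA : g ∈ stabOp G A := by
    refine (mem_stabOp_iff h.minA).2 ⟨hgG, ?_⟩
    rw [hgdef, conjOp_comp, conjOp_weyl h.inv h.AA h.BB, map_neg, conjOp_comp]
    refine neg_mem ?_
    have h0 : conjOp w B ∈ opSpace hf.minB.1 := by
      rw [opSpace_eq hDm hD' hD'0]; exact self_mem_opSpace _
    have := conjOp_mem_opSpace hf.minB.1 (inv_mem hv.1) h0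
    convert this using 2
    rw [← hvA, ← conjOp_comp, inv_mul_cancel]
    simp [conjOp_apply]
  have hgB : Partner G A (conjOp g B) := by
    refine ⟨h.minA, h.minB.conj hgG, fun hc => ?_⟩
    have h1 := (h.conj hgG).partner.2.2
    refine h1 (nilpotent_of_mem hq.two_ne hq.card_ne h.minA (h.minB.conj hgG) hc
      ((mem_stabOp_iff h.minA).1 hgA).2 (self_mem_opSpace _))
  obtain ⟨C, hC, hC0, hfC⟩ := hq.exists_frame hgB
  obtain ⟨v1, hv1, hv1K, hv1C⟩ := exists_flag_conj hq.five hfC h (hq.opGroup_le_compGp h.minA .refl)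
    (hq.opGroup_le_compGp h.minA hfC.partner.conn) (hq.opGroup_le_compGp h.minA hAB)
  set l : GLM := v1 * g with hldef
  have hlA : l ∈ stabOp G A := mul_mem (flagGp_le_stabOp h.minA hv1) hgA
  have hlB : l ∈ stabOp G B := by
    refine (mem_stabOp_iff h.minB).2 ⟨hlA.1, ?_⟩
    rw [hldef, conjOp_comp]
    have h0 : conjOp g B ∈ opSpace hfC.minB.1 := by
      rw [opSpace_eq (h.minB.conj hgG) hC hC0]; exact self_mem_opSpace _
    have := conjOp_mem_opSpace hfC.minB.1 hv1.1 h0
    convert this using 2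
    exact hv1C.symm
  have hll : l ∈ lam G A B := ⟨⟨hlA, hlB⟩, mul_mem hv1K hgc⟩
  -- blocks
  obtain ⟨hgG', g1, g2⟩ := hgA
  have gA : (g : E) * A = A * B * ((g : E) * A) := by
    refine LinearMap.ext fun x => ?_
    obtain ⟨y, hy⟩ : (g : E) (A x) ∈ range A := g1 ▸ Submodule.mem_map_of_mem ⟨x, rfl⟩
    simp only [Module.End.mul_apply]
    rw [← hy, ← Module.End.mul_apply B A y, ← Module.End.mul_apply A, ← mul_assoc, h.ABA]
  have gZ : A * ((g : E) * eZ A B) = 0 := by
    refine LinearMap.ext fun x => ?_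
    have hk : eZ A B x ∈ ker A := by rw [mem_ker, ← Module.End.mul_apply, A_eZ h, LinearMap.zero_apply]
    have := mem_ker.1 (g2.le (Submodule.mem_map_of_mem (f := (g : E)) hk))
    simpa [Module.End.mul_apply] using this
  have hwv : (weyl A B : E) = eZ A B + A - B := by
    rw [weyl_val h.inv h.AA h.BB]; simp only [eZ]; abel
  set ν : GLM := v⁻¹ with hν
  have hνf : ν ∈ flagGp G B := inv_mem hv
  set α' : E := al B A (ν : E) with hα'
  have n1 : A * B * (ν : E) = A * B := by
    rw [mul_assoc, (flag_mul_A hνf).2]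
  have n2 : eZ A B * (ν : E) = eZ A B + α' := by
    have := eZ_flag h.symm hνf
    rwa [eZ_symm A B] at this
  have hgv : (g : E) * (A * B) = -((ν : E) * ((w : E) * B)) := by
    rw [hgdef, Units.val_mul, Units.val_mul, hwv]
    frame_simp h
  have hgz : (g : E) * eZ A B = (ν : E) * ((w : E) * eZ A B) := by
    rw [hgdef, Units.val_mul, Units.val_mul, hwv]
    frame_simp h
  have hwB : A * B * ((w : E) * B) = q * B + a := by
    rw [← mul_assoc, eP_flag h hwi.1, e2, e3, add_mul, add_mul, h.minA.1.1 |> fun _ => mul_assoc A B B, h.BB,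
      mul_zero, zero_add, show be A B u * B = 0 by simp only [be]; frame_simp h, zero_add, add_mul, hXB, add_comm]
  have blockP : A * B * (g : E) * (A * B) = -(q * B + a) := by
    rw [mul_assoc, hgv, mul_neg, ← mul_assoc, n1, hwB]
  have hα'P : α' * (A * B) = α' := by rw [hα']; exact al_eM h.symm _
  have blockC : al A B u * B + α' * (q * B + a) = 0 := by
    have h0 : eZ A B * ((g : E) * (A * B)) = 0 := by
      rw [← mul_assoc (g : E), gA]; frame_simp h
    rw [hgv, mul_neg, neg_eq_zero, ← mul_assoc, n2, add_mul, ← mul_assoc, eZ_flag h hwi.1, e1, add_mul, eZ_B h,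
      zero_add] at h0
    rw [← hwB, ← mul_assoc α', hα'P]
    exact h0
  have hsol : α' = -(al A B u * B * (q * B - a) * t) := by
    have e : (q * B + a) * (q * B - a) = q * B * (q * B) - a * a := by
      simp only [add_mul, mul_sub, hac]; abel
    calc α' = α' * ((q * B + a) * (q * B - a) * t) := by rw [e, ht, hα'P]
      _ = α' * (q * B + a) * (q * B - a) * t := by simp only [mul_assoc]
      _ = -(al A B u * B * (q * B - a) * t) := by
        rw [eq_neg_of_add_eq_zero_right blockC]; simp only [neg_mul]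
  refine ⟨l, hll, ?_, ?_⟩
  · rw [hldef, Units.val_mul, show A * B * ((v1 : E) * (g : E)) * (A * B) =
      A * B * (v1 : E) * ((g : E) * A * B) by simp only [mul_assoc], gA]
    conv_lhs => rw [eP_flag h hv1]
    rw [← blockP]
    simp only [be, ga]
    frame_simp h
  · rw [hldef, Units.val_mul, ← mul_assoc, eZ_flag h hv1, add_mul, add_mul]
    have z0 : al A B (v1 : E) * (g : E) * eZ A B = 0 := by
      simp only [al, mul_assoc, gZ, mul_zero]
    rw [z0, add_zero, mul_assoc, hgz, ← mul_assoc, n2, add_mul, ← mul_assoc (eZ A B), eZ_flag h hwi.1, add_mul,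
      eZ_idem h, show al A B (w : E) * eZ A B = 0 by simp only [al]; frame_simp h, add_zero, hsol]
    have z1 : α' * ((w : E) * eZ A B) = α' * be A B u := by
      conv_lhs => rw [← hα'P, mul_assoc, ← mul_assoc (A * B), eP_flag h hwi.1, e2, e3]
      congr 1
      simp only [hqdef, be, ga, add_mul]
      rw [← X2]; frame_simp h
    rw [hsol] at z1
    rw [z1, neg_mul, ← sub_eq_add_neg]

/-- The span contains `β α B` and `α B β`. -/
theorem kLemma_diag (hu : u ∈ flagIn G A) :
    be A B u * al A B u * B ∈ spanP G A B ∧ al A B u * B * be A B u ∈ spanZ G A B := by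
  classical
  obtain ⟨s0, hs0, ea, eb, eg, -⟩ := exists_normal hq h hu
  rw [← ea, ← eb] at eg ⊢
  clear ea eb hu
  set Q : E := ga A B s0 * B with hQdef
  set S : E := Q * Q with hSdef
  have hQP : A * B * Q = Q ∧ Q * (A * B) = Q := by
    rw [hQdef]; constructor <;> simp only [ga] <;> frame_simp h
  have hSk : S ∈ kk h := by
    have h0 := triple_mem_opSpace hq h.minB (h.minB.conj (g := s0) hs0.1.1)
    rw [conjB_sandwich hq h hs0.1] at h0
    have htwo : be A B s0 * al A B s0 - ga A B s0 = ga A B s0 := by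
      rw [sub_eq_iff_eq_add, eg, ← add_smul, show (2 : ZMod p)⁻¹ + 2⁻¹ = 1 by
        rw [← two_mul]; exact mul_inv_cancel₀ hq.two_ne, one_smul]
    rw [htwo] at h0
    have h1 := mul_B_mem_kk h (aba_mem hq h h0)
    convert h1 using 1
    rw [hSdef, hQdef]
    simp only [ga]; frame_simp h
  let φ : Polynomial (ZMod p) →ₗ[ZMod p] E := (mulRight (ZMod p) (A * B)).comp (Polynomial.aeval S).toLinearMap
  have φv : ∀ f, φ f = Polynomial.aeval S f * (A * B) := fun f => rfl
  have cS : ∀ {z : E}, z * S = S * z → ∀ f : Polynomial (ZMod p), z * Polynomial.aeval S f = Polynomial.aeval S f * z := by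
    intro z hz f
    induction f using Polynomial.induction_on with
    | C c => simp only [Polynomial.aeval_C]; exact (Algebra.commutes c z).symm
    | add f g hf hg => rw [map_add, mul_add, add_mul, hf, hg]
    | monomial n c ih =>
      rw [pow_succ, ← mul_assoc, map_mul, Polynomial.aeval_X, ← mul_assoc, ih, mul_assoc, hz, ← mul_assoc]
  have hSP : A * B * S = S ∧ S * (A * B) = S := kk_fix h hSk
  have hPS : A * B * S = S * (A * B) := hSP.1.trans hSP.2.symm
  have φmul : ∀ f g, φ f * φ g = φ (f * g) := by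
    intro f g
    rw [φv, φv, φv, map_mul, mul_assoc, ← mul_assoc (A * B), cS hPS g, mul_assoc _ (A * B) (A * B),
      show A * B * (A * B) = A * B by frame_simp h, ← mul_assoc]
  have φkk : ∀ f, φ f ∈ kk h := by
    intro f
    induction f using Polynomial.induction_on with
    | C c =>
      rw [φv, Polynomial.aeval_C, ← Algebra.smul_def]
      exact Submodule.smul_mem _ c (eP_mem_kk h)
    | add f g hf hg => rw [map_add]; exact add_mem hf hg
    | monomial n c ih =>
      have := Submodule.smul_mem _ (2 : ZMod p)⁻¹ (kk_polar hq h ih hSk)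
      convert this using 1
      set f := Polynomial.C c * Polynomial.X ^ n
      rw [pow_succ, ← mul_assoc, φv, φv, map_mul, Polynomial.aeval_X]
      have e1 : Polynomial.aeval S f * (A * B) * S = Polynomial.aeval S f * S * (A * B) := by
        simp only [mul_assoc (Polynomial.aeval S f), hPS]
      have e2 : S * (Polynomial.aeval S f * (A * B)) = Polynomial.aeval S f * S * (A * B) := by
        rw [← mul_assoc, cS rfl f]
      rw [e1, e2, ← two_smul (ZMod p) (Polynomial.aeval S f * S * (A * B)), smul_smul,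
        inv_mul_cancel₀ hq.two_ne, one_smul]
  let F : Submodule (ZMod p) E := LinearMap.range φ
  have Fkk : ∀ {z}, z ∈ F → z ∈ kk h := by rintro _ ⟨f, rfl⟩; exact φkk f
  have Fmul : ∀ {y z}, y ∈ F → z ∈ F → y * z ∈ F := by
    rintro _ _ ⟨f, rfl⟩ ⟨g, rfl⟩; exact ⟨f * g, (φmul f g).symm⟩
  have Fcomm : ∀ {y z}, y ∈ F → z ∈ F → y * z = z * y := by
    rintro _ _ ⟨f, rfl⟩ ⟨g, rfl⟩; rw [φmul, φmul, mul_comm]
  have Fone : A * B ∈ F := ⟨1, by rw [φv, map_one, one_mul]⟩
  have FS : S ∈ F := ⟨Polynomial.X, by rw [φv, Polynomial.aeval_X, hSP.2]⟩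
  have FQ : ∀ {z}, z ∈ F → z * Q = Q * z := by
    rintro _ ⟨f, rfl⟩
    rw [φv, mul_assoc, hQP.1, ← mul_assoc Q, cS (mul_assoc Q Q Q).symm f, mul_assoc, hQP.2]
  have Fcancel : ∀ {y z}, y ∈ F → z ∈ F → y ≠ 0 → y * z = 0 → z = 0 := by
    intro y z hy hz hy0 e
    refine LinearMap.ext fun v => kk_inj h (Fkk hy) hy0 ?_ (LinearMap.congr_fun e v)
    rw [← Module.End.mul_apply, (kk_fix h (Fkk hz)).1]
  haveI : Finite M := Module.finite_of_finite (ZMod p)
  haveI : Finite E := Finite.of_injective (fun g : E => (g : M → M)) DFunLike.coe_injective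
  have Finv : ∀ {y}, y ∈ F → y ≠ 0 → ∃ z ∈ F, y * z = A * B := by
    intro y hy hy0
    have hinj : Function.Injective (fun z : F => (⟨y * (z : E), Fmul hy z.2⟩ : F)) := by
      intro z z' e
      refine Subtype.ext (sub_eq_zero.1 (Fcancel hy (sub_mem z.2 z'.2) hy0 ?_))
      rw [mul_sub, sub_eq_zero]
      exact congrArg Subtype.val e
    obtain ⟨z, hz⟩ := (Finite.injective_iff_surjective.1 hinj) ⟨A * B, Fone⟩
    exact ⟨z, z.2, congrArg Subtype.val hz⟩
  have step : ∀ a ∈ F, a * a ≠ S → ∃ t ∈ F, (S - a * a) * t = A * B ∧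
      Q + a ∈ spanP G A B ∧ Q - a ∈ spanP G A B ∧ al A B s0 * B * (a * t) * be A B s0 ∈ spanZ G A B := by
    intro a ha hne
    obtain ⟨t, htF, ht⟩ := Finv (sub_mem FS (Fmul ha ha)) (sub_ne_zero.2 (Ne.symm hne))
    have hna : -a ∈ F := neg_mem ha
    obtain ⟨l1, hl1, p1, z1⟩ := exists_lam_step hq h hs0 eg (Fkk ha) (FQ ha) ht
    obtain ⟨l2, hl2, p2, z2⟩ := exists_lam_step hq h hs0 eg (Fkk hna) (FQ hna)
      (show (S - -a * -a) * t = A * B by rw [neg_mul_neg]; exact ht)
    rw [← hQdef] at p1 p2 z1 z2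
    refine ⟨t, htF, ht, ?_, ?_, ?_⟩
    · rw [← neg_neg (Q + a), ← p1]; exact neg_mem (Submodule.subset_span ⟨l1, hl1, rfl⟩)
    · rw [← neg_neg (Q - a), sub_eq_add_neg Q a, ← p2]; exact neg_mem (Submodule.subset_span ⟨l2, hl2, rfl⟩)
    · have d : eZ A B * (l1 : E) * eZ A B - eZ A B * (l2 : E) * eZ A B ∈ spanZ G A B :=
        sub_mem (Submodule.subset_span ⟨l1, hl1, rfl⟩) (Submodule.subset_span ⟨l2, hl2, rfl⟩)
      have d' := Submodule.smul_mem _ (2 : ZMod p)⁻¹ d
      convert d' using 1
      rw [z1, z2]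
      have e : al A B s0 * B * (a * t) * be A B s0 + al A B s0 * B * (a * t) * be A B s0 =
          eZ A B - al A B s0 * B * (Q - a) * t * be A B s0 -
            (eZ A B - al A B s0 * B * (Q - -a) * t * be A B s0) := by
        simp only [mul_sub, sub_mul, mul_neg, neg_mul, mul_assoc]; abel
      rw [← e, ← two_smul (ZMod p) (al A B s0 * B * (a * t) * be A B s0), smul_smul,
        inv_mul_cancel₀ hq.two_ne, one_smul]
  haveI : Fintype F := Fintype.ofFinite F
  have hAB0 : A * B ≠ 0 := fun e => h.minA.2.1 (by rw [← h.ABA, e, zero_mul])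
  have hcardF : 5 ≤ Nat.card F := by
    refine hq.five.trans ?_
    have hinj : Function.Injective (fun c : ZMod p => (⟨c • (A * B), F.smul_mem c Fone⟩ : F)) := fun c c' e =>
      smul_left_injective (ZMod p) hAB0 (congrArg Subtype.val e)
    simpa using Nat.card_le_card_of_injective _ hinj
  let T : Finset F := Finset.univ.filter fun a : F => (a : E) * (a : E) ≠ S
  have hT : Fintype.card F ≤ T.card + 2 := by
    have hsplit : T.card + (Finset.univ.filter fun a : F => (a : E) * (a : E) = S).card = Fintype.card F := by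
      rw [add_comm, ← Finset.card_univ]; exact Finset.card_filter_add_card_filter_not _
    suffices (Finset.univ.filter fun a : F => (a : E) * (a : E) = S).card ≤ 2 by omega
    rcases (Finset.univ.filter fun a : F => (a : E) * (a : E) = S).eq_empty_or_nonempty with e | ⟨b, hb⟩
    · rw [e]; simp
    refine (Finset.card_le_card (t := {b, -b}) fun a ha => ?_).trans Finset.card_le_two
    simp only [Finset.mem_filter, Finset.mem_univ, true_and] at ha hb
    simp only [Finset.mem_insert, Finset.mem_singleton]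
    by_contra hne
    push Not at hne
    have e0 : ((a : E) - b) * ((a : E) + b) = 0 := by
      simp only [sub_mul, mul_add, ha, hb, Fcomm b.2 a.2]; abel
    refine hne.2 (Subtype.ext (eq_neg_of_add_eq_zero_left (Fcancel (sub_mem a.2 b.2) (add_mem a.2 b.2) ?_ e0)))
    exact sub_ne_zero.2 fun e => hne.1 (Subtype.ext e)
  have hTne : T.Nonempty := by
    rw [← Finset.card_pos]
    rw [Nat.card_eq_fintype_card] at hcardF
    omega
  obtain ⟨a0, ha0⟩ := hTne
  have hQ : Q ∈ spanP G A B := by
    obtain ⟨t, -, -, m1, m2, -⟩ := step a0 a0.2 (Finset.mem_filter.1 ha0).2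
    have := Submodule.smul_mem _ (2 : ZMod p)⁻¹ (add_mem m1 m2)
    rwa [show Q + (a0 : E) + (Q - a0) = (2 : ZMod p) • Q by rw [two_smul]; abel, smul_smul,
      inv_mul_cancel₀ hq.two_ne, one_smul] at this
  refine ⟨?_, ?_⟩
  · have := Submodule.smul_mem _ (2 : ZMod p) hQ
    rw [hQdef, eg] at this
    rwa [smul_mul_assoc, smul_smul, mul_inv_cancel₀ hq.two_ne, one_smul] at this
  choose tt htt using fun a : {a : F // (a : E) * (a : E) ≠ S} => step a.1 a.1.2 a.2
  let f : F → F := fun a => if hc : (a : E) * (a : E) ≠ S then ⟨(a : E) * tt ⟨a, hc⟩, Fmul a.2 (htt _).1⟩ else 0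
  let V : Submodule (ZMod p) E := Submodule.span (ZMod p) ((fun a : F => (f a : E)) '' (T : Set F))
  have hVZ : ∀ z ∈ V, al A B s0 * B * z * be A B s0 ∈ spanZ G A B := by
    intro z hz
    induction hz using Submodule.span_induction with
    | mem z hz =>
      obtain ⟨a, ha, rfl⟩ := hz
      have hc := (Finset.mem_filter.1 (Finset.mem_coe.1 ha)).2
      simp only [f, dif_pos hc]
      exact (htt ⟨a, hc⟩).2.2.2.2
    | zero => simp
    | add y z _ _ hy hz => rw [mul_add, add_mul]; exact add_mem hy hz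
    | smul c z _ hz => rw [mul_smul_comm, smul_mul_assoc]; exact Submodule.smul_mem _ c hz
  suffices A * B ∈ V by
    have h0 := hVZ _ this
    rwa [mul_assoc (al A B s0 * B), eP_be h] at h0
  by_contra hnot
  have hVF : V ≤ F := Submodule.span_le.2 (by rintro _ ⟨a, -, rfl⟩; exact (f a).2)
  let W : Submodule (ZMod p) F := V.comap F.subtype
  have hWne : W ≠ ⊤ := fun e => hnot (Submodule.mem_comap.1 (e ▸ Submodule.mem_top : (⟨A * B, Fone⟩ : F) ∈ W))
  have hWcard : Nat.card W * p ≤ Nat.card F := by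
    have h1 : Module.finrank (ZMod p) W < Module.finrank (ZMod p) F := Submodule.finrank_lt hWne
    rw [Module.natCard_eq_pow_finrank (K := ZMod p) (V := W), Module.natCard_eq_pow_finrank (K := ZMod p) (V := F),
      Nat.card_zmod, ← pow_succ]
    exact Nat.pow_le_pow_right (Fact.out : p.Prime).pos h1
  have himg : T.card ≤ 2 * (T.image f).card := by
    refine Finset.card_le_mul_card_image T 2 fun y _ => ?_
    rcases (T.filter fun a => f a = y).eq_empty_or_nonempty with e | ⟨a, ha⟩
    · rw [e]; simp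
    obtain ⟨haT, hay⟩ := Finset.mem_filter.1 ha
    have hca := (Finset.mem_filter.1 haT).2
    have key : ∀ b ∈ T.filter (fun a => f a = y), b = a ∨ (a : E) * b = -S := by
      intro b hb
      obtain ⟨hbT, hby⟩ := Finset.mem_filter.1 hb
      have hcb := (Finset.mem_filter.1 hbT).2
      obtain ⟨sa, ea1, -⟩ := htt ⟨a, hca⟩
      obtain ⟨sb, eb1, -⟩ := htt ⟨b, hcb⟩
      set x1 := tt ⟨a, hca⟩
      set x2 := tt ⟨b, hcb⟩
      have e : (a : E) * x1 = (b : E) * x2 := by
        have := congrArg Subtype.val (hay.trans hby.symm)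
        simpa only [f, dif_pos hca, dif_pos hcb] using this
      have e2 : (a : E) * (S - (b : E) * b) = (b : E) * (S - (a : E) * a) := by
        have k1 : (S - (a : E) * a) * ((S - (b : E) * b) * ((a : E) * x1)) = (a : E) * (S - (b : E) * b) := by
          rw [Fcomm a.2 sa, ← mul_assoc (S - (b : E) * b), Fcomm (sub_mem FS (Fmul b.2 b.2)) sa, ← mul_assoc,
            ← mul_assoc, ea1, mul_assoc, Fcomm (sub_mem FS (Fmul b.2 b.2)) a.2,
            ← mul_assoc, (kk_fix h (Fkk a.2)).1]
        have k2 : (S - (a : E) * a) * ((S - (b : E) * b) * ((b : E) * x2)) = (b : E) * (S - (a : E) * a) := by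
          rw [Fcomm b.2 sb, ← mul_assoc (S - (b : E) * b), eb1, (kk_fix h (Fkk b.2)).1,
            Fcomm (sub_mem FS (Fmul a.2 a.2)) b.2]
        rw [← k1, ← k2, e]
      by_cases hab : b = a
      · exact Or.inl hab
      refine Or.inr (eq_neg_of_add_eq_zero_left (Fcancel (sub_mem a.2 b.2) (add_mem (Fmul a.2 b.2) FS)
        (sub_ne_zero.2 fun e => hab (Subtype.ext e.symm)) ?_))
      have hba := Fcomm b.2 a.2
      have t1 : (a : E) * ((a : E) * b) = (b : E) * ((a : E) * a) := by
        rw [← hba, ← mul_assoc, ← hba, mul_assoc]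
      have t2 : (b : E) * ((a : E) * b) = (a : E) * ((b : E) * b) := by
        rw [← mul_assoc, hba, mul_assoc]
      calc ((a : E) - b) * ((a : E) * b + S) =
            (a : E) * (S - (b : E) * b) - (b : E) * (S - (a : E) * a) := by
            simp only [sub_mul, mul_add, mul_sub, t1, t2]; abel
        _ = 0 := by rw [e2, sub_self]
    by_cases ha0 : (a : E) = 0
    · refine (Finset.card_le_card (t := {a}) fun b hb => ?_).trans (by simp)
      rw [Finset.mem_singleton]
      refine (key b hb).resolve_right fun e => hca ?_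
      rw [ha0, zero_mul] at e ⊢
      exact (neg_eq_zero.1 e.symm).symm
    · by_cases hex : ∃ c ∈ T.filter (fun a => f a = y), c ≠ a
      · obtain ⟨c, hc, hca'⟩ := hex
        refine (Finset.card_le_card (t := {a, c}) fun b hb => ?_).trans Finset.card_le_two
        simp only [Finset.mem_insert, Finset.mem_singleton]
        rcases key b hb with e | e
        · exact Or.inl e
        · refine Or.inr (Subtype.ext (sub_eq_zero.1 (Fcancel a.2 (sub_mem b.2 c.2) ha0 ?_)))
          rw [mul_sub, e, (key c hc).resolve_left hca', sub_self]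
      · push Not at hex
        refine (Finset.card_le_card (t := {a}) fun b hb => ?_).trans (by simp)
        rw [Finset.mem_singleton]
        exact hex b hb
  have himgW : (T.image f).card ≤ Nat.card W := by
    haveI : Fintype W := Fintype.ofFinite W
    rw [Nat.card_eq_fintype_card, ← Fintype.card_coe]
    refine Fintype.card_le_of_injective (fun z => (⟨z.1, ?_⟩ : W)) fun z z' e => Subtype.ext (congrArg (fun w : W => (w : F)) e)
    obtain ⟨a, ha, e⟩ := Finset.mem_image.1 z.2
    exact Submodule.mem_comap.2 (Submodule.subset_span ⟨a, ha, congrArg Subtype.val e⟩)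
  rw [Nat.card_eq_fintype_card (α := F)] at hcardF hWcard
  have h5 : Nat.card W * 5 ≤ Fintype.card F := le_trans (Nat.mul_le_mul_left _ hq.five) hWcard
  omega

/-- Every `β_u α_s B` is in the span of the stabiliser blocks on `range A`. -/
theorem beal_mem_spanP (hu : u ∈ flagIn G A) (hs : s ∈ flagIn G A) :
    be A B u * al A B s * B ∈ spanP G A B := by
  obtain ⟨e1, e2, -⟩ := blocks_mul h hu.1 hs.1
  have h1 := sub_mem (sub_mem (kLemma_diag hq h (mul_mem hu hs)).1 (kLemma_diag hq h hu).1) (kLemma_diag hq h hs).1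
  have h2 := kk_le_spanP hq h (mul_B_mem_kk h (omega_mem hq h hu.1 hs.1))
  have := Submodule.smul_mem _ (2 : ZMod p)⁻¹ (add_mem h1 h2)
  convert this using 1
  rw [e1, e2, eq_inv_smul_iff₀ hq.two_ne, two_smul]
  simp only [add_mul, mul_add, sub_mul]
  abel

/-- Every symmetrised `α_u B β_s` is in the span of the middle stabiliser blocks. -/
theorem albe_mem_spanZ (hu : u ∈ flagIn G A) (hs : s ∈ flagIn G A) :
    al A B u * B * be A B s + al A B s * B * be A B u ∈ spanZ G A B := by
  obtain ⟨e1, e2, -⟩ := blocks_mul h hu.1 hs.1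
  have h1 := sub_mem (sub_mem (kLemma_diag hq h (mul_mem hu hs)).2 (kLemma_diag hq h hu).2) (kLemma_diag hq h hs).2
  convert h1 using 1
  rw [e1, e2]
  simp only [add_mul, mul_add]
  abel

end Frame

end CfsgLib.Flavell
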