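import Cfsg.Agent.Lib.Flavell.QuadFrames
import Cfsg.Agent.Lib.Flavell.KeyStatement
import Cfsg.Agent.Lib.OpFitCoprime.Fit

/-!
A quadratic element of an `R C_G(R)`-invariant `p`-subgroup lies in the largest normal `p`-subgroup: the
reduction to a semisimple quadratically generated group, the stabiliser of a fixed frame system, and the
vanishing of its normal `p`-subgroups.
-/

set_option autoImplicit false

namespace CfsgLib.Flavell

open CfsgLib.QuadPair LinearMap CfsgLib.OpFitCoprime
open scoped Pointwise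

universe u

variable {p : ℕ} [Fact p.Prime] {M : Type u} [AddCommGroup M] [Module (ZMod p) M]

local notation "GLM" => LinearMap.GeneralLinearGroup (ZMod p) M
local notation "E" => Module.End (ZMod p) M

variable {G R P N L Q : Subgroup (LinearMap.GeneralLinearGroup (ZMod p) M)}
  {A B X Y : Module.End (ZMod p) M} {g e : LinearMap.GeneralLinearGroup (ZMod p) M}

variable [FiniteDimensional (ZMod p) M]

theorem stab_idem (h : IsFrame G A B) (hA : g ∈ stabOp G A) (hB : g ∈ stabOp G B) :
    conjOp g (A * B) = A * B ∧ conjOp g (B * A) = B * A := by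
  have hf := h.conj hA.1
  have eA := ((mem_stabOp_iff h.minA).1 hA).2
  have eB := ((mem_stabOp_iff h.minB).1 hB).2
  constructor
  · rw [conjOp_mul]; exact frame_idem_eq h eA eB hf.inv hf.minA.2.1
  · rw [conjOp_mul]; exact frame_idem_eq h.symm eB eA hf.inv.symm hf.minB.2.1

theorem mem_range_fix (h : IsFrame G A B) {x : E} (hx : A * B * x = x)
    (hfix : ∀ v ∈ range A, (g : E) v = v) : (g : E) * x = x := by
  refine LinearMap.ext fun v => ?_
  rw [Module.End.mul_apply]
  refine hfix _ ⟨B (x v), ?_⟩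
  conv_rhs => rw [← hx]
  rfl

/-- The normal `p`-subgroups inside the stabiliser of a frame in its class fix the range. -/
theorem fix_range_of_pGroup (hs : QSys G) (h : IsFrame G A B) (hQ : IsPGroup p Q) (hle : Q ≤ lam G A B)
    (hn : ∀ l ∈ lam G A B, ∀ e ∈ Q, l * e * l⁻¹ ∈ Q) : ∀ e ∈ Q, ∀ v ∈ range A, (e : E) v = v := by
  have hq := hs.toQHyp
  let J : Submodule (ZMod p) M :=
    { carrier := {v | v ∈ range A ∧ ∀ e ∈ Q, (e : E) v = v}
      zero_mem' := ⟨zero_mem _, fun e _ => map_zero _⟩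
      add_mem' := fun {a b} ha hb => ⟨add_mem ha.1 hb.1, fun e he => by rw [map_add, ha.2 e he, hb.2 e he]⟩
      smul_mem' := fun c a ha => ⟨Submodule.smul_mem _ c ha.1, fun e he => by rw [map_smul, ha.2 e he]⟩ }
  have hst : ∀ l ∈ lam G A B, ∀ j ∈ J, (l : E) j ∈ J := by
    intro l hl j hj
    obtain ⟨hj1, hj2⟩ := hj
    refine ⟨hl.1.1.2.1 ▸ Submodule.mem_map_of_mem hj1, fun e he => ?_⟩
    have he' := hn _ (inv_mem hl) e he
    rw [inv_inv] at he'
    have := congrArg (fun v => (l : E) v) (hj2 _ he')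
    simpa only [Units.val_mul, Module.End.mul_apply, apply_inv_apply] using this
  obtain ⟨W1, hW1, hJW1, hAB, -⟩ := exists_generated hq h (J := J) (fun j hj => hj.1) hst
  have hall : ∀ v : M, (A * B) v ∈ J := by
    have : (⨆ W ∈ {W | IsSimpleInv (compGp G A) W}, W) ≤ J.comap (A * B : E) := by
      refine iSup₂_le fun W hW => ?_
      have hWop : ∀ Z, Conn G A Z → ∀ x ∈ W, Z x ∈ W := fun Z hZ x hx => by
        have := sub_mem (hW.2.1 _ (unip_mem_compGp hZ) x hx) hx
        rwa [unip_val (hZ.min h.minA).1.1, LinearMap.add_apply, Module.End.one_apply, add_sub_cancel_left] at this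
      by_cases hWI : W ⊓ range A = ⊥
      · intro x hx
        rw [Submodule.mem_comap, Module.End.mul_apply]
        have hz : A (B x) = 0 := (Submodule.mem_bot _).1 (by
          rw [← hWI]; exact ⟨hWop A .refl _ (hWop B h.partner.conn x hx), ⟨_, rfl⟩⟩)
        rw [hz]; exact zero_mem _
      · obtain ⟨j, hj, hj0, hjfix⟩ := exists_fixed_in hQ hWI fun e he v hv =>
          ⟨hW.2.1 e (hle he).2 v hv.1, (hle he).1.1.2.1 ▸ Submodule.mem_map_of_mem hv.2⟩
        have hjW1 : j ∈ W ⊓ W1 := ⟨hj.1, hJW1 ⟨hj.2, hjfix⟩⟩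
        have := (hW.2.2 (W ⊓ W1) (fun k hk v hv => ⟨hW.2.1 k hk v hv.1, hW1 k hk v hv.2⟩) inf_le_left).resolve_left
          fun e0 => hj0 ((Submodule.mem_bot _).1 (e0 ▸ hjW1))
        intro x hx
        rw [← this] at hx
        exact hAB x hx.2
    rw [hs.iSup_simple h.minA] at this
    exact fun v => this Submodule.mem_top
  rintro e he _ ⟨w, rfl⟩
  have := (hall (A w)).2 e he
  rwa [← Module.End.mul_apply (A * B) A, h.ABA] at this

omit [FiniteDimensional (ZMod p) M] in
theorem lam_symm (h : IsFrame G A B) [FiniteDimensional (ZMod p) M] : lam G B A = lam G A B := by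
  simp only [lam, compGp_eq_of_conn h.partner.conn, inf_comm (stabOp G B)]

section Core

variable (hs : QSys G)
include hs

/-- A normal `p`-subgroup of the stabiliser of a frame system is trivial. -/
theorem eq_bot_of_frameSys {T : Set (ConjSp p M × ConjSp p M)} (hT : IsFrameSys G T) (hLG : L ≤ G)
    (hLfix : ∀ g, g ∈ L ↔ g ∈ G ∧ ∀ q ∈ T, g • q.1 = q.1 ∧ g • q.2 = q.2)
    (hN : IsPGroup p N) (hNL : N ≤ L) (hNn : ∀ g ∈ L, ∀ x ∈ N, g * x * g⁻¹ ∈ N) : N = ⊥ := by
  have hq := hs.toQHyp
  have hp3 : 3 ≤ p := by have := hq.five; omega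
  have hlamL : ∀ {A B : E} (h : IsFrame G A B), pairPt h ∈ T → lam G A B ≤ L := by
    intro A B h hm l hl
    refine (hLfix l).2 ⟨hl.1.1.1, fun q hq' => ?_⟩
    obtain ⟨A', B', h', rfl⟩ := hT.frames q hq'
    by_cases hc : Conn G A A'
    · rw [← hT.inj _ _ _ _ h h' hm hq' hc]
      exact ⟨smul_of_mem_stabOp h.minA hl.1.1, smul_of_mem_stabOp h.minB hl.1.2⟩
    · have eA := hq.commute_compGp h.minA h'.minA hc hl.2
      have eB := hq.commute_compGp h.minA h'.minB (fun hc' => hc (hc'.trans' h'.partner.conn.symm)) hl.2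
      have hlG : l ∈ G := hl.1.1.1
      exact ⟨smul_of_mem_stabOp h'.minA ((mem_stabOp_iff h'.minA).2 ⟨hlG, by rw [eA]; exact self_mem_opSpace _⟩),
        smul_of_mem_stabOp h'.minB ((mem_stabOp_iff h'.minB).2 ⟨hlG, by rw [eB]; exact self_mem_opSpace _⟩)⟩
  have hstab : ∀ {A B : E} (h : IsFrame G A B), pairPt h ∈ T → ∀ g ∈ L, g ∈ stabOp G A ∧ g ∈ stabOp G B :=
    fun {A B} h hm g hg => ⟨mem_stabOp_of_smul h.minA (hLG hg) (((hLfix g).1 hg).2 _ hm).1,
      mem_stabOp_of_smul h.minB (hLG hg) (((hLfix g).1 hg).2 _ hm).2⟩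
  have hcent : ∀ {A B : E} (h : IsFrame G A B), pairPt h ∈ T →
      ∀ e ∈ N, ∀ g ∈ compGp G A, e * g = g * e := by
    intro A B h hm
    have hGn := fun g (hg : g ∈ G) => hs.compGp_normal h.minA hg
    set Q : Subgroup GLM := N ⊓ compGp G A
    have hQp : IsPGroup p Q := hN.to_le inf_le_left
    have hQlam : Q ≤ lam G A B := fun e he => ⟨hstab h hm e (hNL he.1), he.2⟩
    have hQn : ∀ l ∈ lam G A B, ∀ e ∈ Q, l * e * l⁻¹ ∈ Q := fun l hl e he =>
      ⟨hNn l (hlamL h hm hl) e he.1, hGn l hl.1.1.1 e he.2⟩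
    have hfI := fix_range_of_pGroup hs h hQp hQlam hQn
    have hfI' := fix_range_of_pGroup hs h.symm hQp (by rwa [lam_symm h]) (by rwa [lam_symm h])
    have hQid : ∀ e ∈ Q, (e : E) * (A * B) = A * B * e ∧ (e : E) * (B * A) = B * A * e := fun e he =>
      ⟨(lam_comm h (hQlam he)).1, (lam_comm h (hQlam he)).2.1⟩
    have hfA : ∀ e ∈ Q, ∀ Z ∈ opSpace h.minA.1, conjOp e Z = Z := by
      intro e he Z hZ
      obtain ⟨z1, z2⟩ := mem_opA_blocks h hZ
      rw [conjOp_eq_iff, mem_range_fix h z1 (hfI e he)]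
      have : B * A * (e : E) = B * A := by
        rw [← (hQid e he).2]
        exact mem_range_fix h.symm (by frame_simp h) (hfI' e he)
      conv_rhs => rw [← z2, mul_assoc, this, z2]
    have hfB : ∀ e ∈ Q, conjOp e B = B := by
      intro e he
      rw [conjOp_eq_iff, mem_range_fix h.symm h.BAB (hfI' e he)]
      have : A * B * (e : E) = A * B := by
        rw [← (hQid e he).1]
        exact mem_range_fix h (by frame_simp h) (hfI e he)
      conv_rhs => rw [← BAB' h, mul_assoc, this, BAB' h]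
    have hE1 : EndHyp G h Q :=
      { le := (inf_le_left.trans hNL).trans hLG
        pgroup := hQp
        fixB := hfB
        fixX := hfA
        fixT := by
          intro e he u hu s hs'
          rw [conjOp_eq_iff, mem_range_fix h (by simp only [be, al]; frame_simp h) (hfI e he)]
          have : A * B * (e : E) = A * B := by
            rw [← (hQid e he).1]
            exact mem_range_fix h (by frame_simp h) (hfI e he)
          calc be A B (u : E) * al A B (s : E) * B = be A B (u : E) * al A B (s : E) * (B * (A * B)) := by rw [BAB' h]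
            _ = be A B (u : E) * al A B (s : E) * (B * (A * B * e)) := by rw [this]
            _ = be A B (u : E) * al A B (s : E) * B * e := by
              rw [← mul_assoc B (A * B) (e : E), BAB' h, mul_assoc _ B (e : E)]
        norm := hQn }
    have hQbot : Q = ⊥ := by
      refine hs.eq_bot_of_normal (compGp_le h.minA) hGn hQp inf_le_right fun g hg x hx => ?_
      rw [← hE1.centralises hs hx hg, mul_inv_cancel_right]
      exact hx
    have hcomm : ∀ e ∈ N, ∀ l ∈ lam G A B, e * l = l * e := by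
      intro e he l hl
      have hm1 : l * e * l⁻¹ * e⁻¹ ∈ Q := by
        refine Subgroup.mem_inf.2 ⟨mul_mem (hNn l (hlamL h hm hl) e he) (inv_mem he), ?_⟩
        rw [show l * e * l⁻¹ * e⁻¹ = l * (e * l⁻¹ * e⁻¹) by group]
        exact mul_mem hl.2 (hGn e (hLG (hNL he)) _ (inv_mem hl.2))
      rw [hQbot, Subgroup.mem_bot, mul_inv_eq_one, mul_inv_eq_iff_eq_mul] at hm1
      exact hm1.symm
    have hspan : ∀ e ∈ N, ∀ x ∈ spanP G A B, conjOp e x = x := by
      intro e he x hx
      induction hx using Submodule.span_induction with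
      | mem x hx =>
        obtain ⟨l, hl, rfl⟩ := hx
        have hidem := (stab_idem h (hstab h hm e (hNL he)).1 (hstab h hm e (hNL he)).2).1
        rw [conjOp_mul, conjOp_mul, hidem]
        congr 2
        rw [conjOp_eq_iff, ← Units.val_mul, hcomm e he l hl, Units.val_mul]
      | zero => exact map_zero _
      | add y z _ _ hy hz => rw [map_add, hy, hz]
      | smul c y _ hy => rw [map_smul, hy]
    have hkk : ∀ e ∈ N, ∀ x ∈ kk h, conjOp e x = x := fun e he x hx => hspan e he x (kk_le_spanP hq h hx)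
    have hfixA : ∀ e ∈ N, conjOp e A = A := by
      intro e he
      obtain ⟨hA', hB'⟩ := hstab h hm e (hNL he)
      set c : E := conjOp e A with hc
      have hcm : c ∈ opSpace h.minA.1 := ((mem_stabOp_iff h.minA).1 hA').2
      have hck : c * B ∈ kk h := mul_B_mem_kk h hcm
      set ei : E := ((e⁻¹ : GLM) : E) with hei
      set y : E := A * (ei * B) with hy
      have hey : (e : E) * y = c * B := by rw [hy, hc, hei, conjOp_apply]; simp only [mul_assoc]
      have h1 : Commute (e : E) ((e : E) * y) := by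
        rw [hey]; exact conjOp_eq_iff.1 (hkk e he _ hck)
      have hey' : Commute (e : E) y := by
        have := congrArg (fun x => ei * x) (show (e : E) * ((e : E) * y) = (e : E) * y * e from h1)
        simp only [hei, ← mul_assoc, Units.inv_mul, one_mul] at this
        exact this
      have hid := (stab_idem h hA' hB').2
      have heiM : ei * (B * A) = B * A * ei := by
        have := congrArg (fun x => ei * x) (conjOp_eq_iff.1 hid)
        simp only [hei, ← mul_assoc, Units.inv_mul, one_mul] at this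
        conv_rhs => rw [this]
        simp only [hei, mul_assoc, Units.mul_inv, mul_one]
      have hpow : ∀ n : ℕ, y ^ (n + 1) = A * (ei ^ (n + 1) * B) := by
        intro n
        induction n with
        | zero => simp [hy]
        | succ n ih =>
          rw [pow_succ', ih, hy, pow_succ' ei (n + 1)]
          calc A * (ei * B) * (A * (ei ^ (n + 1) * B)) = A * (ei * (B * A)) * (ei ^ (n + 1) * B) := by
                simp only [mul_assoc]
            _ = A * (B * A) * (ei * (ei ^ (n + 1) * B)) := by rw [heiM]; simp only [mul_assoc]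
            _ = A * (ei * ei ^ (n + 1) * B) := by rw [ABA' h]; simp only [mul_assoc]
      obtain ⟨k, hk⟩ := hN ⟨e, he⟩
      have hk' : e ^ p ^ k = 1 := congrArg Subtype.val hk
      have hyk : y ^ p ^ k = A * B := by
        obtain ⟨n, hn⟩ : ∃ n, p ^ k = n + 1 :=
          ⟨p ^ k - 1, by have := Nat.one_le_pow k p (Fact.out : p.Prime).pos; omega⟩
        rw [hn, hpow, ← hn, hei, ← Units.val_pow_eq_pow_val, inv_pow, hk', inv_one, Units.val_one, one_mul]
      have hcq : (c * B) ^ p ^ k = A * B := by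
        rw [← hey, hey'.mul_pow, hyk, ← Units.val_pow_eq_pow_val, hk', Units.val_one, one_mul]
      have hAB0 : A * B ≠ 0 := fun e0 => h.minA.2.1 (by rw [← h.ABA, e0, zero_mul])
      haveI : Nontrivial E := ⟨⟨_, _, hAB0⟩⟩
      haveI : CharP E p := charP_of_injective_algebraMap (algebraMap (ZMod p) E).injective p
      have hdiff : c * B - A * B = 0 := by
        by_contra hne
        have hidem : A * B * (A * B) = A * B := by frame_simp h
        have hABpow : (A * B) ^ p ^ k = A * B := by
          obtain ⟨n, hn⟩ : ∃ n, p ^ k = n + 1 :=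
            ⟨p ^ k - 1, by have := Nat.one_le_pow k p (Fact.out : p.Prime).pos; omega⟩
          rw [hn, IsIdempotentElem.pow_succ_eq n hidem]
        have hz : (c * B - A * B) ^ p ^ k = 0 := by
          rw [sub_pow_char_pow_of_commute _ _ ((kk_fix h hck).2.trans (kk_fix h hck).1.symm), hcq, hABpow, sub_self]
        have hdk : c * B - A * B ∈ kk h := sub_mem hck (eP_mem_kk h)
        obtain ⟨w, hw⟩ : ∃ w, A w ≠ 0 := by
          by_contra hcon
          push Not at hcon
          exact h.minA.2.1 (LinearMap.ext hcon)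
        have hiter : ∀ n : ℕ, ((c * B - A * B) ^ n) (A w) ≠ 0 ∧
            (A * B) (((c * B - A * B) ^ n) (A w)) = ((c * B - A * B) ^ n) (A w) := by
          intro n
          induction n with
          | zero =>
            rw [pow_zero, Module.End.one_apply]
            exact ⟨hw, by rw [← Module.End.mul_apply, h.ABA]⟩
          | succ n ih =>
            rw [pow_succ', Module.End.mul_apply]
            refine ⟨fun e0 => ih.1 (kk_inj h hdk hne ih.2 e0), ?_⟩
            rw [← Module.End.mul_apply, (kk_fix h hdk).1]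
        exact (hiter (p ^ k)).1 (by rw [hz, LinearMap.zero_apply])
      have hcB := sub_eq_zero.1 hdiff
      calc c = c * (B * A) := (mem_opA_blocks h hcm).2.symm
        _ = A := by rw [← mul_assoc, hcB, h.ABA]
    have hfixB : ∀ e ∈ N, conjOp e B = B := by
      intro e he
      obtain ⟨hA', hB'⟩ := hstab h hm e (hNL he)
      have hY := ((mem_stabOp_iff h.minB).1 hB').2
      obtain ⟨y1, y2⟩ := mem_opA_blocks h.symm hY
      have : A * conjOp e B * A = A := by
        conv_lhs => rw [← hfixA e he]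
        rw [← conjOp_mul, ← conjOp_mul, h.ABA, hfixA e he]
      calc conjOp e B = B * A * conjOp e B * (A * B) := by rw [y1, y2]
        _ = B * (A * conjOp e B * A) * B := by simp only [mul_assoc]
        _ = B := by rw [this, h.BAB]
    have hE2 : EndHyp G h N :=
      { le := hNL.trans hLG
        pgroup := hN
        fixB := hfixB
        fixX := fun e he Z hZ => by
          calc conjOp e Z = conjOp e (Z * B * A) := by rw [mul_assoc, (mem_opA_blocks h hZ).2]
            _ = Z * B * A := by rw [conjOp_mul, hkk e he _ (mul_B_mem_kk h hZ), hfixA e he]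
            _ = Z := by rw [mul_assoc, (mem_opA_blocks h hZ).2]
        fixT := fun e he u hu s hs' => hspan e he _ (beal_mem_spanP hq h hu hs')
        norm := fun l hl => hNn l (hlamL h hm hl) }
    exact fun e he g hg => hE2.centralises hs he hg
  set C : Subgroup GLM := G ⊓ Subgroup.centralizer {g | ∃ Z, IsMinOp G Z ∧ g = unip Z}
  have hNC : N ≤ C := by
    refine fun e he => Subgroup.mem_inf.2 ⟨hLG (hNL he), Subgroup.mem_centralizer_iff.2 ?_⟩
    rintro _ ⟨Z, hZ, rfl⟩
    obtain ⟨A, B, h, hm, hc⟩ := hT.cover Z hZ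
    exact (hcent h hm e he _ (unip_mem_compGp hc.symm)).symm
  have hCn : ∀ g ∈ G, ∀ x ∈ C, g * x * g⁻¹ ∈ C := by
    intro g hg x hx
    refine Subgroup.mem_inf.2 ⟨mul_mem (mul_mem hg hx.1) (inv_mem hg), Subgroup.mem_centralizer_iff.2 ?_⟩
    rintro _ ⟨Z, hZ, rfl⟩
    have hxc := Subgroup.mem_centralizer_iff.1 hx.2 _ ⟨_, hZ.conj (inv_mem hg), rfl⟩
    rw [← conjOp_unip _ hZ.1.1, inv_inv] at hxc
    have := congrArg (fun t => g * t * g⁻¹) hxc
    simpa [mul_assoc] using this
  have hCL : ∀ x ∈ C, x ∈ L := by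
    intro x hx
    refine (hLfix x).2 ⟨hx.1, fun q hq' => ?_⟩
    obtain ⟨A, B, h, rfl⟩ := hT.frames q hq'
    have key : ∀ {Z : E}, IsMinOp G Z → conjOp x Z = Z := fun {Z} hZ => by
      have e := (Subgroup.mem_centralizer_iff.1 hx.2 _ ⟨Z, hZ, rfl⟩)
      have e' := congrArg Units.val e
      rw [Units.val_mul, Units.val_mul, unip_val hZ.1.1] at e'
      simp only [add_mul, mul_add, one_mul, mul_one, add_right_inj] at e'
      exact conjOp_eq_iff.2 e'.symm
    exact ⟨smul_of_mem_stabOp h.minA ((mem_stabOp_iff h.minA).2 ⟨hx.1, by rw [key h.minA]; exact self_mem_opSpace _⟩),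
      smul_of_mem_stabOp h.minB ((mem_stabOp_iff h.minB).2 ⟨hx.1, by rw [key h.minB]; exact self_mem_opSpace _⟩)⟩
  exact hs.eq_bot_of_normal inf_le_left hCn hN hNC fun g hg x hx => hNn g (hCL g hg) x hx

/-- The core: a quadratic element is trivial. -/
theorem core_eq_one (hact : CoprimeAct G R) (hPG : P ≤ G) (hP : IsPGroup p P)
    (hRP : R ≤ Subgroup.normalizer (P : Set GLM))
    (hCP : G ⊓ Subgroup.centralizer (R : Set GLM) ≤ Subgroup.normalizer (P : Set GLM))
    {x : GLM} (hx : x ∈ P) (hxq : ((x : E) - 1) * ((x : E) - 1) = 0)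
    (ih : ∀ L, L < G → R ≤ Subgroup.normalizer (L : Set GLM) → P ≤ L →
      ∃ N : Subgroup GLM, N ≤ L ∧ IsPGroup p N ∧ (∀ g ∈ L, ∀ y ∈ N, g * y * g⁻¹ ∈ N) ∧ x ∈ N) : x = 1 := by
  by_contra hx1
  have hq := hs.toQHyp
  haveI : Finite M := Module.finite_of_finite (ZMod p)
  haveI : Finite GLM := finite_GLM
  obtain ⟨A₀, hA₀⟩ := exists_isMinOp (hPG hx) hx1 hxq
  obtain ⟨T, hT, hfix⟩ := exists_fixed_frameSys hs hact
  have h1 := le_fix_fst hs hact hT hfix hPG hP hRP hCP
  have h2 := le_fix_fst hs hact hT.swap (fun a ha => by rw [smul_image_swap, hfix a ha]) hPG hP hRP hCP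
  set L : Subgroup GLM := G ⊓ ⨅ q ∈ T, (MulAction.stabilizer GLM q.1 ⊓ MulAction.stabilizer GLM q.2)
  have hLmem : ∀ g, g ∈ L ↔ g ∈ G ∧ ∀ q ∈ T, g • q.1 = q.1 ∧ g • q.2 = q.2 := fun g => by
    simp [L, Subgroup.mem_inf, Subgroup.mem_iInf]
  have hPL : P ≤ L := fun y hy => (hLmem y).2 ⟨hPG hy, fun q hq' => ⟨h1 y hy q hq', h2 y hy q.swap ⟨q, hq', rfl⟩⟩⟩
  have hRL : R ≤ Subgroup.normalizer (L : Set GLM) := by
    refine CfsgLib.Solvable.le_normalizer_of_conj_mem fun a ha y hy => ?_
    rw [hLmem] at hy ⊢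
    refine ⟨(Subgroup.mem_normalizer_iff.1 (hact.norm ha) y).1 hy.1, fun q hq' => ?_⟩
    have hm : a⁻¹ • q ∈ T := by rw [← Set.mem_smul_set_iff_inv_smul_mem, hfix a ha]; exact hq'
    rw [mul_smul, mul_smul, mul_smul, mul_smul, show a⁻¹ • q.1 = (a⁻¹ • q).1 from rfl,
      show a⁻¹ • q.2 = (a⁻¹ • q).2 from rfl, (hy.2 _ hm).1, (hy.2 _ hm).2, Prod.smul_fst, Prod.smul_snd,
      smul_inv_smul, smul_inv_smul]
    exact ⟨rfl, rfl⟩
  have hlt : L < G := by
    refine lt_of_le_of_ne inf_le_left fun e => ?_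
    obtain ⟨A, B, h, hm, -⟩ := hT.cover A₀ hA₀
    have hBL : unip B ∈ L := by rw [e]; exact unip_mem h.minB.1
    have hst := mem_stabOp_of_smul h.minA (unip_mem h.minB.1) (((hLmem _).1 hBL).2 _ hm).1
    have hc := ((mem_stabOp_iff h.minA).1 hst).2
    obtain ⟨c1, c2⟩ := mem_opA_blocks h hc
    have h0 : B * A * conjOp (unip B) A * (A * B) = 0 := by
      rw [← c2]; frame_simp h
    rw [conjOp_unip_val h.BB] at h0
    refine h.minB.2.1 ?_
    have hval : B * A * (A + (B * A - A * B) - B * A * B) * (A * B) = -B := by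
      frame_simp h
    rw [hval, neg_eq_zero] at h0
    exact h0
  obtain ⟨N, hNL, hNp, hNn, hxN⟩ := ih L hlt hRL hPL
  rw [eq_bot_of_frameSys hs hT inf_le_left hLmem hNp hNL hNn, Subgroup.mem_bot] at hxN
  exact hx1 hxN

end Core

/-! ### The reduction -/

omit [FiniteDimensional (ZMod p) M] in
/-- Semisimplicity of a normal subgroup of an irreducible group. -/
theorem exists_compl_of_irreducible [FiniteDimensional (ZMod p) M] {Γ : Subgroup GLM} (hGΓ : G ≤ Γ)
    (hn : ∀ γ ∈ Γ, ∀ g ∈ G, γ * g * γ⁻¹ ∈ G) (hirr : ∀ W, InvUnder Γ W → W = ⊥ ∨ W = ⊤)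
    (W : Submodule (ZMod p) M) (hW : InvUnder G W) : ∃ W', InvUnder G W' ∧ IsCompl W W' := by
  set S : Submodule (ZMod p) M := ⨆ U ∈ {U | IsSimpleInv G U}, U with hS
  have htop : S = ⊤ := by
    by_cases hM : (⊤ : Submodule (ZMod p) M) = ⊥
    · exact eq_top_iff.2 (hM.le.trans bot_le)
    refine (hirr S ?_).resolve_left ?_
    · intro γ hγ v hv
      have hinj : Function.Injective (γ : E) := fun a b e => by
        simpa [inv_apply_apply] using congrArg ((γ⁻¹ : GLM) : E) e
      have hsurj : Function.Surjective (γ : E) := fun v => ⟨_, apply_inv_apply γ v⟩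
      have hle : S ≤ S.comap (γ : E) := by
        conv_lhs => rw [hS]
        refine iSup₂_le fun U hU => Submodule.map_le_iff_le_comap.1 ?_
        refine le_iSup₂ (f := fun U (_ : U ∈ {U | IsSimpleInv G U}) => U) (U.map (γ : E)) ⟨?_, ?_, ?_⟩
        · intro e
          exact hU.1 (Submodule.map_injective_of_injective hinj (e.trans (Submodule.map_bot _).symm))
        · rintro c hc _ ⟨w, hw, rfl⟩
          refine ⟨((γ⁻¹ * c * γ : GLM) : E) w, hU.2.1 _ ?_ w hw, ?_⟩
          · have := hn γ⁻¹ (inv_mem hγ) c hc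
            rwa [inv_inv] at this
          · simp only [Units.val_mul, Module.End.mul_apply, apply_inv_apply]
        · intro U' hU' hle
          have hU'' : InvUnder G (U'.comap (γ : E)) := by
            intro c hc w hw
            rw [Submodule.mem_comap] at hw ⊢
            have := hU' (γ * c * γ⁻¹) (hn γ hγ c hc) _ hw
            simpa only [Units.val_mul, Module.End.mul_apply, inv_apply_apply] using this
          rcases hU.2.2 _ hU'' (by
            rw [← Submodule.comap_map_eq_of_injective hinj U]; exact Submodule.comap_mono hle) with e | e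
          · left; rw [← Submodule.map_comap_eq_of_surjective hsurj U', e, Submodule.map_bot]
          · right; rw [← Submodule.map_comap_eq_of_surjective hsurj U', e]
      exact hle hv
    · intro e
      obtain ⟨U, ⟨hUi, hU0⟩, hmin⟩ := wellFounded_lt.has_min {U | InvUnder G U ∧ U ≠ ⊥}
        ⟨⊤, fun _ _ _ _ => trivial, hM⟩
      have hsimp : IsSimpleInv G U := ⟨hU0, hUi, fun U' h1 h2 => by
        by_contra hcon
        push Not at hcon
        exact hmin U' ⟨h1, hcon.1⟩ (lt_of_le_of_ne h2 hcon.2)⟩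
      exact hU0 (le_bot_iff.1 (e ▸ le_iSup₂ (f := fun U (_ : U ∈ {U | IsSimpleInv G U}) => U) U hsimp))
  obtain ⟨W', ⟨hW'i, hW'd⟩, hmax⟩ := wellFounded_gt.has_min {W' | InvUnder G W' ∧ W ⊓ W' = ⊥}
    ⟨⊥, fun _ _ v hv => by rw [(Submodule.mem_bot _).1 hv, map_zero]; exact zero_mem _, inf_bot_eq _⟩
  refine ⟨W', hW'i, disjoint_iff.2 hW'd, codisjoint_iff.2 (top_le_iff.1 (htop.ge.trans (iSup₂_le fun U hU => ?_)))⟩
  have hsup : ∀ {W1 W2 : Submodule (ZMod p) M}, InvUnder G W1 → InvUnder G W2 → InvUnder G (W1 ⊔ W2) :=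
    fun h1 h2 g hg v hv => by
      obtain ⟨a, ha, b, hb, rfl⟩ := Submodule.mem_sup.1 hv
      rw [map_add]
      exact add_mem (Submodule.mem_sup_left (h1 g hg a ha)) (Submodule.mem_sup_right (h2 g hg b hb))
  rcases hU.2.2 (U ⊓ (W ⊔ W')) (fun g hg v hv => ⟨hU.2.1 g hg v hv.1, hsup hW hW'i g hg v hv.2⟩) inf_le_left with
    e | e
  · exfalso
    refine hmax (W' ⊔ U) ⟨hsup hW'i hU.2.1, ?_⟩ (lt_of_le_of_ne le_sup_left fun e0 => hU.1 ?_)
    · rw [eq_bot_iff]
      rintro v ⟨hv, hv'⟩
      obtain ⟨a, ha, b, hb, rfl⟩ := Submodule.mem_sup.1 hv'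
      have hm : b ∈ U ⊓ (W ⊔ W') := ⟨hb, by
        have := sub_mem (Submodule.mem_sup_left (T := W') hv) (Submodule.mem_sup_right (S := W) ha)
        rwa [add_sub_cancel_left] at this⟩
      rw [e] at hm
      have hb0 : b = 0 := (Submodule.mem_bot _).1 hm
      subst hb0
      rw [add_zero] at hv ⊢
      rw [← hW'd]; exact ⟨hv, ha⟩
    · rw [eq_bot_iff, ← e]
      exact le_inf le_rfl (le_sup_right.trans (e0.ge.trans le_sup_right))
  · exact inf_eq_left.1 e

theorem pRad_eq_bot_of_irreducible {Γ : Subgroup GLM} (hn : Γ ≤ Subgroup.normalizer (G : Set GLM))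
    (hirr : ∀ W, InvUnder Γ W → W = ⊥ ∨ W = ⊤) : pRad p G = ⊥ := by
  haveI : Finite M := Module.finite_of_finite (ZMod p)
  haveI : Finite GLM := finite_GLM
  have hU : IsPGroup p (pRad p G) := isPGroup_pRad
  have hnU : Γ ≤ Subgroup.normalizer (pRad p G : Set GLM) := le_normalizer_pRad hn
  let F : Submodule (ZMod p) M :=
    { carrier := {v | ∀ u ∈ pRad p G, (u : E) v = v}
      zero_mem' := fun u _ => map_zero _
      add_mem' := fun {a b} ha hb u hu => by rw [map_add, ha u hu, hb u hu]
      smul_mem' := fun c a ha u hu => by rw [map_smul, ha u hu] }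
  have hinv : InvUnder Γ F := by
    intro y hy v hv u hu
    have h1 := (Subgroup.mem_normalizer_iff.1 (hnU hy) (y⁻¹ * u * y)).2 (by simpa [mul_assoc] using hu)
    have h2 := congrArg (fun w : M => (y : E) w) (hv _ h1)
    simpa only [Units.val_mul, Module.End.mul_apply, apply_inv_apply] using h2
  rw [eq_bot_iff]
  intro u hu
  rw [Subgroup.mem_bot]
  refine Units.ext (LinearMap.ext fun v => ?_)
  rcases hirr F hinv with h | h
  · by_cases hM : (⊤ : Submodule (ZMod p) M) = ⊥
    · have : v = 0 := (Submodule.mem_bot (ZMod p)).1 (hM ▸ Submodule.mem_top)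
      simp [this]
    obtain ⟨w, -, hw0, hw⟩ := exists_fixed_in hU hM fun _ _ _ _ => trivial
    exact absurd ((Submodule.mem_bot (ZMod p)).1 (h ▸ (hw : w ∈ F))) hw0
  · exact (h.ge Submodule.mem_top : v ∈ F) u hu

theorem coprimeAct_of {r : ℕ} [Fact r.Prime] [Finite GLM] (hR : IsPGroup r R) (hcop : (Nat.card G).Coprime r)
    (hnorm : R ≤ Subgroup.normalizer (G : Set GLM)) : CoprimeAct G R :=
  ⟨hnorm, by
    obtain ⟨n, hn⟩ := IsPGroup.iff_card.1 hR
    rw [hn]; exact hcop.symm.pow_left n, by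
    haveI := hR.isNilpotent
    infer_instance⟩

/-- The image of the data under a homomorphism defined on a subgroup containing `G` and `R`. -/
theorem image_data {Γ : Subgroup GLM} {H : Type u} [Group H] [Finite H] [Finite GLM] (f : ↥Γ →* H) (hG : G ≤ Γ) (hR : R ≤ Γ)
    (hPG : P ≤ G) (hact : CoprimeAct G R)
    (hRP : R ≤ Subgroup.normalizer (P : Set GLM))
    (hCP : G ⊓ Subgroup.centralizer (R : Set GLM) ≤ Subgroup.normalizer (P : Set GLM)) :
    (R.subgroupOf Γ).map f ≤ Subgroup.normalizer ((G.subgroupOf Γ).map f : Set H) ∧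
    (R.subgroupOf Γ).map f ≤ Subgroup.normalizer ((P.subgroupOf Γ).map f : Set H) ∧
    (G.subgroupOf Γ).map f ⊓ Subgroup.centralizer ((R.subgroupOf Γ).map f : Set H) ≤
      Subgroup.normalizer ((P.subgroupOf Γ).map f : Set H) := by
  have key : ∀ {K K' : Subgroup GLM}, (∀ g ∈ K, ∀ x ∈ K', g * x * g⁻¹ ∈ K') → ∀ (k : ↥Γ), (k : GLM) ∈ K →
      ∀ y ∈ (K'.subgroupOf Γ).map f, f k * y * (f k)⁻¹ ∈ (K'.subgroupOf Γ).map f := by
    rintro K K' hKK' k hk _ ⟨z, hz, rfl⟩
    refine ⟨k * z * k⁻¹, hKK' _ hk _ hz, ?_⟩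
    rw [map_mul, map_mul, map_inv]
  have norm' : ∀ {K K' : Subgroup GLM}, K ≤ Subgroup.normalizer (K' : Set GLM) →
      ∀ g ∈ K, ∀ x ∈ K', g * x * g⁻¹ ∈ K' := fun hKK' g hg x hx => (Subgroup.mem_normalizer_iff.1 (hKK' hg) x).1 hx
  haveI : Finite ↥Γ := inferInstance
  refine ⟨?_, ?_, ?_⟩
  · refine CfsgLib.Solvable.le_normalizer_of_conj_mem ?_
    rintro _ ⟨k, hk, rfl⟩ y hy
    exact key (norm' hact.norm) k hk y hy
  · refine CfsgLib.Solvable.le_normalizer_of_conj_mem ?_
    rintro _ ⟨k, hk, rfl⟩ y hy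
    exact key (norm' hRP) k hk y hy
  · haveI : Finite ↑((P.subgroupOf Γ).map f : Set H) :=
      Finite.of_surjective (fun z : (P.subgroupOf Γ) => (⟨f z, z, z.2, rfl⟩ : ((P.subgroupOf Γ).map f : Set H)))
        (by rintro ⟨_, z, hz, rfl⟩; exact ⟨⟨z, hz⟩, rfl⟩)
    rintro _ ⟨⟨u, hu, rfl⟩, hc⟩
    set N : Subgroup GLM := G ⊓ f.ker.map Γ.subtype with hN
    have hRN : R ≤ Subgroup.normalizer (N : Set GLM) := by
      refine CfsgLib.Solvable.le_normalizer_of_conj_mem fun a ha x hx => ⟨norm' hact.norm a ha x hx.1, ?_⟩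
      obtain ⟨z, hz, rfl⟩ := hx.2
      refine ⟨⟨a, hR ha⟩ * z * ⟨a, hR ha⟩⁻¹, ?_, rfl⟩
      rw [SetLike.mem_coe, MonoidHom.mem_ker] at hz ⊢
      rw [map_mul, map_mul, hz, mul_one, map_inv, mul_inv_cancel]
    obtain ⟨n, hn, hnu⟩ := CfsgLib.Solvable.exists_mul_mem_centralizer R N hRN
      (hact.cop.coprime_dvd_right (Subgroup.card_dvd_of_le inf_le_left)) (Or.inl hact.solv) (u : GLM) fun a ha => by
        refine Subgroup.mem_inf.2 ⟨?_, ?_⟩
        · rw [commutatorElement_def]
          exact mul_mem (norm' hact.norm a ha _ hu) (inv_mem hu)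
        · refine ⟨(⟨a, hR ha⟩ : ↥Γ) * u * (⟨a, hR ha⟩ : ↥Γ)⁻¹ * u⁻¹, ?_, by simp [commutatorElement_def]⟩
          have hcc : f ⟨a, hR ha⟩ * f u = f u * f ⟨a, hR ha⟩ :=
            (Subgroup.mem_centralizer_iff.1 hc) _ ⟨⟨a, hR ha⟩, ha, rfl⟩
          rw [SetLike.mem_coe, MonoidHom.mem_ker, map_mul, map_mul, map_mul, hcc, map_inv, map_inv]
          group
    obtain ⟨z, hz, hzn⟩ := hn.2
    have hv : n * (u : GLM) ∈ G ⊓ Subgroup.centralizer (R : Set GLM) := ⟨mul_mem hn.1 hu, hnu⟩
    have hfv : f ⟨n * (u : GLM), hG hv.1⟩ = f u := by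
      rw [show (⟨n * (u : GLM), hG hv.1⟩ : ↥Γ) = z * u from Subtype.ext (congrArg (· * (u : GLM)) hzn.symm),
        map_mul, (MonoidHom.mem_ker).1 hz, one_mul]
    rw [← hfv]
    refine CfsgLib.Solvable.mem_normalizer_of_conj_mem fun y hy => ?_
    exact key (norm' hCP) _ hv y hy

/-- Powers of an element acting trivially on an invariant subspace and on the quotient. -/
theorem pow_eq_one_of_unip {W : Submodule (ZMod p) M} (hp : 3 ≤ p) (h1 : ∀ v ∈ W, (g : E) v = v)
    (h2 : ∀ v, (g : E) v - v ∈ W) : g ^ p = 1 := by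
  have hsq : ((g : E) - 1) * ((g : E) - 1) = 0 := LinearMap.ext fun v => by
    simp only [Module.End.mul_apply, LinearMap.sub_apply, Module.End.one_apply, LinearMap.zero_apply]
    rw [h1 _ (h2 v), sub_self]
  refine Units.ext ?_
  rw [Units.val_pow_eq_pow_val, show (g : E) = 1 + ((g : E) - 1) by abel,
    one_add_pow_p hp (by rw [hsq, zero_mul]), Units.val_one]

end CfsgLib.Flavell

namespace CfsgLib.Flavell

open CfsgLib.QuadPair LinearMap CfsgLib.OpFitCoprime

universe u

variable {p : ℕ} [Fact p.Prime]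

/-- The inductive statement. -/
theorem exists_normal_pGroup (hp : 5 ≤ p) : ∀ (n : ℕ) (M : Type u) [AddCommGroup M] [Module (ZMod p) M] [Finite M]
    (G R : Subgroup (LinearMap.GeneralLinearGroup (ZMod p) M)) (r : ℕ) [Fact r.Prime],
    Module.finrank (ZMod p) M + Nat.card G ≤ n →
    IsPGroup r ↥R → (Nat.card ↥G).Coprime r →
    R ≤ Subgroup.normalizer (G : Set (LinearMap.GeneralLinearGroup (ZMod p) M)) →
    ∀ P : Subgroup (LinearMap.GeneralLinearGroup (ZMod p) M), P ≤ G → IsPGroup p ↥P →
      R ≤ Subgroup.normalizer (P : Set (LinearMap.GeneralLinearGroup (ZMod p) M)) →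
      G ⊓ Subgroup.centralizer (R : Set (LinearMap.GeneralLinearGroup (ZMod p) M)) ≤
        Subgroup.normalizer (P : Set (LinearMap.GeneralLinearGroup (ZMod p) M)) →
      ∀ x ∈ P, ((x : Module.End (ZMod p) M) - 1) * ((x : Module.End (ZMod p) M) - 1) = 0 → x ∈ pRad p G := by
  intro n
  induction n with
  | zero =>
    intro M _ _ _ G R r _ hn
    haveI : FiniteDimensional (ZMod p) M := Module.Finite.of_finite
    haveI : Finite (LinearMap.GeneralLinearGroup (ZMod p) M) := finite_GLM
    exact absurd hn (by have : 0 < Nat.card G := Nat.card_pos; omega)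
  | succ n ih =>
    intro M _ _ _ G R r _ hn hR hcop hnorm P hPG hP hRP hCP x hx hxq
    haveI : FiniteDimensional (ZMod p) M := Module.Finite.of_finite
    haveI : Finite (LinearMap.GeneralLinearGroup (ZMod p) M) := finite_GLM
    have hact := coprimeAct_of hR hcop hnorm
    have hp3 : 3 ≤ p := by omega
    by_cases hirr : ∀ W, InvUnder (G ⊔ R) W → W = ⊥ ∨ W = ⊤
    · -- irreducible
      have hΓ : G ⊔ R ≤ Subgroup.normalizer (G : Set (LinearMap.GeneralLinearGroup (ZMod p) M)) :=
        sup_le Subgroup.le_normalizer hnorm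
      have hrad : pRad p G = ⊥ := pRad_eq_bot_of_irreducible hΓ hirr
      rw [hrad, Subgroup.mem_bot]
      set S : Set (LinearMap.GeneralLinearGroup (ZMod p) M) :=
        {g | g ∈ G ∧ ((g : Module.End (ZMod p) M) - 1) * ((g : Module.End (ZMod p) M) - 1) = 0}
      set Gq := Subgroup.closure S with hGq
      have hGqG : Gq ≤ G := (Subgroup.closure_le _).2 fun g hg => hg.1
      have hGqn : G ⊔ R ≤ Subgroup.normalizer (Gq : Set (LinearMap.GeneralLinearGroup (ZMod p) M)) := by
        refine CfsgLib.Solvable.le_normalizer_of_conj_mem fun a ha y hy => ?_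
        have hle : Gq ≤ Gq.comap (MulAut.conj a).toMonoidHom := by
          rw [hGq, Subgroup.closure_le]
          rintro g ⟨hg, hgq⟩
          refine Subgroup.subset_closure ⟨(Subgroup.mem_normalizer_iff.1 (hΓ ha) g).1 hg, ?_⟩
          show ((((a * g * a⁻¹ : LinearMap.GeneralLinearGroup (ZMod p) M)) : Module.End (ZMod p) M) - 1) *
            ((((a * g * a⁻¹ : LinearMap.GeneralLinearGroup (ZMod p) M)) : Module.End (ZMod p) M) - 1) = 0
          rw [show (((a * g * a⁻¹ : LinearMap.GeneralLinearGroup (ZMod p) M)) : Module.End (ZMod p) M) - 1 =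
              conjOp a ((g : Module.End (ZMod p) M) - 1) by
            rw [map_sub, conjOp_one, conjOp_apply, Units.val_mul, Units.val_mul], ← conjOp_mul, hgq, map_zero]
        exact hle hy
      have hxGq : x ∈ Gq := Subgroup.subset_closure ⟨hPG hx, hxq⟩
      rcases eq_or_lt_of_le hGqG with hGeq | hlt
      · have hs : QSys G :=
          { toQHyp := qHyp_of_pCore hp (by
              rw [← Subgroup.map_eq_bot_iff_of_injective _ G.subtype_injective]; exact hrad)
            ss := exists_compl_of_irreducible le_sup_left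
              (fun γ hγ g hg => (Subgroup.mem_normalizer_iff.1 (hΓ hγ) g).1 hg) hirr
            noP := by rw [← Subgroup.map_eq_bot_iff_of_injective _ G.subtype_injective]; exact hrad
            gen := hGeq.ge }
        refine core_eq_one hs hact hPG hP hRP hCP hx hxq fun L hL hRL hPL => ?_
        have hcard : Nat.card L < Nat.card G := lt_of_le_of_ne (Subgroup.card_le_of_le hL.le) fun e =>
          hL.ne (Subgroup.eq_of_le_of_card_ge hL.le e.ge)
        refine ⟨pRad p L, pRad_le p L, isPGroup_pRad, fun g hg y hy =>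
            (Subgroup.mem_normalizer_iff.1 (le_normalizer_pRad Subgroup.le_normalizer hg) y).1 hy,
          ih M L R r (by omega) hR (hcop.coprime_dvd_left (Subgroup.card_dvd_of_le hL.le)) hRL P hPL hP hRP
            ((inf_le_inf_right _ hL.le).trans hCP) x hx hxq⟩
      · have hcard : Nat.card Gq < Nat.card G := lt_of_le_of_ne (Subgroup.card_le_of_le hGqG) fun e =>
          hlt.ne (Subgroup.eq_of_le_of_card_ge hGqG e.ge)
        have hRq : R ≤ Subgroup.normalizer (Gq : Set (LinearMap.GeneralLinearGroup (ZMod p) M)) :=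
          le_sup_right.trans hGqn
        have hGq' : G ≤ Subgroup.normalizer (Gq : Set (LinearMap.GeneralLinearGroup (ZMod p) M)) :=
          le_sup_left.trans hGqn
        have hmem := ih M Gq R r (by omega) hR (hcop.coprime_dvd_left (Subgroup.card_dvd_of_le hGqG)) hRq (P ⊓ Gq)
          inf_le_right (hP.to_le inf_le_left)
          (CfsgLib.Solvable.le_normalizer_of_conj_mem fun a ha y hy =>
            ⟨(Subgroup.mem_normalizer_iff.1 (hRP ha) y).1 hy.1, (Subgroup.mem_normalizer_iff.1 (hRq ha) y).1 hy.2⟩)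
          (CfsgLib.Solvable.le_normalizer_of_conj_mem fun a ha y hy =>
            ⟨(Subgroup.mem_normalizer_iff.1 (hCP ⟨hGqG ha.1, ha.2⟩) y).1 hy.1,
              (Subgroup.mem_normalizer_iff.1 (Subgroup.le_normalizer ha.1) y).1 hy.2⟩)
          x ⟨hx, hxGq⟩ hxq
        have hle : pRad p Gq ≤ pRad p G :=
          le_pRad isPGroup_pRad ((pRad_le p Gq).trans hGqG) (le_normalizer_pRad hGq')
        have := hle hmem
        rwa [hrad, Subgroup.mem_bot] at this
    · -- reducible
      push Not at hirr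
      obtain ⟨W, hWi, hWb, hWt⟩ := hirr
      set Γ := G ⊔ R
      let fW : ↥Γ →* LinearMap.GeneralLinearGroup (ZMod p) W := MonoidHom.toHomUnits
        { toFun := fun g => LinearMap.restrict ((g : LinearMap.GeneralLinearGroup (ZMod p) M) : Module.End (ZMod p) M)
            (hWi g.1 g.2)
          map_one' := LinearMap.ext fun v => Subtype.ext (by simp)
          map_mul' := fun a b => LinearMap.ext fun v => Subtype.ext (by simp [Module.End.mul_apply]) }
      have hmapW : ∀ g : ↥Γ, W ≤ W.comap ((g : LinearMap.GeneralLinearGroup (ZMod p) M) : Module.End (ZMod p) M) :=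
        fun g v hv => hWi g.1 g.2 v hv
      let fQ : ↥Γ →* LinearMap.GeneralLinearGroup (ZMod p) (M ⧸ W) := MonoidHom.toHomUnits
        { toFun := fun g => Submodule.mapQ W W
            ((g : LinearMap.GeneralLinearGroup (ZMod p) M) : Module.End (ZMod p) M) (hmapW g)
          map_one' := by ext v; simp
          map_mul' := fun a b => by ext v; simp [Module.End.mul_apply] }
      have hfW : ∀ (g : ↥Γ) (v : W), (((fW g : Module.End (ZMod p) W) v : W) : M) =
          ((g : LinearMap.GeneralLinearGroup (ZMod p) M) : Module.End (ZMod p) M) v := fun g v => rfl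
      have hfQ : ∀ (g : ↥Γ) (v : M), (fQ g : Module.End (ZMod p) (M ⧸ W)) (Submodule.Quotient.mk v) =
          Submodule.Quotient.mk (((g : LinearMap.GeneralLinearGroup (ZMod p) M) : Module.End (ZMod p) M) v) :=
        fun g v => rfl
      have hGΓ : G ≤ Γ := le_sup_left
      have hRΓ : R ≤ Γ := le_sup_right
      have hxΓ : x ∈ Γ := hGΓ (hPG hx)
      have step : ∀ (V : Type u) [AddCommGroup V] [Module (ZMod p) V] [Finite V]
          (f : ↥Γ →* LinearMap.GeneralLinearGroup (ZMod p) V),
          Module.finrank (ZMod p) V < Module.finrank (ZMod p) M →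
          ((f ⟨x, hxΓ⟩ : Module.End (ZMod p) V) - 1) * ((f ⟨x, hxΓ⟩ : Module.End (ZMod p) V) - 1) = 0 →
          f ⟨x, hxΓ⟩ ∈ pRad p ((G.subgroupOf Γ).map f) := by
        intro V _ _ _ f hV hq0
        haveI : FiniteDimensional (ZMod p) V := Module.Finite.of_finite
        haveI : Finite (LinearMap.GeneralLinearGroup (ZMod p) V) := finite_GLM
        obtain ⟨n1, n2, n3⟩ := image_data f hGΓ hRΓ hPG hact hRP hCP
        have hdvd : Nat.card ((G.subgroupOf Γ).map f) ∣ Nat.card G :=
          (Subgroup.card_map_dvd (G.subgroupOf Γ) f).trans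
            (Nat.card_congr (Subgroup.subgroupOfEquivOfLe hGΓ).toEquiv).dvd
        have hle := Nat.le_of_dvd Nat.card_pos hdvd
        exact ih V ((G.subgroupOf Γ).map f) ((R.subgroupOf Γ).map f) r (by omega)
          ((hR.of_equiv (Subgroup.subgroupOfEquivOfLe hRΓ).symm).map f) (hcop.coprime_dvd_left hdvd) n1
          ((P.subgroupOf Γ).map f) (Subgroup.map_mono (fun y hy => hPG hy))
          ((hP.of_equiv (Subgroup.subgroupOfEquivOfLe (hPG.trans hGΓ)).symm).map f) n2 n3
          _ ⟨⟨x, hxΓ⟩, hx, rfl⟩ hq0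
      have hx0 : ∀ v : M, ((x : Module.End (ZMod p) M) ((x : Module.End (ZMod p) M) v - v) -
          ((x : Module.End (ZMod p) M) v - v)) = 0 := fun v => by
        have := LinearMap.congr_fun hxq v
        simpa only [Module.End.mul_apply, LinearMap.sub_apply, Module.End.one_apply, LinearMap.zero_apply] using this
      have hlW : Module.finrank (ZMod p) W < Module.finrank (ZMod p) M := Submodule.finrank_lt hWt
      have hlQ : Module.finrank (ZMod p) (M ⧸ W) < Module.finrank (ZMod p) M := by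
        have h1 := W.finrank_quotient_add_finrank
        have h2 : Module.finrank (ZMod p) W ≠ 0 := fun e => hWb (Submodule.finrank_eq_zero.1 e)
        omega
      haveI : Finite (M ⧸ W) := Finite.of_surjective _ (Submodule.Quotient.mk_surjective W)
      have hW1 := step W fW hlW (LinearMap.ext fun v => Subtype.ext (by
        simp only [Module.End.mul_apply, LinearMap.sub_apply, Module.End.one_apply, LinearMap.zero_apply,
          Submodule.coe_sub, hfW, Submodule.coe_zero]
        exact hx0 (v : M)))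
      have hQ1 := step (M ⧸ W) fQ hlQ (LinearMap.ext fun v => by
        obtain ⟨w, rfl⟩ := Submodule.Quotient.mk_surjective W v
        simp only [Module.End.mul_apply, LinearMap.sub_apply, Module.End.one_apply, LinearMap.zero_apply, hfQ,
          ← Submodule.Quotient.mk_sub]
        rw [hx0 w]; exact Submodule.Quotient.mk_zero W)
      set N : Subgroup (LinearMap.GeneralLinearGroup (ZMod p) M) :=
        G ⊓ ((pRad p ((G.subgroupOf Γ).map fW)).comap fW ⊓ (pRad p ((G.subgroupOf Γ).map fQ)).comap fQ).map Γ.subtype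
        with hN
      haveI : Finite (LinearMap.GeneralLinearGroup (ZMod p) W) := finite_GLM
      haveI : Finite (LinearMap.GeneralLinearGroup (ZMod p) (M ⧸ W)) := finite_GLM
      refine (le_pRad (Q := N) ?_ inf_le_left ?_) ⟨hPG hx, ⟨x, hxΓ⟩, ⟨hW1, hQ1⟩, rfl⟩
      · intro y
        obtain ⟨z, ⟨hzW, hzQ⟩, hzy⟩ := y.2.2
        obtain ⟨a, ha⟩ := isPGroup_pRad (⟨fW z, hzW⟩ : ↥(pRad p ((G.subgroupOf Γ).map fW)))
        obtain ⟨b, hb⟩ := isPGroup_pRad (⟨fQ z, hzQ⟩ : ↥(pRad p ((G.subgroupOf Γ).map fQ)))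
        have ha' : fW z ^ p ^ a = 1 := congrArg Subtype.val ha
        have hb' : fQ z ^ p ^ b = 1 := congrArg Subtype.val hb
        refine ⟨a + b + 1, Subtype.ext ?_⟩
        have hz : ((y : LinearMap.GeneralLinearGroup (ZMod p) M) ^ p ^ (a + b)) ^ p = 1 := by
          refine pow_eq_one_of_unip hp3 (W := W) (fun v hv => ?_) fun v => ?_
          · have e : fW (z ^ p ^ (a + b)) = 1 := by rw [map_pow, pow_add, pow_mul, ha', one_pow]
            have := congrArg (fun t : LinearMap.GeneralLinearGroup (ZMod p) W =>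
              (((t : Module.End (ZMod p) W) ⟨v, hv⟩ : W) : M)) e
            simp only [hfW, Subgroup.coe_pow] at this
            rw [← hzy]
            simpa using this
          · have e : fQ (z ^ p ^ (a + b)) = 1 := by rw [map_pow, add_comm a b, pow_add, pow_mul, hb', one_pow]
            have := congrArg (fun t : LinearMap.GeneralLinearGroup (ZMod p) (M ⧸ W) =>
              (t : Module.End (ZMod p) (M ⧸ W)) (Submodule.Quotient.mk v)) e
            simp only [hfQ, Subgroup.coe_pow] at this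
            rw [← hzy]
            exact (Submodule.Quotient.eq W).1 (by simpa using this)
        rw [Subgroup.coe_pow, Subgroup.coe_one, pow_succ (n := a + b), pow_mul]
        exact hz
      · refine CfsgLib.Solvable.le_normalizer_of_conj_mem fun g hg y hy => Subgroup.mem_inf.2 ⟨mul_mem (mul_mem hg hy.1) (inv_mem hg), ?_⟩
        obtain ⟨z, ⟨hzW, hzQ⟩, rfl⟩ := hy.2
        refine ⟨⟨g, hGΓ hg⟩ * z * ⟨g, hGΓ hg⟩⁻¹, Subgroup.mem_inf.2 ⟨?_, ?_⟩, rfl⟩
        · rw [Subgroup.mem_comap, map_mul, map_mul, map_inv]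
          exact (Subgroup.mem_normalizer_iff.1 (le_normalizer_pRad Subgroup.le_normalizer
            (Subgroup.mem_map_of_mem fW (show (⟨g, hGΓ hg⟩ : ↥Γ) ∈ G.subgroupOf Γ from hg))) _).1 hzW
        · rw [Subgroup.mem_comap, map_mul, map_mul, map_inv]
          exact (Subgroup.mem_normalizer_iff.1 (le_normalizer_pRad Subgroup.le_normalizer
            (Subgroup.mem_map_of_mem fQ (show (⟨g, hGΓ hg⟩ : ↥Γ) ∈ G.subgroupOf Γ from hg))) _).1 hzQ

/-- **The quadratic statement.** -/
theorem quadKey (hp : 5 ≤ p) : QuadKey.{u} p := by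
  intro M _ _ _ G R r _ hR hcop hnorm hirr P hPG hP hRP hCP x hx hxq
  haveI : FiniteDimensional (ZMod p) M := Module.Finite.of_finite
  have h := exists_normal_pGroup hp _ M G R r le_rfl hR hcop hnorm P hPG hP hRP hCP x hx hxq
  rwa [pRad_eq_bot_of_irreducible (sup_le Subgroup.le_normalizer hnorm) hirr, Subgroup.mem_bot] at h

end CfsgLib.Flavell
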