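import Cfsg.Agent.Lib.Flavell.QuadEndgame

/-!
The stabiliser of the space of a minimal operator contains a Sylow `p`-subgroup: no other member of the class is
normalised by a maximal `p`-subgroup of the stabiliser.
-/

set_option autoImplicit false

namespace CfsgLib.Flavell

open CfsgLib.QuadPair LinearMap

universe u

variable {p : ℕ} [Fact p.Prime] {M : Type u} [AddCommGroup M] [Module (ZMod p) M]

local notation "GLM" => LinearMap.GeneralLinearGroup (ZMod p) M
local notation "E" => Module.End (ZMod p) M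

variable {G S : Subgroup (LinearMap.GeneralLinearGroup (ZMod p) M)} {A B C D X Y δ : Module.End (ZMod p) M}
  {u g z : LinearMap.GeneralLinearGroup (ZMod p) M}

/-- The block diagonal part. -/
def diag (A B x : E) : E := A * B * x * (A * B) + eZ A B * x * eZ A B + B * A * x * (B * A)

theorem two_smul_eq_zero (h2 : (2 : ZMod p) ≠ 0) {x : E} (h : x + x = 0) : x = 0 := by
  rw [← two_smul (ZMod p)] at h
  exact (smul_eq_zero.1 h).resolve_left h2

section Tri

variable (h : IsFrame G A B)
include h

/-- An operator commuting with `A` is triangular. -/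
theorem tri_of_commute (hc : A * δ = δ * A) :
    B * A * δ * (A * B) = 0 ∧ eZ A B * δ * (A * B) = 0 ∧ B * A * δ * eZ A B = 0 := by
  refine ⟨?_, ?_, ?_⟩
  · calc B * A * δ * (A * B) = B * (A * δ) * A * B := by simp only [mul_assoc]
      _ = 0 := by rw [hc]; frame_simp h
  · calc eZ A B * δ * (A * B) = eZ A B * (δ * A) * B := by simp only [mul_assoc]
      _ = 0 := by rw [← hc]; frame_simp h
  · calc B * A * δ * eZ A B = B * (A * δ) * eZ A B := by simp only [mul_assoc]
      _ = 0 := by rw [hc]; frame_simp h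

theorem tri_left (hc : A * δ = δ * A) :
    δ * (A * B) = A * B * δ * (A * B) ∧ B * A * δ = B * A * δ * (B * A) := by
  obtain ⟨t1, t2, t3⟩ := tri_of_commute h hc
  constructor
  · conv_lhs => rw [← one_mul δ, ← eZ_add A B, add_mul, add_mul, add_mul, add_mul, t1, t2]
    simp
  · calc B * A * δ = B * A * δ * (A * B + eZ A B + B * A) := by rw [eZ_add, mul_one]
      _ = B * A * δ * (B * A) := by rw [mul_add, mul_add, t1, t3]; simp

theorem diag_conj (hc : A * δ = δ * A) (hu : u ∈ flagGp G A) : diag A B (conjOp u δ) = diag A B δ := by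
  obtain ⟨t1, t2, t3⟩ := tri_of_commute h hc
  obtain ⟨l1, l2⟩ := tri_left h hc
  have hui := inv_mem hu
  obtain ⟨z1, z2, -⟩ := flag_zero h hu
  obtain ⟨w1, w2, -⟩ := flag_zero h hui
  rw [mul_sub, mul_one, sub_eq_zero] at z1 w1
  rw [sub_mul, one_mul, sub_eq_zero] at z2 w2
  simp only [diag, conjOp_apply]
  congr 1
  congr 1
  · calc A * B * ((u : E) * δ * ((u⁻¹ : GLM) : E)) * (A * B)
        = A * B * ((u : E) * (δ * (((u⁻¹ : GLM) : E) * (A * B)))) := by simp only [mul_assoc]
      _ = A * B * ((u : E) * (A * B)) * δ * (A * B) := by rw [w2, l1]; simp only [mul_assoc]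
      _ = A * B * δ * (A * B) := by rw [z2]; frame_simp h
  · calc eZ A B * ((u : E) * δ * ((u⁻¹ : GLM) : E)) * eZ A B
        = eZ A B * (u : E) * δ * (((u⁻¹ : GLM) : E) * eZ A B) := by simp only [mul_assoc]
      _ = (eZ A B + al A B u) * δ * (eZ A B + be A B ((u⁻¹ : GLM) : E)) := by rw [eZ_flag h hu, flag_u_eZ h hui]
      _ = eZ A B * δ * eZ A B + eZ A B * δ * (A * B) * (((u⁻¹ : GLM) : E) * eZ A B) +
            (eZ A B * (u : E) * (B * A * δ * eZ A B) +
              eZ A B * (u : E) * (B * A * δ * (A * B)) * (((u⁻¹ : GLM) : E) * eZ A B)) := by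
          simp only [al, be, add_mul, mul_add, mul_assoc]; abel
      _ = eZ A B * δ * eZ A B := by rw [t1, t2, t3]; simp
  · calc B * A * ((u : E) * δ * ((u⁻¹ : GLM) : E)) * (B * A)
        = B * A * (u : E) * δ * (((u⁻¹ : GLM) : E) * (B * A)) := by simp only [mul_assoc]
      _ = B * A * δ * (B * A) * (((u⁻¹ : GLM) : E) * (B * A)) := by rw [z1, ← l2]
      _ = B * A * δ * (B * A * ((u⁻¹ : GLM) : E)) * (B * A) := by simp only [mul_assoc]
      _ = B * A * δ * (B * A) := by rw [w1]; frame_simp h

theorem mem_flag_of_diag (hc : A * δ = δ * A) (hd : diag A B δ = 0) :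
    A * δ = 0 ∧ δ * A = 0 ∧ ∀ v ∈ ker A, δ v ∈ range A := by
  obtain ⟨l1, l2⟩ := tri_left h hc
  obtain ⟨-, t2, -⟩ := tri_of_commute h hc
  have d1 : A * B * δ * (A * B) = 0 := by
    have := congrArg (fun x => A * B * x * (A * B)) hd
    simp only [diag, mul_add, add_mul, mul_zero, zero_mul] at this
    rw [← this]; frame_simp h
  have d3 : B * A * δ * (B * A) = 0 := by
    have := congrArg (fun x => B * A * x * (B * A)) hd
    simp only [diag, mul_add, add_mul, mul_zero, zero_mul] at this
    rw [← this]; frame_simp h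
  have d2 : eZ A B * δ * eZ A B = 0 := by
    have := hd
    rwa [diag, d1, d3, zero_add, add_zero] at this
  have a1 : A * δ = 0 := by
    calc A * δ = A * (B * A * δ) := by frame_simp h
      _ = 0 := by rw [l2, d3, mul_zero]
  refine ⟨a1, by rw [← hc, a1], fun v hv => ?_⟩
  rw [mem_ker] at hv
  have e0 : eZ A B (δ v) = 0 := by
    have hsum : (eZ A B * δ) * (A * B + eZ A B + B * A) = eZ A B * δ := by rw [eZ_add, mul_one]
    have := LinearMap.congr_fun hsum v
    rw [mul_add, mul_add, t2, d2, zero_add, zero_add] at this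
    simp only [Module.End.mul_apply, hv, map_zero] at this
    exact this.symm
  have e1 : (B * A) (δ v) = 0 := by rw [Module.End.mul_apply, ← Module.End.mul_apply A δ, a1]; simp
  refine ⟨B (δ v), ?_⟩
  conv_rhs => rw [← Module.End.one_apply (R := ZMod p) (δ v), ← eZ_add A B, LinearMap.add_apply, LinearMap.add_apply,
    e0, e1, add_zero, add_zero]
  rfl

end Tri

variable [FiniteDimensional (ZMod p) M]

theorem finrank_range_eq (hA : IsMinOp G A) (hD : IsMinOp G D) :
    Module.finrank (ZMod p) (range A) = Module.finrank (ZMod p) (range D) :=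
  le_antisymm (hA.2.2 D hD.1 hD.2.1) (hD.2.2 A hA.1 hA.2.1)

section Step

variable (hs : QSys G) (h : IsFrame G A B)
include hs h

/-- No nonzero `A`-commuting operator with nonzero diagonal part gives a central element. -/
theorem diag_eq_zero_of_fixed (hD : IsMinOp G δ) (hconn : Conn G A δ) (hst : unip δ ∈ stabOp G A)
    (hcA : ∀ X ∈ opSpace h.minA.1, X * δ = δ * X) (hfix : ∀ u ∈ flagGp G A, conjOp u δ = δ) :
    diag A B δ = 0 := by
  have hq := hs.toQHyp
  have hc := hcA A (self_mem_opSpace _)
  obtain ⟨t1, t2, t3⟩ := tri_of_commute h hc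
  obtain ⟨l1, l2⟩ := tri_left h hc
  set d : E := diag A B δ with hd
  have dA : ∀ X ∈ opSpace h.minA.1, d * X = X * d := by
    intro X hX
    obtain ⟨x1, x2⟩ := mem_opA_blocks h hX
    have e1 : d * X = A * B * δ * X := by
      rw [hd, diag]
      calc _ = (A * B * δ * (A * B) + eZ A B * δ * eZ A B + B * A * δ * (B * A)) * (A * B * X) := by rw [x1]
        _ = A * B * δ * (A * B * X) := by frame_simp h
        _ = A * B * δ * X := by rw [x1]
    have e2 : X * d = X * δ * (B * A) := by
      rw [hd, diag]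
      calc _ = X * (B * A) * (A * B * δ * (A * B) + eZ A B * δ * eZ A B + B * A * δ * (B * A)) := by rw [x2]
        _ = X * (B * A) * (δ * (B * A)) := by frame_simp h
        _ = X * δ * (B * A) := by rw [x2, mul_assoc]
    rw [e1, e2, mul_assoc _ δ X, ← hcA X hX, ← mul_assoc, x1, hcA X hX, mul_assoc, x2]
  have dB : d * B = B * d := by
    have e : B * (δ * (A * B)) = B * (A * δ) * B := by rw [hc]; simp only [mul_assoc]
    rw [hd, diag]
    have el : (A * B * δ * (A * B) + eZ A B * δ * eZ A B + B * A * δ * (B * A)) * B = B * (A * δ) * B := by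
      frame_simp h
    have er : B * (A * B * δ * (A * B) + eZ A B * δ * eZ A B + B * A * δ * (B * A)) = B * (δ * (A * B)) := by
      frame_simp h
    rw [el, er, e]
  have dsq : d * d = 0 := by
    have h2 : δ * δ = 0 := hD.1.1
    rw [hd, diag]
    have e1 : A * B * δ * (A * B) * (A * B * δ * (A * B)) = 0 := by
      rw [← l1]
      calc δ * (A * B) * (δ * (A * B)) = δ * (A * B * δ * (A * B)) := by simp only [mul_assoc]
        _ = δ * δ * (A * B) := by rw [← l1, mul_assoc]
        _ = 0 := by rw [h2, zero_mul]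
    have e3 : B * A * δ * (B * A) * (B * A * δ * (B * A)) = 0 := by
      rw [← l2]
      calc B * A * δ * (B * A * δ) = B * A * δ * (B * A) * δ := by simp only [mul_assoc]
        _ = B * A * (δ * δ) := by rw [← l2, mul_assoc]
        _ = 0 := by rw [h2, mul_zero]
    have e2 : eZ A B * δ * eZ A B * (eZ A B * δ * eZ A B) = 0 := by
      have e0 : eZ A B * δ * (A * B + eZ A B + B * A) * δ * eZ A B = 0 := by
        rw [eZ_add, mul_one, mul_assoc (eZ A B) δ δ, h2, mul_zero, zero_mul]
      have s1 : eZ A B * δ * (B * A) * δ * eZ A B = eZ A B * δ * (B * A * δ * eZ A B) := by simp only [mul_assoc]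
      rw [mul_add, mul_add, add_mul, add_mul, add_mul, add_mul, t2, zero_mul, zero_mul, zero_add, s1, t3, mul_zero,
        add_zero] at e0
      rw [← e0]; frame_simp h
    simp only [add_mul, mul_add, e1, e2, e3, zero_add, add_zero]
    frame_simp h
  have hhc : unip δ ∈ compGp G A := unip_mem_compGp hconn
  have hG : unip δ ∈ G := compGp_le h.minA hhc
  have hgB : Partner G A (conjOp (unip δ) B) := by
    refine ⟨h.minA, h.minB.conj hG, fun hn => (h.conj hG).partner.2.2 ?_⟩
    exact nilpotent_of_mem hq.two_ne hq.card_ne h.minA (h.minB.conj hG) hn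
      ((mem_stabOp_iff h.minA).1 hst).2 (self_mem_opSpace _)
  obtain ⟨C', hC, hC0, hfC⟩ := hq.exists_frame hgB
  obtain ⟨v, hv, hvK, hvC⟩ := exists_flag_conj hq.five hfC h (hq.opGroup_le_compGp h.minA .refl)
    (hq.opGroup_le_compGp h.minA hfC.partner.conn) (hq.opGroup_le_compGp h.minA h.partner.conn)
  set l : GLM := v * unip δ with hldef
  have hlA : l ∈ stabOp G A := mul_mem (flagGp_le_stabOp h.minA hv) hst
  have hlB : l ∈ stabOp G B := by
    refine (mem_stabOp_iff h.minB).2 ⟨hlA.1, ?_⟩
    rw [hldef, conjOp_comp]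
    have h0 : conjOp (unip δ) B ∈ opSpace hfC.minB.1 := by
      rw [opSpace_eq (h.minB.conj hG) hC hC0]; exact self_mem_opSpace _
    have := conjOp_mem_opSpace hfC.minB.1 hv.1 h0
    convert this using 2
    exact hvC.symm
  have hll : l ∈ lam G A B := ⟨⟨hlA, hlB⟩, mul_mem hvK hhc⟩
  have hlval : (l : E) = 1 + d := by
    obtain ⟨c1, c2, c3⟩ := lam_comm h hll
    obtain ⟨z1, z2, -⟩ := flag_zero h hv
    rw [mul_sub, mul_one, sub_eq_zero] at z1
    rw [sub_mul, one_mul, sub_eq_zero] at z2
    have hu : (l : E) = (v : E) * (1 + δ) := by rw [hldef, Units.val_mul, unip_val hD.1.1]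
    have hsplit : (l : E) = A * B * l * (A * B) + eZ A B * l * eZ A B + B * A * l * (B * A) := by
      conv_lhs => rw [← one_mul (l : E), ← eZ_add A B, add_mul, add_mul]
      rw [← c1, ← c2, ← c3]
      frame_simp h
    have b1 : A * B * (l : E) * (A * B) = A * B + A * B * δ * (A * B) := by
      calc A * B * (l : E) * (A * B) = A * B * (v : E) * (A * B + δ * (A * B)) := by
            rw [hu]; simp only [mul_assoc, add_mul, one_mul]
        _ = A * B * ((v : E) * (A * B)) + A * B * ((v : E) * (A * B)) * δ * (A * B) := by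
            rw [l1]; simp only [mul_add, mul_assoc]
        _ = A * B + A * B * δ * (A * B) := by rw [z2]; frame_simp h
    have b2 : eZ A B * (l : E) * eZ A B = eZ A B + eZ A B * δ * eZ A B := by
      calc eZ A B * (l : E) * eZ A B = (eZ A B + al A B v) * (eZ A B + δ * eZ A B) := by
            rw [hu, ← eZ_flag h hv]; simp only [mul_assoc, add_mul, one_mul]
        _ = eZ A B + eZ A B * δ * eZ A B + eZ A B * (v : E) * (B * A * δ * eZ A B) := by
            simp only [al]; frame_simp h; abel
        _ = eZ A B + eZ A B * δ * eZ A B := by rw [t3, mul_zero, add_zero]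
    have b3 : B * A * (l : E) * (B * A) = B * A + B * A * δ * (B * A) := by
      calc B * A * (l : E) * (B * A) = B * A * (v : E) * (B * A + δ * (B * A)) := by
            rw [hu]; simp only [mul_assoc, add_mul, one_mul]
        _ = B * A + B * A * δ * (B * A) := by rw [z1]; frame_simp h
    rw [hsplit, b1, b2, b3, hd, diag]
    conv_rhs => arg 1; rw [← eZ_add A B]
    abel
  have hul : unip d = l := Units.ext (by rw [hlval, unip_val dsq])
  have hcent : compGp G A ≤ Subgroup.centralizer {unip d} := by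
    refine compGp_le_of_gens hq h (fun u hu => ?_) ?_
    · rw [Subgroup.mem_centralizer_singleton_iff]
      obtain ⟨s, hs', sa, sb, sc, X, hX, rfl⟩ := exists_normal hq h hu
      rw [← sa, ← sb] at sc
      have hsd : (s : E) * δ = δ * s := conjOp_eq_iff.1 (hfix s hs'.1)
      have ka : al A B (s : E) * d = d * al A B (s : E) := by
        have e := congrArg (fun x => eZ A B * x * (B * A)) hsd
        have el : eZ A B * ((s : E) * δ) * (B * A) = eZ A B * δ * (B * A) + al A B (s : E) * d := by
          rw [← mul_assoc (eZ A B) (s : E) δ, eZ_flag h hs'.1, add_mul, add_mul, hd, diag]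
          simp only [al]; frame_simp h
        have er : eZ A B * (δ * (s : E)) * (B * A) = eZ A B * δ * (B * A) + d * al A B (s : E) := by
          rw [show eZ A B * (δ * (s : E)) * (B * A) = eZ A B * δ * ((s : E) * (B * A)) by simp only [mul_assoc],
            flag_blocks h hs'.1, hd, diag]
          have t2' : ∀ x : E, eZ A B * (δ * (A * (B * x))) = 0 := fun x => by
            calc eZ A B * (δ * (A * (B * x))) = eZ A B * δ * (A * B) * x := by simp only [mul_assoc]
              _ = 0 := by rw [t2, zero_mul]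
          simp only [al, be, ga]; frame_simp h
          try simp only [t2', mul_zero, add_zero]
        rw [el, er] at e
        exact add_left_cancel e
      have kb : be A B (s : E) * d = d * be A B (s : E) := by
        have e := congrArg (fun x => A * B * x * eZ A B) hsd
        have el : A * B * ((s : E) * δ) * eZ A B = A * B * δ * eZ A B + be A B (s : E) * d := by
          rw [← mul_assoc (A * B) (s : E) δ, eP_flag h hs'.1, hd, diag]
          have t3' : ∀ x : E, x * (B * (A * (δ * eZ A B))) = 0 := fun x => by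
            rw [show B * (A * (δ * eZ A B)) = B * A * δ * eZ A B by simp only [mul_assoc], t3, mul_zero]
          simp only [al, be, ga]; frame_simp h
          try simp only [t3', mul_zero, add_zero]
        have er : A * B * (δ * (s : E)) * eZ A B = A * B * δ * eZ A B + d * be A B (s : E) := by
          rw [show A * B * (δ * (s : E)) * eZ A B = A * B * δ * ((s : E) * eZ A B) by simp only [mul_assoc],
            flag_u_eZ h hs'.1, mul_add, hd, diag]
          simp only [be]; frame_simp h
        rw [el, er] at e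
        exact add_left_cancel e
      have kg : ga A B (s : E) * d = d * ga A B (s : E) := by
        rw [sc, smul_mul_assoc, mul_smul_comm, mul_assoc, ka, ← mul_assoc, kb, mul_assoc]
      have h1 : Commute ((unip X : GLM) : E) d := by
        rw [unip_val hX.1.1]; exact (Commute.one_left d).add_left (dA X hX).symm
      have h2 : Commute (s : E) d := by
        rw [flag_blocks h hs'.1]
        exact (((Commute.one_left d).add_left ka).add_left kb).add_left kg
      refine Units.ext ?_
      rw [Units.val_mul, Units.val_mul, Units.val_mul, unip_val dsq]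
      exact ((Commute.one_right _).add_right (h1.mul_left h2)).eq
    · rw [Subgroup.mem_centralizer_singleton_iff]
      refine Units.ext ?_
      rw [Units.val_mul, Units.val_mul, unip_val dsq, unip_val h.BB]
      simp only [mul_add, add_mul, one_mul, mul_one, dB]
      abel
  have hmem : unip d ∈ compGp G A := by rw [hul]; exact hll.2
  have hpow : unip d ^ p = 1 := Units.ext (by
    rw [Units.val_pow_eq_pow_val, unip_val dsq,
      one_add_pow_p (by have := hq.five; omega) (by rw [dsq, zero_mul]), Units.val_one])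
  have hbot := hs.eq_bot_of_normal (compGp_le h.minA) (fun g hg => hs.compGp_normal h.minA hg)
    (N := Subgroup.zpowers (unip d)) (fun x => ⟨1, by
      obtain ⟨k, hk⟩ := Subgroup.mem_zpowers_iff.1 x.2
      refine Subtype.ext ?_
      rw [Subgroup.coe_pow, Subgroup.coe_one, ← hk, pow_one, ← zpow_natCast, ← zpow_mul, mul_comm, zpow_mul,
        zpow_natCast, hpow, one_zpow]⟩)
    (Subgroup.zpowers_le.2 hmem) (fun g hg x hx => by
      obtain ⟨k, rfl⟩ := Subgroup.mem_zpowers_iff.1 hx
      have e := Subgroup.mem_centralizer_singleton_iff.1 (hcent hg)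
      rw [((Commute.zpow_right (e : Commute g (unip d))) k).eq, mul_inv_cancel_right]
      exact Subgroup.zpow_mem_zpowers _ k)
  rw [Subgroup.zpowers_eq_bot, unip_eq_one_iff dsq] at hbot
  exact hbot

/-- A flag operator that is fixed by the flag subgroup has no weight one part. -/
theorem weight_one_eq_zero (hδ : IsMinOp G δ) (hu : unip δ ∈ flagIn G A)
    (hfix : ∀ u ∈ flagGp G A, conjOp u δ = δ) : al A B (unip δ : E) + be A B (unip δ : E) = 0 := by
  have hq := hs.toQHyp
  have hp3 : 3 ≤ p := by have := hq.five; omega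
  set u : GLM := unip δ with hudef
  set α : E := al A B (u : E) with hα
  set β : E := be A B (u : E) with hβ
  set γ : E := ga A B (u : E) with hγ
  by_contra hX0
  set X : E := α + β with hXdef
  have hδv : δ = α + β + γ := by
    have := flag_blocks h hu.1
    rw [hudef, unip_val hδ.1.1, add_assoc (1 + _) _ _, add_assoc 1] at this
    rw [add_left_cancel this, hα, hβ, hγ, hudef, unip_val hδ.1.1]
    abel
  have hba : β * α = 0 := by
    have e := hδ.1.1
    rw [hδv] at e
    rw [← e, hα, hβ, hγ]
    simp only [al, be, ga]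
    frame_simp h
  have hγA : γ ∈ opSpace h.minA.1 := by
    have := gaN_mem hq h hu.1
    rwa [← hβ, ← hα, ← hγ, hba, smul_zero, sub_zero] at this
  have hXX : X * X = 0 := by
    rw [← hba, hXdef, hα, hβ]
    simp only [al, be]
    frame_simp h
  have hXu : unip X = (unip γ)⁻¹ * u := Units.ext (by
    rw [Units.val_mul, unip_inv_val hγA.1.1, hudef, unip_val hδ.1.1, unip_val hXX, hδv, hXdef, hα, hβ, hγ]
    simp only [al, be, ga]
    frame_simp h
    abel)
  have hγi : unip γ ∈ flagIn G A :=
    ⟨unip_mem_flagGp hp3 h.minA hγA, hq.opGroup_le_compGp h.minA .refl (unip_mem_opGroup hγA)⟩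
  have hXi : unip X ∈ flagIn G A := by rw [hXu]; exact mul_mem (inv_mem hγi) hu
  have hXop : X ∈ opSet G := by
    have := mem_opSet_of_sq (g := unip X) hXi.1.1 (by rw [unip_val hXX, add_sub_cancel_left]; exact hXX)
    rwa [unip_val hXX, add_sub_cancel_left] at this
  have hXfix : ∀ s ∈ flagGp G A, conjOp s X = X := by
    intro s hs'
    have e : conjOp s γ = γ := by
      obtain ⟨x1, x2⟩ := mem_opA_blocks h hγA
      have f1 := flag_mul_A hs'
      have f2 := flag_mul_A (inv_mem hs')
      have e0 : A * (B * γ * B) * A = γ := by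
        calc A * (B * γ * B) * A = A * B * γ * (B * A) := by simp only [mul_assoc]
          _ = γ := by rw [x1, x2]
      rw [conjOp_apply]
      conv_lhs => rw [← e0]
      calc (s : E) * (A * (B * γ * B) * A) * ((s⁻¹ : GLM) : E)
          = (s : E) * A * (B * γ * B) * (A * ((s⁻¹ : GLM) : E)) := by simp only [mul_assoc]
        _ = γ := by rw [f1.1, f2.2, e0]
    rw [show X = δ - γ by rw [hδv, hXdef]; abel, map_sub, hfix s hs', e]
  have hαZ : eZ A B * X = α ∧ X * eZ A B = β ∧ A * B * X = β ∧ X * (B * A) = α := by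
    rw [hXdef, hα, hβ]
    simp only [al, be]
    refine ⟨?_, ?_, ?_, ?_⟩ <;> frame_simp h
  -- `X` is minimal
  have hXm : IsMinOp G X := by
    refine ⟨hXop, hX0, fun Y hY hY0 => le_trans ?_ (h.minA.2.2 Y hY hY0)⟩
    rcases eq_or_ne γ 0 with e | hγ0
    · rw [show X = δ by rw [hδv, hXdef, e, add_zero]]
      exact (finrank_range_eq hδ h.minA).le
    have hd := finrank_range_eq hδ h.minA
    obtain ⟨hr, hk, -⟩ := geometry_of_mem h.minA hγA hγ0
    have eδ : δ * (B * A) = α + γ := by
      rw [hδv, hα, hβ, hγ]; simp only [al, be, ga]; frame_simp h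
    have hle : range (α + γ) ≤ range δ := by rw [← eδ]; exact range_comp_le_range _ _
    have eγ : A * B * (α + γ) = γ := by rw [hα, hγ]; simp only [al, ga]; frame_simp h
    have hrk : Module.finrank (ZMod p) (range A) ≤ Module.finrank (ZMod p) (range (α + γ)) := by
      calc Module.finrank (ZMod p) (range A) = Module.finrank (ZMod p) (range (A * B * (α + γ))) := by rw [eγ, hr]
        _ ≤ _ := by rw [Module.End.mul_eq_comp, range_comp]; exact Submodule.finrank_map_le _ _
    have heq : range (α + γ) = range δ := Submodule.eq_of_le_of_finrank_le hle (by omega)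
    have hcount := finrank_map_add (eZ A B) (range δ)
    have m1 : (range δ).map (eZ A B) = range α := by
      have e1 : eZ A B * (α + γ) = α := by rw [hα, hγ]; simp only [al, ga]; frame_simp h
      rw [← heq, ← range_comp, ← Module.End.mul_eq_comp, e1]
    have m2 : range β ≤ range δ ⊓ ker (eZ A B) := by
      refine le_inf ?_ (range_le_ker_iff.2 ?_)
      · have e1 : δ * eZ A B = β := by rw [hδv, hα, hβ, hγ]; simp only [al, be, ga]; frame_simp h
        rw [← e1]; exact range_comp_le_range _ _
      · rw [← Module.End.mul_eq_comp, hβ]; simp only [be]; frame_simp h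
    have m3 : range X ≤ range α ⊔ range β := by
      rintro _ ⟨v, rfl⟩
      rw [hXdef, LinearMap.add_apply]
      exact add_mem (Submodule.mem_sup_left ⟨v, rfl⟩) (Submodule.mem_sup_right ⟨v, rfl⟩)
    have i1 := Submodule.finrank_mono m3
    have i2 := Submodule.finrank_mono m2
    have i3 := Submodule.finrank_sup_add_finrank_inf_eq (range α) (range β)
    rw [m1] at hcount
    omega
  -- a partner negated by the involution of the torus
  obtain ⟨z, hz, hzv, hzz⟩ := exists_invol h
  have hzi : ((z⁻¹ : GLM) : E) = (z : E) := by rw [inv_eq_of_mul_eq_one_right hzz]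
  have hzX : conjOp z X = -X := by
    rw [conjOp_apply, hzi, hzv, hXdef, hα, hβ]
    simp only [al, be]
    frame_simp h
    abel
  obtain ⟨R, hR, hnR⟩ := hq.partner X hXm
  obtain ⟨f0, -, -, hf0⟩ := hq.exists_frame (⟨hXm, hR, hnR⟩ : Partner G X R)
  have hneg : ∀ {Y : E}, IsMinOp G Y → IsMinOp G (-Y) := fun {Y} hY =>
    (geometry_of_mem hY (neg_mem (self_mem_opSpace hY.1)) (neg_ne_zero.2 hY.2.1)).2.2
  have hzf : IsFrame G X (-(conjOp z f0)) := by
    have e := (hf0.conj hz).inv
    rw [hzX] at e
    refine ⟨hXm, hneg (hf0.minB.conj hz), ?_, ?_⟩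
    · have := e.1
      simp only [mul_neg, neg_mul, neg_neg] at this ⊢
      rw [this, neg_neg]
    · have := e.2
      simp only [mul_neg, neg_mul, neg_neg] at this ⊢
      exact neg_eq_iff_eq_neg.1 this
  obtain ⟨w, hw, hwf⟩ := exists_flag_conj_aux hq.five hf0 hzf
  have hzst : z ∈ stabOp G X :=
    (mem_stabOp_iff hXm).2 ⟨hz, by rw [hzX]; exact neg_mem (self_mem_opSpace _)⟩
  have hwz : z * w * z⁻¹ ∈ flagGp G X := flagGp_normal hzst hw hp3
  have hinv : z * w * z⁻¹ = w⁻¹ := by
    set t : GLM := z * w * z⁻¹ * w with ht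
    have htf : t ∈ flagGp G X := mul_mem hwz hw
    have hfix0 : conjOp t f0 = f0 := by
      rw [ht, conjOp_comp, hwf, map_neg, conjOp_comp, ← conjOp_comp z⁻¹ z, inv_mul_cancel,
        show conjOp (1 : GLM) f0 = f0 by simp [conjOp_apply], conjOp_comp, hwf, map_neg, ← conjOp_comp z z, hzz,
        show conjOp (1 : GLM) f0 = f0 by simp [conjOp_apply], neg_neg]
    have hXf : conjOp t (X * f0) = X * f0 ∧ conjOp t (f0 * X) = f0 * X := by
      rw [conjOp_mul, conjOp_mul, flag_conjOp htf, hfix0]; exact ⟨rfl, rfl⟩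
    have c1 := conjOp_eq_iff.1 hXf.1
    have c2 := conjOp_eq_iff.1 hXf.2
    have c3 : (t : E) * eZ X f0 = eZ X f0 * t := by simp only [eZ, mul_sub, sub_mul, mul_one, one_mul, c1, c2]
    have k1 : al X f0 (t : E) = 0 := by
      rw [al, ← c3]; frame_simp hf0
    have k2 : be X f0 (t : E) = 0 := by
      rw [be, ← c1]; frame_simp hf0
    have k3 : ga X f0 (t : E) = 0 := by
      rw [ga, ← c1]; frame_simp hf0
    have ht1 : t = 1 := Units.ext (by rw [flag_blocks hf0 htf, k1, k2, k3, Units.val_one]; abel)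
    exact eq_inv_of_mul_eq_one_left ht1
  set m := (p + 1) / 2
  have hm : m + m = p + 1 := by
    rcases (Fact.out : p.Prime).eq_two_or_odd with e | e <;> omega
  set v : GLM := w ^ m with hvdef
  have hvv : v * v = w := by rw [← pow_add, hm, pow_succ, flag_pow_p hp3 hw, one_mul]
  have hzv' : z * v = v⁻¹ * z := by
    have : SemiconjBy z w w⁻¹ := by
      show z * w = w⁻¹ * z
      rw [← hinv, inv_mul_cancel_right]
    have := this.pow_right m
    rw [inv_pow] at this
    exact this
  set f : E := conjOp v f0 with hf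
  have hvX : conjOp v X = X := flag_conjOp (pow_mem hw m)
  have hfX : IsFrame G X f := by
    have := hf0.conj (pow_mem hw m).1
    rwa [← hvdef, hvX] at this
  have hzfneg : conjOp z f = -f := by
    have hwf' : conjOp z f0 = -conjOp w f0 := by rw [hwf, neg_neg]
    rw [hf, ← conjOp_comp, hzv', conjOp_comp, hwf', map_neg, ← conjOp_comp, ← hvv, inv_mul_cancel_left]
  have hzf2 : (z : E) * f * (z : E) = -f := by rw [← hzfneg, conjOp_apply, hzi]
  have zz : (z : E) * (A * B) = -(A * B) ∧ A * B * (z : E) = -(A * B) ∧ (z : E) * (B * A) = -(B * A) ∧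
      B * A * (z : E) = -(B * A) ∧ (z : E) * eZ A B = eZ A B ∧ eZ A B * (z : E) = eZ A B := by
    rw [hzv]
    refine ⟨?_, ?_, ?_, ?_, ?_, ?_⟩ <;> frame_simp h
  obtain ⟨za, za', zb, zb', zc, zc'⟩ := zz
  have hodd : ∀ P Q : E, P * (z : E) * f * ((z : E) * Q) = P * f * Q → P * f * Q = 0 := fun P Q e => by
    refine two_smul_eq_zero hq.two_ne ?_
    conv_lhs => arg 1; rw [← e]
    rw [show P * (z : E) * f * ((z : E) * Q) = P * ((z : E) * f * (z : E)) * Q by simp only [mul_assoc], hzf2,
      mul_neg, neg_mul, neg_add_cancel]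
  have fPP : A * B * f * (A * B) = 0 := hodd _ _ (by rw [za', za]; simp)
  have fZZ : eZ A B * f * eZ A B = 0 := hodd _ _ (by rw [zc', zc])
  have fMM : B * A * f * (B * A) = 0 := hodd _ _ (by rw [zb', zb]; simp)
  have fMP : B * A * f * (A * B) = 0 := hodd _ _ (by rw [zb', za]; simp)
  have hAfA : A * f * A = 0 := by
    calc A * f * A = A * (B * A * f * (A * B)) * A := by frame_simp h
      _ = 0 := by rw [fMP]; simp
  have hfm : IsMinOp G f := hfX.minB
  have hnAf : IsNilpotent (pairSum A f) := by
    rw [isNilpotent_pairSum_iff h.AA hfm.1.1]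
    exact ⟨2, by rw [pow_two, ← mul_assoc, hAfA, zero_mul]⟩
  have hfAf : f * A * f = 0 := (triple_zero h.minA hfm hq.two_ne hnAf).2
  set Z : E := bracket A f with hZdef
  have hZop := bracket_mem_opSet h.minA.1 hfm.1 hAfA hfAf
  have hZflag : unip Z ∈ flagIn G A := by
    have hZ1 : ((unip Z : GLM) : E) - 1 = Z := by rw [unip_val hZop.1, add_sub_cancel_left]
    refine ⟨mem_flagGp hp3 (unip_mem hZop) ?_ ?_ ?_, ?_⟩
    · rw [hZ1, hZdef, bracket, mul_sub, ← mul_assoc, ← mul_assoc, h.AA, hAfA, zero_mul, sub_zero]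
    · rw [hZ1, hZdef, bracket, sub_mul, hAfA, mul_assoc, h.AA, mul_zero, sub_zero]
    · intro v' hv'
      rw [hZ1, hZdef, bracket, LinearMap.sub_apply, Module.End.mul_apply, Module.End.mul_apply, mem_ker.1 hv',
        map_zero, sub_zero]
      exact ⟨_, rfl⟩
    · rw [hZdef, ← commutator_unip h.AA hfm.1.1 hAfA hfAf]
      have hA' : unip A ∈ compGp G A := unip_mem_compGp .refl
      have := mul_mem hA' (hs.compGp_normal h.minA (unip_mem hfm.1) _ (inv_mem hA'))
      show _ ∈ compGp G A
      simpa only [mul_assoc] using this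
  have hXZ : X * Z = Z * X := by
    have e := conjOp_eq_iff.1 (hXfix _ hZflag.1)
    rw [unip_val hZop.1] at e
    simp only [add_mul, mul_add, one_mul, mul_one, add_right_inj] at e
    exact e.symm
  obtain ⟨hα1, hβ1, hβ2, hα2⟩ := hαZ
  have hXA : X * A = 0 ∧ A * X = 0 := by
    rw [hXdef, hα, hβ]; simp only [al, be]; constructor <;> frame_simp h
  have key : β * f * A = -(A * f * α) := by
    have e := congrArg (fun x => A * B * x * (B * A)) hXZ
    simp only [hZdef, bracket] at e
    have el : A * B * (X * (A * f - f * A)) * (B * A) = -(β * f * A) := by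
      rw [mul_sub X, ← mul_assoc X A f, hXA.1, zero_mul, zero_sub, mul_neg, neg_mul, ← mul_assoc (A * B) X, hβ2]
      frame_simp h
    have er : A * B * ((A * f - f * A) * X) * (B * A) = A * f * α := by
      rw [sub_mul, mul_assoc f A X, hXA.2, mul_zero, sub_zero, mul_assoc, mul_assoc (A * f) X, hα2]
      frame_simp h
    rw [el, er] at e
    rw [← e, neg_neg]
  have hfxf : X * f * X = X := hfX.ABA
  have hβfβ : β * f * β = β := by
    calc β * f * β = A * B * (X * f * X) * eZ A B := by
          rw [← mul_assoc, ← mul_assoc, hβ2, mul_assoc (β * f) X, hβ1]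
      _ = β := by rw [hfxf, hβ2, ← hβ2, mul_assoc, hβ1, ← hβ1, ← mul_assoc, hβ2, hβ]; exact be_eZ h _
  have hαfα : α * f * α = α := by
    calc α * f * α = eZ A B * (X * f * X) * (B * A) := by
          rw [show eZ A B * (X * f * X) * (B * A) = eZ A B * X * f * (X * (B * A)) by simp only [mul_assoc], hα1, hα2]
      _ = α := by rw [hfxf, hα1, hα]; exact al_eM h _
  have hP : β * f * (A * B) = -(A * f * (α * B)) := by
    rw [← mul_assoc, key, neg_mul, mul_assoc (A * f) α B]
  have hαM : α * (B * A) = α := by rw [hα]; exact al_eM h _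
  have hPid : β * f * (A * B) * (β * f * (A * B)) = β * f * (A * B) := by
    calc β * f * (A * B) * (β * f * (A * B)) = β * f * (A * B * β) * f * (A * B) := by simp only [mul_assoc]
      _ = β * f * β * f * (A * B) := by rw [hβ, eP_be h]
      _ = β * f * (A * B) := by rw [hβfβ]
  have hQid : A * f * (α * B) * (A * f * (α * B)) = A * f * (α * B) := by
    calc A * f * (α * B) * (A * f * (α * B)) = A * f * ((α * (B * A)) * f * α) * B := by simp only [mul_assoc]
      _ = A * f * (α * B) := by rw [hαM, hαfα, mul_assoc]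
  have hP0 : β * f * (A * B) = 0 := by
    refine two_smul_eq_zero hq.two_ne ?_
    nth_rewrite 1 [← hPid]
    rw [hP, neg_mul, mul_neg, neg_neg, hQid, add_neg_cancel]
  have hβ0 : β = 0 := by
    calc β = β * f * (A * B * β) := by rw [hβ, eP_be h, ← hβ, hβfβ]
      _ = β * f * (A * B) * β := by simp only [mul_assoc]
      _ = 0 := by rw [hP0, zero_mul]
  have hα0 : α = 0 := by
    have hQ0 : A * f * (α * B) = 0 := neg_eq_zero.1 (hP.symm.trans hP0)
    have hAfα : A * f * α = 0 := by
      calc A * f * α = A * f * (α * B) * A := by rw [mul_assoc _ (α * B), mul_assoc α B A, hαM]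
        _ = 0 := by rw [hQ0, zero_mul]
    calc α = α * (B * A) * f * α := by rw [hαM, hαfα]
      _ = α * B * (A * f * α) := by simp only [mul_assoc]
      _ = 0 := by rw [hAfα, mul_zero]
  exact hX0 (by rw [hXdef, hα0, hβ0, add_zero])

/-- An element normalising a `p`-group between the flag subgroup and the stabiliser stabilises. -/
theorem member_step (hUS : flagGp G A ≤ S) (hSA : S ≤ stabOp G A) (hg : g ∈ G)
    (hn : ∀ x ∈ S, g * x * g⁻¹ ∈ S) (hn' : ∀ x ∈ S, g⁻¹ * x * g ∈ S) : g ∈ stabOp G A := by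
  have hq := hs.toQHyp
  have hp3 : 3 ≤ p := by have := hq.five; omega
  refine (mem_stabOp_iff h.minA).2 ⟨hg, ?_⟩
  set D : E := conjOp g A with hDdef
  have hDm : IsMinOp G D := h.minA.conj hg
  have hconn : Conn G A D := hs.conn_conjOp hg h.minA
  by_contra hout
  have hopS : ∀ Y ∈ opSpace hDm.1, unip Y ∈ S := by
    intro Y hY
    have hY' : Y ∈ opSpace (conjOp_mem_opSet hg h.minA.1) := hY
    rw [opSpace_conj h.minA.1 hg] at hY'
    obtain ⟨X, hX, rfl⟩ := Submodule.mem_map.1 hY'
    show unip (conjOp g X) ∈ S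
    rw [← conjOp_unip g hX.1.1]
    exact hn _ (hUS (unip_mem_flagGp hp3 h.minA hX))
  have hSD : ∀ k ∈ S, ∀ Y ∈ opSpace hDm.1, conjOp k Y ∈ opSpace hDm.1 := by
    intro k hk Y hY
    refine conj_mem_space hDm hDm hY (hSA hk).1 ?_
    have h0 := ((mem_stabOp_iff h.minA).1 (hSA (hn' k hk))).2
    have h1 := conjOp_mem_opSpace h.minA.1 hg h0
    rw [← conjOp_comp, show g * (g⁻¹ * k * g) = k * g by group, conjOp_comp] at h1
    exact h1
  have hdisj : ∀ Y, Y ∈ opSpace h.minA.1 → Y ∈ opSpace hDm.1 → Y = 0 := by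
    intro Y hY hY'
    by_contra hY0
    refine hout ?_
    rw [← opSpace_eq h.minA hY hY0, opSpace_eq hDm hY' hY0]
    exact self_mem_opSpace _
  have bracket_in : ∀ {A' D' : E} (hA' : IsMinOp G A'), D' * D' = 0 →
      (∀ c : ZMod p, conjOp (unip (c • D')) A' ∈ opSpace hA'.1) → D' * A' - A' * D' ∈ opSpace hA'.1 := by
    intro A' D' hA' hD' hc
    have := Submodule.smul_mem _ (2 : ZMod p)⁻¹ (sub_mem (hc 1) (hc (-1)))
    convert this using 1
    rw [conjOp_unip_val (smul_sq hD' _), conjOp_unip_val (smul_sq hD' _), eq_inv_smul_iff₀ hq.two_ne, two_smul]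
    simp only [one_smul, neg_smul, neg_mul, mul_neg, neg_neg]
    abel
  have hcomm0 : bracket A D = 0 := by
    refine hdisj _ ?_ ?_
    · have := bracket_in h.minA hDm.1.1 fun c => by
        have := ((mem_stabOp_iff h.minA).1 (hSA (hopS _ (Submodule.smul_mem _ c (self_mem_opSpace _))))).2
        exact this
      rw [bracket, ← neg_sub (D * A)]
      exact neg_mem this
    · exact bracket_in hDm h.AA fun c => hSD _ (hUS (unip_mem_flagGp hp3 h.minA
        (Submodule.smul_mem _ c (self_mem_opSpace _)))) _ (self_mem_opSpace _)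
  have hnil : IsNilpotent (pairSum A D) := by
    rw [isNilpotent_pairSum_iff h.AA hDm.1.1]
    have : A * D = D * A := sub_eq_zero.1 hcomm0
    exact ⟨2, by rw [pow_two, mul_assoc, ← mul_assoc D A, ← this, mul_assoc A D D, hDm.1.1, mul_zero, mul_zero]⟩
  have hcX : ∀ Y ∈ opSpace hDm.1, ∀ X ∈ opSpace h.minA.1, X * Y = Y * X := fun Y hY X hX =>
    all_commute hq.two_ne hq.card_ne h.minA hDm hnil hcomm0 hX hY
  have hUD : ∀ u ∈ flagGp G A, ∀ Y ∈ opSpace hDm.1, conjOp u Y - Y ∈ opSpace hDm.1 ∧
      diag A B (conjOp u Y - Y) = 0 := by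
    intro u hu Y hY
    refine ⟨sub_mem (hSD u (hUS hu) Y hY) hY, ?_⟩
    have e := diag_conj h (hcX Y hY A (self_mem_opSpace _)) hu
    simp only [diag] at e
    simp only [diag, mul_sub, sub_mul]
    rw [← sub_eq_zero] at e
    rw [← e]
    abel
  have hflag : ∀ Y ∈ opSpace hDm.1, diag A B Y = 0 → unip Y ∈ flagIn G A := by
    intro Y hY hd
    obtain ⟨a1, a2, a3⟩ := mem_flag_of_diag h (hcX Y hY A (self_mem_opSpace _)) hd
    have e : ((unip Y : GLM) : E) - 1 = Y := by rw [unip_val hY.1.1, add_sub_cancel_left]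
    refine ⟨mem_flagGp hp3 (unip_mem hY.1) (by rw [e]; exact a1) (by rw [e]; exact a2) (by rw [e]; exact a3), ?_⟩
    rcases eq_or_ne Y 0 with e0 | hY0
    · rw [e0, unip_zero]; exact one_mem _
    exact unip_mem_compGp (hconn.trans' (hq.conn_mem hDm hY hY0))
  by_cases hcase : ∃ Y ∈ opSpace hDm.1, Y ≠ 0 ∧ diag A B Y = 0
  · obtain ⟨Y, hY, hY0, hd⟩ := hcase
    have hYm := (geometry_of_mem hDm hY hY0).2.2
    have hYflag := hflag Y hY hd
    have hfix : ∀ u ∈ flagGp G A, conjOp u Y = Y := by
      intro u hu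
      obtain ⟨m1, -⟩ := hUD u hu Y hY
      refine sub_eq_zero.1 (hdisj _ ?_ m1)
      have hconj : unip (conjOp u Y) = u * unip Y * u⁻¹ := (conjOp_unip u hY.1.1).symm
      have hflag' : unip (conjOp u Y) ∈ flagGp G A := by rw [hconj]; exact mul_mem (mul_mem hu hYflag.1) (inv_mem hu)
      obtain ⟨e1, e2, -⟩ := blocks_mul h (mul_mem hu hYflag.1) (inv_mem hu)
      obtain ⟨f1, f2, -⟩ := blocks_mul h hu hYflag.1
      obtain ⟨g1, g2⟩ := blocks_inv h hu
      rw [← hconj, f1, g1, add_neg_cancel_comm] at e1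
      rw [← hconj, f2, g2, add_neg_cancel_comm] at e2
      have ev : conjOp u Y - Y = ga A B (unip (conjOp u Y) : E) - ga A B (unip Y : E) := by
        have a := flag_blocks h hflag'
        have b := flag_blocks h hYflag.1
        rw [e1, e2] at a
        calc conjOp u Y - Y = ((unip (conjOp u Y) : GLM) : E) - ((unip Y : GLM) : E) := by
              rw [unip_val (conjOp_mem_opSet hu.1 hY.1).1, unip_val hY.1.1]; abel
          _ = (1 + al A B (unip Y : E) + be A B (unip Y : E) + ga A B (unip (conjOp u Y) : E)) -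
                (1 + al A B (unip Y : E) + be A B (unip Y : E) + ga A B (unip Y : E)) := by rw [← a, ← b]
          _ = _ := by abel
      refine ⟨m1.1, ?_, ?_⟩
      · rw [ev, ga, ga]
        rintro _ ⟨v, rfl⟩
        simp only [LinearMap.sub_apply, Module.End.mul_apply]
        exact sub_mem ⟨_, rfl⟩ ⟨_, rfl⟩
      · intro v hv
        rw [ev, ga, ga, mem_ker]
        simp only [LinearMap.sub_apply, Module.End.mul_apply, mem_ker.1 hv, map_zero, sub_self]
    have hw := weight_one_eq_zero hs h hYm hYflag hfix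
    obtain ⟨v1, v2⟩ := vec_blocks h (unip Y)
    rw [hw, mul_zero] at v1
    rw [hw, zero_mul] at v2
    have hγ := gaN_mem hq h hYflag.1
    rw [← v1, mul_zero, smul_zero, sub_zero] at hγ
    refine hY0 (hdisj Y ?_ hY)
    have e := flag_blocks h hYflag.1
    rw [← v1, ← v2, unip_val hY.1.1, add_zero, add_zero, add_right_inj] at e
    rw [e]
    rw [← unip_val hY.1.1]
    exact hγ
  · push Not at hcase
    refine hcase D (self_mem_opSpace _) hDm.2.1 (diag_eq_zero_of_fixed hs h hDm hconn
      (hSA (hopS _ (self_mem_opSpace _))) (fun X hX => hcX D (self_mem_opSpace _) X hX) fun u hu => ?_)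
    obtain ⟨m1, m2⟩ := hUD u hu D (self_mem_opSpace _)
    by_contra hne
    exact hcase _ m1 (sub_ne_zero.2 hne) m2

end Step

/-- The stabiliser of the space of a minimal operator contains a Sylow `p`-subgroup. -/
theorem QSys.exists_sylow_le_stabOp (hs : QSys G) (hA : IsMinOp G A) :
    ∃ P : Sylow p ↥G, (P : Subgroup ↥G).map G.subtype ≤ stabOp G A := by
  have hq := hs.toQHyp
  have hp3 : 3 ≤ p := by have := hq.five; omega
  haveI : Finite M := Module.finite_of_finite (ZMod p)
  haveI : Finite GLM := Finite.of_injective (fun g : GLM => ((g : E) : M → M))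
    (DFunLike.coe_injective.comp Units.val_injective)
  obtain ⟨R, hR, hnR⟩ := hq.partner A hA
  obtain ⟨B, -, -, h⟩ := hq.exists_frame (⟨hA, hR, hnR⟩ : Partner G A R)
  obtain ⟨S, ⟨hS1, hS2, hS3⟩, hmax⟩ := wellFounded_gt.has_min
    {T : Subgroup GLM | flagGp G A ≤ T ∧ T ≤ stabOp G A ∧ IsPGroup p T}
    ⟨flagGp G A, le_rfl, flagGp_le_stabOp hA, isPGroup_flagGp hp3⟩
  have hSG : S ≤ G := hS2.trans stabOp_le
  have hS' : IsPGroup p (S.subgroupOf G) := hS3.comap_subtype
  obtain ⟨P, hP⟩ := hS'.exists_le_sylow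
  refine ⟨P, ?_⟩
  set T : Subgroup GLM := (P : Subgroup ↥G).map G.subtype with hTdef
  have hST : S ≤ T := fun x hx => ⟨⟨x, hSG hx⟩, hP hx, rfl⟩
  have hTp : IsPGroup p T := P.2.map _
  rcases eq_or_lt_of_le hST with e | hlt
  · rw [← e]; exact hS2
  exfalso
  haveI : Group.IsNilpotent ↥T := hTp.isNilpotent
  have hlt' : S.subgroupOf T < ⊤ := lt_top_iff_ne_top.2 fun e =>
    hlt.not_ge (Subgroup.subgroupOf_eq_top.1 e)
  obtain ⟨g, hgN, hgS⟩ := SetLike.exists_of_lt (Group.normalizerCondition_of_isNilpotent _ hlt')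
  have hgT : (g : GLM) ∈ T := g.2
  have hgG : (g : GLM) ∈ G := by obtain ⟨y, -, e⟩ := hgT; rw [← e]; exact y.2
  have hn : ∀ x ∈ S, (g : GLM) * x * (g : GLM)⁻¹ ∈ S := fun x hx =>
    (Subgroup.mem_normalizer_iff.1 hgN ⟨x, hST hx⟩).1 hx
  have hn' : ∀ x ∈ S, (g : GLM)⁻¹ * x * (g : GLM) ∈ S := fun x hx => by
    have := (Subgroup.mem_normalizer_iff.1 (inv_mem hgN) ⟨x, hST hx⟩).1 hx
    simpa [Subgroup.mem_subgroupOf] using this
  have hgA := member_step hs h hS1 hS2 hgG hn hn'
  have hle : S ⊔ Subgroup.zpowers (g : GLM) ≤ T := sup_le hST (Subgroup.zpowers_le.2 hgT)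
  refine hmax (S ⊔ Subgroup.zpowers (g : GLM))
    ⟨hS1.trans le_sup_left, sup_le hS2 (Subgroup.zpowers_le.2 hgA), hTp.to_le hle⟩ ?_
  refine lt_of_le_of_ne le_sup_left fun e => hgS ?_
  show (g : GLM) ∈ S
  rw [e]
  exact Subgroup.mem_sup_right (Subgroup.mem_zpowers _)

end CfsgLib.Flavell
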