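import Cfsg.Agent.Lib.Flavell.QuadK
import Cfsg.Agent.Lib.FGS.LinearPGroupLength

/-!
Tools for the last step: fixed vectors of `p`-subgroups, the simple constituents of a class group, and the
invariant subspace generated by a subspace of `range A`.
-/

set_option autoImplicit false

namespace CfsgLib.Flavell

open CfsgLib.QuadPair LinearMap

universe u

variable {p : ℕ} [Fact p.Prime] {M : Type u} [AddCommGroup M] [Module (ZMod p) M]

local notation "GLM" => LinearMap.GeneralLinearGroup (ZMod p) M
local notation "E" => Module.End (ZMod p) M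

variable {G Q : Subgroup (LinearMap.GeneralLinearGroup (ZMod p) M)} {A B X Y : Module.End (ZMod p) M}
  {u s g l : LinearMap.GeneralLinearGroup (ZMod p) M}

theorem apply_inv_apply (g : GLM) (v : M) : (g : E) (((g⁻¹ : GLM) : E) v) = v := by
  rw [← Module.End.mul_apply, Units.mul_inv, Module.End.one_apply]

theorem inv_apply_apply (g : GLM) (v : M) : ((g⁻¹ : GLM) : E) ((g : E) v) = v := by
  rw [← Module.End.mul_apply, Units.inv_mul, Module.End.one_apply]

theorem InvUnder.mono {H : Subgroup GLM} (h : H ≤ G) {W : Submodule (ZMod p) M} (hW : InvUnder G W) : InvUnder H W :=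
  fun g hg v hv => hW g (h hg) v hv

/-- The stabiliser of a subspace. -/
def stabSub (W : Submodule (ZMod p) M) [FiniteDimensional (ZMod p) M] : Subgroup GLM where
  carrier := {g | W.map (g : E) = W}
  one_mem' := by simp [Module.End.one_eq_id]
  mul_mem' := fun {a b} ha hb => by
    show W.map ((a * b : GLM) : E) = W
    rw [Units.val_mul, Module.End.mul_eq_comp, Submodule.map_comp, show W.map (b : E) = W from hb]
    exact ha
  inv_mem' := fun {a} ha => by
    show W.map ((a⁻¹ : GLM) : E) = W
    conv_lhs => rw [← show W.map (a : E) = W from ha, ← Submodule.map_comp, ← Module.End.mul_eq_comp, Units.inv_mul,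
      Module.End.one_eq_id, Submodule.map_id]

variable [FiniteDimensional (ZMod p) M]

theorem mem_stabSub_of_map_le {W : Submodule (ZMod p) M} (h : ∀ v ∈ W, (g : E) v ∈ W) : g ∈ stabSub W := by
  refine Submodule.eq_of_le_of_finrank_eq (Submodule.map_le_iff_le_comap.2 h) ?_
  exact ((Submodule.equivMapOfInjective _ (fun a b e => by
    simpa [inv_apply_apply] using congrArg ((g⁻¹ : GLM) : E) e) W).finrank_eq).symm

theorem apply_mem_of_stabSub {W : Submodule (ZMod p) M} (h : g ∈ stabSub W) {v : M} (hv : v ∈ W) : (g : E) v ∈ W :=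
  (h : W.map (g : E) = W) ▸ Submodule.mem_map_of_mem hv

theorem invUnder_iff {H : Subgroup GLM} {W : Submodule (ZMod p) M} : InvUnder H W ↔ H ≤ stabSub W :=
  ⟨fun h g hg => mem_stabSub_of_map_le (h g hg), fun h _g hg _v hv => apply_mem_of_stabSub (h hg) hv⟩

/-- A `p`-group fixes a nonzero vector of each nonzero invariant subspace. -/
theorem exists_fixed_in (hQ : IsPGroup p Q) {W : Submodule (ZMod p) M} (hW : W ≠ ⊥) (hinv : InvUnder Q W) :
    ∃ v ∈ W, v ≠ 0 ∧ ∀ e ∈ Q, (e : E) v = v := by
  haveI : Finite M := Module.finite_of_finite (ZMod p)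
  haveI : Finite GLM := Finite.of_injective (fun g : GLM => ((g : E) : M → M))
    (DFunLike.coe_injective.comp Units.val_injective)
  let f : ↥Q →* Module.End (ZMod p) ↥W :=
    { toFun := fun e => LinearMap.restrict (e.1 : E) (hinv e.1 e.2)
      map_one' := LinearMap.ext fun v => Subtype.ext (by simp)
      map_mul' := fun a b => LinearMap.ext fun v => Subtype.ext (by simp [Module.End.mul_apply]) }
  haveI := Submodule.nontrivial_iff_ne_bot.2 hW
  obtain ⟨v, hv, hfix⟩ := CfsgLib.FGS.LinearPLength.exists_fixedMod hQ f ⊥ (fun g v hv => by simp [(Submodule.mem_bot _).1 hv])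
    bot_ne_top ⊤
  refine ⟨v, v.2, fun e => hv (by rw [Submodule.mem_bot]; exact Subtype.ext e), fun e he => ?_⟩
  have := hfix ⟨e, he⟩ trivial
  rw [Submodule.mem_bot, sub_eq_zero] at this
  exact congrArg Subtype.val this

/-- A minimal invariant subspace. -/
def IsSimpleInv (H : Subgroup GLM) (W : Submodule (ZMod p) M) : Prop :=
  W ≠ ⊥ ∧ InvUnder H W ∧ ∀ W', InvUnder H W' → W' ≤ W → W' = ⊥ ∨ W' = W

/-- The simple constituents of a class group span. -/
theorem QSys.iSup_simple (hs : QSys G) (hA : IsMinOp G A) :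
    ⨆ W ∈ {W | IsSimpleInv (compGp G A) W}, W = ⊤ := by
  set S : Submodule (ZMod p) M := ⨆ W ∈ {W | IsSimpleInv (compGp G A) W}, W with hS
  have hSG : InvUnder G S := by
    intro g hg v hv
    have hle : S ≤ S.comap (g : E) := by
      conv_lhs => rw [hS]
      refine iSup₂_le fun W hW => Submodule.map_le_iff_le_comap.1 ?_
      have hinj : Function.Injective (g : E) := fun a b e => by
        simpa [inv_apply_apply] using congrArg ((g⁻¹ : GLM) : E) e
      refine le_trans le_rfl (le_iSup₂ (f := fun W (_ : W ∈ {W | IsSimpleInv (compGp G A) W}) => W)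
        (W.map (g : E)) ⟨?_, ?_, ?_⟩)
      · intro e
        exact hW.1 (Submodule.map_injective_of_injective hinj (e.trans (Submodule.map_bot _).symm))
      · rintro c hc _ ⟨w, hw, rfl⟩
        refine ⟨((g⁻¹ * c * g : GLM) : E) w, hW.2.1 _ ?_ w hw, ?_⟩
        · have := hs.compGp_normal hA (inv_mem hg) c hc
          rwa [inv_inv] at this
        · simp only [Units.val_mul, Module.End.mul_apply, apply_inv_apply]
      · intro W' hW' hle
        have hW'' : InvUnder (compGp G A) (W'.comap (g : E)) := by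
          intro c hc w hw
          rw [Submodule.mem_comap] at hw ⊢
          have := hW' (g * c * g⁻¹) (hs.compGp_normal hA hg c hc) _ hw
          simpa only [Units.val_mul, Module.End.mul_apply, inv_apply_apply] using this
        have hsurj : Function.Surjective (g : E) := fun v => ⟨_, apply_inv_apply g v⟩
        rcases hW.2.2 _ hW'' (by
          rw [← Submodule.comap_map_eq_of_injective hinj W]; exact Submodule.comap_mono hle) with e | e
        · left
          rw [← Submodule.map_comap_eq_of_surjective hsurj W', e, Submodule.map_bot]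
        · right
          rw [← Submodule.map_comap_eq_of_surjective hsurj W', e]
    exact hle hv
  obtain ⟨W', hW', hc⟩ := hs.ss S hSG
  have : W' = ⊥ := by
    by_contra hne
    obtain ⟨W, ⟨hWi, hWne, hWle⟩, hmin⟩ := wellFounded_lt.has_min
      {W | InvUnder (compGp G A) W ∧ W ≠ ⊥ ∧ W ≤ W'} ⟨W', hW'.mono (compGp_le hA), hne, le_rfl⟩
    have hsimple : IsSimpleInv (compGp G A) W := ⟨hWne, hWi, fun W'' h1 h2 => by
      by_contra hcon
      push Not at hcon
      exact hmin W'' ⟨h1, hcon.1, h2.trans hWle⟩ (lt_of_le_of_ne h2 hcon.2)⟩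
    exact hWne (le_bot_iff.1 (hc.inf_eq_bot ▸ le_inf
      (le_iSup₂ (f := fun W (_ : W ∈ {W | IsSimpleInv (compGp G A) W}) => W) W hsimple) hWle))
  rw [← hc.sup_eq_top, this, sup_bot_eq]

section Frame

variable (hq : QHyp G) (h : IsFrame G A B)
include hq h

/-- A subgroup with the flag elements and `1 + B` contains the class group. -/
theorem compGp_le_of_gens {K : Subgroup GLM} (hU : flagIn G A ≤ K) (hB : unip B ∈ K) :
    compGp G A ≤ K := by
  have hp3 : 3 ≤ p := by have := hq.five; omega
  have hA : opGroup h.minA.1 ≤ K := fun g hg =>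
    hU ⟨opGroup_le_flagGp hp3 h.minA hg, hq.opGroup_le_compGp h.minA .refl hg⟩
  refine (hq.compGp_induction h hA ?_ hU).1
  intro g hg
  obtain ⟨Y, hY, rfl⟩ := mem_opGroup.1 hg
  have hw : weyl A B ∈ K := by
    unfold weyl
    exact mul_mem (mul_mem (hA (unip_mem_opGroup (self_mem_opSpace _))) (inv_mem hB))
      (hA (unip_mem_opGroup (self_mem_opSpace _)))
  have hwG : weyl A B ∈ G := weyl_mem h.minA.1 h.minB.1
  have hX : conjOp (weyl A B)⁻¹ Y ∈ opSpace h.minA.1 :=
    conj_mem_space h.minB h.minA hY (inv_mem hwG) (by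
      rw [conjOp_weyl_inv_right h]; exact neg_mem (self_mem_opSpace _))
  have := mul_mem (mul_mem hw (hA (unip_mem_opGroup hX))) (inv_mem hw)
  rw [conjOp_unip _ hX.1.1, ← conjOp_comp, mul_inv_cancel] at this
  simpa [conjOp_apply] using this

theorem gaB_mem_spanP (hu : u ∈ flagIn G A) : ga A B u * B ∈ spanP G A B := by
  have h1 := kk_le_spanP hq h (mul_B_mem_kk h (gaN_mem hq h hu.1))
  have h2 := Submodule.smul_mem _ (2 : ZMod p)⁻¹ (kLemma_diag hq h hu).1
  have := add_mem h1 h2
  rwa [sub_mul, smul_mul_assoc, sub_add_cancel] at this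

/-- The class-invariant subspace generated by a stable subspace of `range A`. -/
theorem exists_generated {J : Submodule (ZMod p) M} (hJA : J ≤ range A)
    (hst : ∀ l ∈ lam G A B, ∀ j ∈ J, (l : E) j ∈ J) :
    ∃ W, InvUnder (compGp G A) W ∧ J ≤ W ∧ (∀ v ∈ W, (A * B) v ∈ J) ∧
      W = J ⊔ Submodule.span (ZMod p) {w | ∃ u ∈ flagIn G A, ∃ j ∈ J, w = ((u : E) * B) j} := by
  have fixJ : ∀ j ∈ J, (A * B) j = j := fun j hj => by
    obtain ⟨w, rfl⟩ := hJA hj
    rw [← Module.End.mul_apply, h.ABA]
  have hP : ∀ x ∈ spanP G A B, ∀ j ∈ J, x j ∈ J := by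
    intro x hx
    induction hx using Submodule.span_induction with
    | mem x hx =>
      obtain ⟨l, hl, rfl⟩ := hx
      intro j hj
      rw [Module.End.mul_apply, fixJ j hj, Module.End.mul_apply, fixJ _ (hst l hl j hj)]
      exact hst l hl j hj
    | zero => intro j _; simp
    | add y z _ _ hy hz => intro j hj; rw [LinearMap.add_apply]; exact add_mem (hy j hj) (hz j hj)
    | smul c y _ hy => intro j hj; rw [LinearMap.smul_apply]; exact Submodule.smul_mem _ c (hy j hj)
  set Wg : Submodule (ZMod p) M :=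
    Submodule.span (ZMod p) {w | ∃ u ∈ flagIn G A, ∃ j ∈ J, w = ((u : E) * B) j} with hWg
  refine ⟨J ⊔ Wg, ?_, le_sup_left, ?_, rfl⟩
  · have hfix : ∀ u ∈ flagIn G A, ∀ j ∈ J, (u : E) j = j := fun u hu j hj => by
      obtain ⟨w, rfl⟩ := hJA hj
      rw [← Module.End.mul_apply, (flag_mul_A hu.1).1]
    refine invUnder_iff.2 (compGp_le_of_gens hq h (fun u hu => mem_stabSub_of_map_le ?_) (mem_stabSub_of_map_le ?_))
    · have : J ⊔ Wg ≤ (J ⊔ Wg).comap (u : E) := by
        refine sup_le (fun j hj => ?_) (Submodule.span_le.2 ?_)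
        · rw [Submodule.mem_comap, hfix u hu j hj]; exact Submodule.mem_sup_left hj
        · rintro _ ⟨s, hs, j, hj, rfl⟩
          refine Submodule.mem_sup_right (Submodule.subset_span ⟨u * s, mul_mem hu hs, j, hj, ?_⟩)
          rw [Units.val_mul, mul_assoc]; rfl
      exact fun v hv => this hv
    · have hBJ : ∀ j ∈ J, B j ∈ Wg := fun j hj =>
        Submodule.subset_span ⟨1, one_mem _, j, hj, by rw [Units.val_one, one_mul]⟩
      have : J ⊔ Wg ≤ (J ⊔ Wg).comap (unip B : E) := by
        refine sup_le (fun j hj => ?_) (Submodule.span_le.2 ?_)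
        · rw [Submodule.mem_comap, unip_val h.BB, LinearMap.add_apply, Module.End.one_apply]
          exact add_mem (Submodule.mem_sup_left hj) (Submodule.mem_sup_right (hBJ j hj))
        · rintro _ ⟨s, hs, j, hj, rfl⟩
          rw [SetLike.mem_coe, Submodule.mem_comap, unip_val h.BB, LinearMap.add_apply, Module.End.one_apply]
          refine add_mem (Submodule.mem_sup_right (Submodule.subset_span ⟨s, hs, j, hj, rfl⟩))
            (Submodule.mem_sup_right ?_)
          have e : B * ((s : E) * B) = B * (ga A B s * B) := by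
            simp only [ga]; frame_simp h
          rw [← Module.End.mul_apply, e, Module.End.mul_apply]
          exact hBJ _ (hP _ (gaB_mem_spanP hq h hs) j hj)
      exact fun v hv => this hv
  · intro v hv
    have : J ⊔ Wg ≤ J.comap (A * B : E) := by
      refine sup_le (fun j hj => ?_) (Submodule.span_le.2 ?_)
      · rw [Submodule.mem_comap, fixJ j hj]; exact hj
      · rintro _ ⟨s, hs, j, hj, rfl⟩
        rw [SetLike.mem_coe, Submodule.mem_comap, ← Module.End.mul_apply]
        have e : A * B * ((s : E) * B) = ga A B s * B := by simp only [ga]; frame_simp h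
        rw [e]
        exact hP _ (gaB_mem_spanP hq h hs) j hj
    exact this hv

omit hq in
theorem frame_idem_eq (hX : X ∈ opSpace h.minA.1) (hY : Y ∈ opSpace h.minB.1) (hinv : IsInvPair X Y) (hX0 : X ≠ 0) :
    X * Y = A * B := by
  obtain ⟨-, y2⟩ := mem_opA_blocks h.symm hY
  have hr := (geometry_of_mem h.minA hX hX0).1
  refine LinearMap.ext fun v => ?_
  obtain ⟨w, hw⟩ : A (B v) ∈ range X := by rw [hr]; exact ⟨_, rfl⟩
  calc (X * Y) v = (X * (Y * (A * B))) v := by rw [y2]
    _ = X (Y (A (B v))) := rfl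
    _ = (X * Y * X) w := by rw [← hw]; rfl
    _ = X w := by rw [hinv.1]
    _ = (A * B) v := by rw [hw]; rfl

/-- The span lemma with `B` replaced by any member of its space. -/
theorem alYbe_mem_spanZ (hu : u ∈ flagIn G A) (hs : s ∈ flagIn G A) (hY : Y ∈ opSpace h.minB.1) :
    al A B u * Y * be A B s + al A B s * Y * be A B u ∈ spanZ G A B := by
  rcases eq_or_ne Y 0 with rfl | hY0
  · simp
  have hYm := (geometry_of_mem h.minB hY hY0).2.2
  obtain ⟨X, hX, hX0, hXm, hinv⟩ := exists_inverse hq.two_ne hq.card_ne hYm h.minA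
    (not_nilpotent_of_inv h.minB h.minA h.symm.inv hY hY0 (self_mem_opSpace _) h.minA.2.1)
  have hf : IsFrame G X Y := ⟨hXm, hYm, hinv.symm⟩
  have e1 : X * Y = A * B := frame_idem_eq h hX hY hinv.symm hX0
  have e2 : Y * X = B * A := frame_idem_eq h.symm hY hX hinv hY0
  have e3 : eZ X Y = eZ A B := by simp only [eZ, e1, e2]
  have hflag : ∀ {g : GLM}, g ∈ flagIn G A → g ∈ flagIn G X := by
    intro g hg
    obtain ⟨x1, x2⟩ := mem_opA_blocks h hX
    obtain ⟨hr, hk, -⟩ := geometry_of_mem h.minA hX hX0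
    refine ⟨mem_flagGp (by have := hq.five; omega) hg.1.1 ?_ ?_ ?_, ?_⟩
    · rw [← x2, mul_assoc, mul_assoc, hg.1.2.1.1, mul_zero, mul_zero]
    · rw [← x1, ← mul_assoc, ← mul_assoc, hg.1.2.1.2.1, zero_mul, zero_mul]
    · rw [hr, hk]; exact hg.1.2.1.2.2
    · rw [compGp_eq_of_conn (hq.conn_mem h.minA hX hX0)]; exact hg.2
  have := albe_mem_spanZ hq hf (hflag hu) (hflag hs)
  have e4 : spanZ G X Y = spanZ G A B := by
    simp only [spanZ, lam, e3, stabOp_congr h.minA hX hX0, stabOp_congr h.minB hY hY0,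
      compGp_eq_of_conn (hq.conn_mem h.minA hX hX0)]
  simp only [al, be, e1, e2, e3, e4] at this
  exact this

end Frame

end CfsgLib.Flavell
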