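import Cfsg.Agent.Lib.Flavell.QuadBasic

/-!
Two frames with the same first member `A`: an element of the flag subgroup of `A` carries the second member of
one to the second member of the other.  It is found from the two involutions `z`, `z'` of the tori and from the
two tori once `z = z'`.
-/

set_option autoImplicit false

namespace CfsgLib.Flavell

open CfsgLib.QuadPair LinearMap

universe u

variable {p : ℕ} [Fact p.Prime] {M : Type u} [AddCommGroup M] [Module (ZMod p) M]

local notation "GLM" => LinearMap.GeneralLinearGroup (ZMod p) M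
local notation "E" => Module.End (ZMod p) M

variable {G K : Subgroup (LinearMap.GeneralLinearGroup (ZMod p) M)} {A B B' X : Module.End (ZMod p) M}

theorem natCast_ne_zero_of_lt {n : ℕ} (h0 : 0 < n) (h : n < p) : (n : ZMod p) ≠ 0 := by
  intro e
  have := Nat.le_of_dvd h0 ((ZMod.natCast_eq_zero_iff n p).1 e)
  omega

theorem opSet_mono (hK : K ≤ G) (h : X ∈ opSet K) : X ∈ opSet G := ⟨h.1, fun c => hK (h.2 c)⟩

variable [FiniteDimensional (ZMod p) M]

theorem IsFrame.restrict (h : IsFrame G A B) (hK : K ≤ G) (hA : opGroup h.minA.1 ≤ K) (hB : opGroup h.minB.1 ≤ K) :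
    IsFrame K A B :=
  ⟨⟨⟨h.AA, fun c => hA (unip_mem_opGroup (Submodule.smul_mem _ c (self_mem_opSpace _)))⟩, h.minA.2.1,
      fun Y hY => h.minA.2.2 Y (opSet_mono hK hY)⟩,
    ⟨⟨h.BB, fun c => hB (unip_mem_opGroup (Submodule.smul_mem _ c (self_mem_opSpace _)))⟩, h.minB.2.1,
      fun Y hY => h.minB.2.2 Y (opSet_mono hK hY)⟩, h.inv⟩

omit [FiniteDimensional (ZMod p) M] in
theorem flagGp_mono (hK : K ≤ G) : flagGp K A ≤ flagGp G A := fun _ h => ⟨hK h.1, h.2⟩

/-- The involution of the torus. -/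
theorem exists_invol (h : IsFrame G A B) :
    ∃ z ∈ G, (z : E) = eZ A B - A * B - B * A ∧ z * z = 1 := by
  obtain ⟨z, hz, hzv, -⟩ := exists_tor h (c := -1) (neg_ne_zero.2 one_ne_zero)
  have hv : (z : E) = eZ A B - A * B - B * A := by
    rw [hzv, inv_neg, inv_one]; simp only [neg_smul, one_smul]; abel
  refine ⟨z, hz, hv, Units.ext ?_⟩
  rw [Units.val_mul, hv, Units.val_one, ← eZ_add A B]
  frame_simp h
  abel

theorem exists_flag_conj_aux (hp : 5 ≤ p) (h : IsFrame G A B) (h' : IsFrame G A B') :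
    ∃ u ∈ flagGp G A, conjOp u B = B' := by
  have hp3 : 3 ≤ p := by omega
  have h2 : (2 : ZMod p) ≠ 0 := by exact_mod_cast natCast_ne_zero_of_lt (n := 2) two_pos (by omega)
  have h3 : (3 : ZMod p) ≠ 0 := by exact_mod_cast natCast_ne_zero_of_lt (n := 3) three_pos (by omega)
  obtain ⟨z, hz, hzv, hzz⟩ := exists_invol h
  obtain ⟨w, hw, hwv, hww⟩ := exists_invol h'
  have zA : ∀ {C : E} {y : GLM}, IsFrame G A C → (y : E) = eZ A C - A * C - C * A →
      (y : E) * A = -A ∧ A * (y : E) = -A ∧ ∀ v ∈ ker A, ((y : E) - 1) v ∈ range A := by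
    intro C y hC hy
    refine ⟨by rw [hy]; frame_simp hC; done, by rw [hy]; frame_simp hC; done, fun v hv => ⟨-(C v) - C v, ?_⟩⟩
    rw [mem_ker] at hv
    rw [hy]
    simp [eZ, hv]
    abel
  obtain ⟨z1, z2, z3⟩ := zA h hzv
  obtain ⟨w1, w2, w3⟩ := zA h' hwv
  set n : GLM := z * w with hn
  have hnflag : n ∈ flagGp G A := by
    refine mem_flagGp hp3 (mul_mem hz hw) ?_ ?_ fun v hv => ?_
    · rw [hn, Units.val_mul, mul_sub, mul_one, ← mul_assoc, z2, neg_mul, w2, neg_neg, sub_self]
    · rw [hn, Units.val_mul, sub_mul, one_mul, mul_assoc, w1, mul_neg, z1, neg_neg, sub_self]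
    · have e : ((z * w : GLM) : E) - 1 = ((z : E) - 1) * (w : E) + ((w : E) - 1) := by
        rw [Units.val_mul]; noncomm_ring
      rw [hn, e, LinearMap.add_apply, Module.End.mul_apply]
      refine add_mem (z3 _ ?_) (w3 v hv)
      rw [mem_ker] at hv ⊢
      rw [← Module.End.mul_apply, w2, LinearMap.neg_apply, hv, neg_zero]
  have hnp : n ^ p = 1 := flag_pow_p hp3 hnflag
  set m := (p + 1) / 2
  have hm : m + m = p + 1 := by
    rcases (Fact.out : p.Prime).eq_two_or_odd with e | e <;> omega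
  set d : GLM := n ^ m
  have hdd : d * d = n := by rw [← pow_add, hm, pow_succ, hnp, one_mul]
  have hzd : z * d = d⁻¹ * z := by
    have hni : n⁻¹ = w * z := by
      rw [inv_eq_iff_mul_eq_one, hn, mul_assoc, ← mul_assoc w, hww, one_mul, hzz]
    have : SemiconjBy z n n⁻¹ := by
      show z * n = n⁻¹ * z
      rw [hni, hn, ← mul_assoc, hzz, one_mul, mul_assoc, hzz, mul_one]
    have := this.pow_right m
    rw [inv_pow] at this
    exact this
  set u0 : GLM := d⁻¹ with hu0
  have hu0f : u0 ∈ flagGp G A := inv_mem (pow_mem hnflag m)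
  have hu0z : u0 * z * u0⁻¹ = w := by
    rw [hu0, inv_inv, mul_assoc, hzd, ← mul_assoc, ← mul_inv_rev, hdd, hn, mul_inv_rev,
      inv_eq_of_mul_eq_one_right hww, inv_eq_of_mul_eq_one_right hzz, mul_assoc, hzz, mul_one]
  set C : E := conjOp u0 B with hC
  have hcA : conjOp u0 A = A := flag_conjOp hu0f
  have h1 : IsFrame G A C := ⟨h.minA, h.minB.conj hu0f.1, by
    constructor
    · conv_lhs => rw [← hcA]
      rw [hC, ← conjOp_mul, ← conjOp_mul, h.ABA, hcA]
    · conv_lhs => rw [← hcA]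
      rw [hC, ← conjOp_mul, ← conjOp_mul, h.BAB]⟩
  have hsum : A * C + C * A = A * B' + B' * A := by
    have e : conjOp u0 ((z : E)) = (w : E) := by
      rw [conjOp_apply, ← Units.val_mul, ← Units.val_mul, hu0z]
    have ez : (z : E) = 1 - (2 : ZMod p) • (A * B + B * A) := by
      rw [hzv, eZ, two_smul]; abel
    have ew : (w : E) = 1 - (2 : ZMod p) • (A * B' + B' * A) := by
      rw [hwv, eZ, two_smul]; abel
    rw [ez, ew, map_sub, conjOp_one, map_smul, map_add, conjOp_mul, conjOp_mul, hcA, sub_right_inj] at e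
    exact smul_right_injective E h2 e
  have he : eZ A B' = eZ A C := by
    simp only [eZ, sub_sub, hsum]
  set φ : E := A * C - A * B' with hφ
  set ψ : E := A * (C * (B' * A)) with hψ
  have k1 : ∀ x : E, eZ A C * (B' * x) = 0 := fun x => by rw [← he, mul_eZ_B h']
  have k2 : A * (C * eZ A C) = 0 := by rw [B_eZ h1, mul_zero]
  have k3 : C * (A * eZ A C) = 0 := by rw [A_eZ h1, mul_zero]
  have prod : ∀ a b : ZMod p, a * b = 1 →
      (eZ A C + a • (A * C) + b • (C * A)) * (eZ A B' + b • (A * B') + a • (B' * A)) =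
        eZ A C + A * B' + (a * a) • ψ + C * A := by
    intro a b hab
    rw [he]
    simp only [add_mul, mul_add, smul_mul_assoc, mul_smul_comm, mul_assoc, eZ_idem h1, mul_eZ_A h1, k1, k2, k3,
      mul_ABA h1, mul_AA h1, ABA' h', mul_zero, smul_zero, smul_add, add_zero, zero_add, smul_smul, hab, mul_comm b a, one_smul, hψ]
    abel
  have one1 : ∀ C' : E, eZ A C' + A * C' + C' * A = 1 := fun C' => by rw [← eZ_add A C']; abel
  have hψφ : ψ = φ := by
    have e := prod 1 1 (one_mul 1)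
    simp only [one_smul, mul_one] at e
    rw [one1, one1, one_mul] at e
    calc ψ = (eZ A C + A * B' + ψ + C * A) - eZ A C - A * B' - C * A := by abel
      _ = 1 - eZ A C - A * B' - C * A := by rw [← e]
      _ = φ := by rw [hφ, ← one1 C]; abel
  obtain ⟨t, ht, htv, -⟩ := exists_tor h1 h2
  obtain ⟨t', ht', -, htv'⟩ := exists_tor h' h2
  set g : GLM := t * t'⁻¹
  have hg : (g : E) - 1 = (3 : ZMod p) • φ := by
    rw [Units.val_mul, htv, htv', prod 2 2⁻¹ (mul_inv_cancel₀ h2), hψφ, ← eZ_add A C, hφ,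
      show (2 : ZMod p) * 2 = 3 + 1 by norm_num, add_smul, one_smul]
    abel
  have hφφ : φ * φ = 0 := by
    rw [← hψφ, hψ]
    simp only [mul_assoc, mul_AA h, mul_zero]
  have hφop : φ ∈ opSet G := by
    have := smul_mem_opSet (mem_opSet_of_sq (g := g) (mul_mem ht (inv_mem ht'))
      (by rw [hg]; exact smul_sq hφφ _)) (3 : ZMod p)⁻¹
    rwa [hg, smul_smul, inv_mul_cancel₀ h3, one_smul] at this
  have hφmem : φ ∈ opSpace h.minA.1 := by
    refine ⟨hφop, ?_, ?_⟩
    · rw [← hψφ, hψ]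
      exact range_comp_le_range _ _
    · intro v hv
      rw [mem_ker] at hv ⊢
      rw [← hψφ, hψ]
      simp [hv]
  refine ⟨unip φ * u0, mul_mem (unip_mem_flagGp hp3 h.minA hφmem) hu0f, ?_⟩
  have hBA : C * A + φ = B' * A := by
    rw [hφ, show C * A + (A * C - A * B') = A * C + C * A - A * B' by abel, hsum]; abel
  have j1 : φ * (C * A) = φ := by
    rw [← hψφ, hψ]; simp only [mul_assoc, mul_ABA h1]
    rw [ABA' h1]
  have j2 : A * (C * φ) = φ := by
    rw [← hψφ, hψ]; simp only [mul_ABA h1]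
  rw [conjOp_comp, ← hC, conjOp_apply, unip_val hφφ, unip_inv_val hφφ]
  have l1 : (1 + φ) * C = B' * (A * C) := by
    conv_lhs => rw [← h1.BAB, ← mul_assoc, add_mul, one_mul, j1, hBA]
    rw [mul_assoc]
  rw [l1, mul_assoc, mul_sub, mul_one, mul_assoc, j2,
    show A * C - φ = A * B' by rw [hφ]; abel, ← mul_assoc, h'.BAB]

/-- An element of `K ∩ flagGp G A` carries `B` to `B'`. -/
theorem exists_flag_conj (hp : 5 ≤ p) (h : IsFrame G A B) (h' : IsFrame G A B')
    (hA : opGroup h.minA.1 ≤ K) (hB : opGroup h.minB.1 ≤ K) (hB' : opGroup h'.minB.1 ≤ K) :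
    ∃ u ∈ flagGp G A, u ∈ K ∧ conjOp u B = B' := by
  have i1 := h.restrict (K := K ⊓ G) inf_le_right (le_inf hA (opGroup_le _)) (le_inf hB (opGroup_le _))
  have i2 := h'.restrict (K := K ⊓ G) inf_le_right (le_inf hA (opGroup_le _)) (le_inf hB' (opGroup_le _))
  obtain ⟨u, hu, he⟩ := exists_flag_conj_aux hp i1 i2
  exact ⟨u, flagGp_mono inf_le_right hu, hu.1.1, he⟩

end CfsgLib.Flavell
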