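import Cfsg.Agent.Lib.Flavell.Wrapper
import Cfsg.Agent.Lib.Cores.Layer

/-!
The two statements, assuming the quadratic statement on irreducible modules.
-/

set_option autoImplicit false
set_option linter.style.haveILetI false

namespace CfsgLib.Flavell

open Subgroup Cfsg CfsgLib.OpFitCoprime

universe u

variable {X : Type u} [Group X] [Finite X] {p : ℕ} [hp : Fact p.Prime]

theorem coprimeAct {G R : Subgroup X} {r : ℕ} [Fact r.Prime] (hR : IsPGroup r ↥R)
    (hcop : (Nat.card ↥G).Coprime r) (hnorm : R ≤ normalizer (G : Set X)) : CoprimeAct G R :=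
  ⟨hnorm, by
    obtain ⟨n, hn⟩ := IsPGroup.iff_card.1 hR
    rw [hn]; exact hcop.symm.pow_left n, by
    haveI := hR.isNilpotent
    infer_instance⟩

theorem exists_characteristic_normal (hkey : QuadKey.{u} p) (G R : Subgroup X) (r : ℕ) [Fact r.Prime]
    (hR : IsPGroup r ↥R) (hcop : (Nat.card ↥G).Coprime r) (hnorm : R ≤ normalizer (G : Set X)) (hG : G ≠ ⊥)
    (hF : generalizedFittingSubgroup ↥G = pCore p ↥G) :
    ∃ C : Subgroup ↥(invCore p G R), C.Characteristic ∧ C ≠ ⊥ ∧
      G ≤ normalizer ((C.map (invCore p G R).subtype : Subgroup X) : Set X) := by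
  have hact := coprimeAct hR hcop hnorm
  refine ⟨kInfLower ↥(invCore p G R),
    characteristic_iff_map_eq.2 fun φ => (Techniques.KSeq.map_kInf_equiv φ).1, ?_, ?_⟩
  · refine (Techniques.KSeq.isCharPFunctor_kInfLower p).1 _ (isPGroup_invCore hact) ?_
    rw [Subgroup.nontrivial_iff_ne_bot]
    haveI : Nontrivial ↥G := (Subgroup.nontrivial_iff_ne_bot G).2 hG
    intro hbot
    refine CfsgLib.Cores.generalizedFittingSubgroup_ne_bot (G := ↥G) ?_
    rw [hF, ← map_eq_bot_iff_of_injective _ G.subtype_injective, ← le_bot_iff, ← hbot]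
    exact le_invCore hact (pRad_le p G) isPGroup_pRad (le_normalizer_pRad hnorm)
      (inf_le_left.trans (le_normalizer_pRad le_normalizer))
  · refine kInfNormal hkey G R r hR hcop hnorm fun x hx hxT hxp => ?_
    have hc : x ∈ centralizer (fitStar G : Set X) := by
      rw [fitStar, hF]; exact hxT
    obtain ⟨y, hy, rfl⟩ := mem_fitStar_of_centralizes hx hc
    rw [hF] at hy
    obtain ⟨k, hk⟩ := IsPGroup.iff_orderOf.1 (CfsgLib.Cores.isPGroup_pCore (G := ↥G) p) ⟨y, hy⟩
    rw [Subgroup.orderOf_mk] at hk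
    rw [coe_subtype, Subgroup.orderOf_coe, hk] at hxp
    have h1 : orderOf y = 1 := by
      rcases k with _ | k
      · simpa using hk
      · exact (hp.out.ne_one (Nat.eq_one_of_dvd_coprimes hxp (dvd_pow_self p k.succ_ne_zero) dvd_rfl)).elim
    rw [orderOf_eq_one_iff.1 h1, map_one]
    exact one_mem _

theorem residual_le_centralizer (hkey : QuadKey.{u} p) (hp2 : p ≠ 2) (G R : Subgroup X) (r : ℕ) [Fact r.Prime]
    (hR : IsPGroup r ↥R) (hcop : (Nat.card ↥G).Coprime r) (hnorm : R ≤ normalizer (G : Set X))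
    (hab : IsMulCommutative ↥R) (hnc : ¬ IsCyclic ↥R)
    (hloc : ∀ a ∈ R, a ≠ 1 → R ≤ centralizer ((((pResidual p ↥(generalizedFittingSubgroup ↥(G ⊓ centralizer ({a} : Set X)))).map (generalizedFittingSubgroup ↥(G ⊓ centralizer ({a} : Set X))).subtype).map (G ⊓ centralizer ({a} : Set X)).subtype : Subgroup X) : Set X)) :
    R ≤ centralizer ((((pResidual p ↥(generalizedFittingSubgroup ↥G)).map (generalizedFittingSubgroup ↥G).subtype).map G.subtype : Subgroup X) : Set X) := by
  have h : Setup p G R :=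
    ⟨coprimeAct hR hcop hnorm,
      fun a ha b hb => congrArg Subtype.val (IsMulCommutative.is_comm.comm (⟨a, ha⟩ : R) ⟨b, hb⟩),
      hnc, hp2, fun a ha ha1 => by rw [← opFit_eq_map]; exact hloc a ha ha1⟩
  rw [opFit_eq_map]
  exact h.main hR hcop (kInfNormal hkey)

end CfsgLib.Flavell
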