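import Cfsg.Agent.Lib.Flavell.ChiefRep
import Cfsg.Agent.Lib.OpFitCoprime.Main
import Cfsg.Agent.Lib.PGroup.KInfBelow
import Cfsg.Agent.Lib.Transfer.Critical

/-!
From the quadratic statement on irreducible modules: the lower K-infinity subgroup of the
intersection of the `R`-invariant Sylow `p`-subgroups is normal.
-/

set_option autoImplicit false
set_option linter.unusedSectionVars false
set_option linter.style.haveILetI false

namespace CfsgLib.Flavell

open Subgroup Cfsg CfsgLib.OpFitCoprime
open scoped commutatorElement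

universe u

variable {p : ℕ} [hp : Fact p.Prime]

theorem normal_in_sup {Y : Type u} [Group Y] [Finite Y] (hkey : QuadKey.{u} p) {G R : Subgroup Y}
    [G.Normal] (hGR : G ⊔ R = ⊤) {r : ℕ} [Fact r.Prime] (hR : IsPGroup r R) (hcop : (Nat.card G).Coprime r)
    (hrp : r ≠ p)
    (hC : ∀ x ∈ G, x ∈ centralizer (pRad p G : Set Y) → (orderOf x).Coprime p → x ∈ centralizer (G : Set Y)) :
    (inducedFunctor kInfLower (invCore p G R)).Normal := by
  have hact : CoprimeAct G R := ⟨by rw [normalizer_eq_top]; exact le_top, by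
    obtain ⟨n, hn⟩ := IsPGroup.iff_card.1 hR
    rw [hn]; exact hcop.symm.pow_left n, by
    haveI := hR.isNilpotent
    infer_instance⟩
  set P := invCore p G R
  set T := pCore p Y
  haveI hTc := CfsgLib.Cores.pCore_characteristic (G := Y) p
  have hTp : IsPGroup p T := CfsgLib.Cores.isPGroup_pCore p
  -- `p`-subgroups lie in `G`
  have hTG : T ≤ G := by
    intro x hx
    obtain ⟨k, hk⟩ := hTp ⟨x, hx⟩
    have hk' : x ^ p ^ k = 1 := by simpa using congrArg Subtype.val hk
    have hxGR : x ∈ ((G ⊔ R : Subgroup Y) : Set Y) := by rw [hGR]; exact mem_top x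
    rw [coe_mul_of_right_le_normalizer_left G R hact.norm] at hxGR
    obtain ⟨a, ha, b, hb, rfl⟩ := hxGR
    have e1 : (QuotientGroup.mk' G (a * b)) = QuotientGroup.mk' G b := by
      rw [map_mul, show QuotientGroup.mk' G a = 1 from (QuotientGroup.eq_one_iff a).2 ha, one_mul]
    obtain ⟨n, hn⟩ := hR ⟨b, hb⟩
    have hn' : b ^ r ^ n = 1 := by simpa using congrArg Subtype.val hn
    have h1 : QuotientGroup.mk' G (a * b) ^ p ^ k = 1 := by rw [← map_pow, hk', map_one]
    have h2 : QuotientGroup.mk' G (a * b) ^ r ^ n = 1 := by rw [e1, ← map_pow, hn', map_one]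
    have h3 := pow_gcd_eq_one.2 ⟨h1, h2⟩
    rw [Nat.Coprime.gcd_eq_one (Nat.Coprime.pow k n ((Nat.coprime_primes hp.out Fact.out).2 (Ne.symm hrp))),
      pow_one] at h3
    exact (QuotientGroup.eq_one_iff _).1 h3
  have hTP : T ≤ P := le_invCore hact hTG hTp (by rw [normalizer_eq_top]; exact le_top)
    (by rw [normalizer_eq_top]; exact le_top)
  obtain ⟨H, hHc, -, hcomm, hCH⟩ := CfsgLib.Transfer.exists_critical hTp
  let f := T.subtype
  have hf : Function.Injective f := Subtype.coe_injective
  set A := H.map f with hA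
  have hAT : A ≤ T := map_subtype_le H
  have hAof : A.subgroupOf T = H := comap_map_eq_self_of_injective hf H
  have hAchar : (A.subgroupOf T).Characteristic := by rw [hAof]; exact hHc
  haveI hAn : A.Normal := Techniques.Chief.normal_of_characteristic_subgroupOf hAT hAchar
  have hA3 : ⁅T, A⁆ ≤ A ⊓ centralizer (A : Set Y) := by
    have htop : T = (⊤ : Subgroup ↥T).map f := by
      rw [← MonoidHom.range_eq_map, range_subtype]
    rw [Subgroup.commutator_comm, ← Techniques.KSeq.map_inf_centralizer hf H]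
    conv_lhs => rw [htop, hA, ← Subgroup.map_commutator]
    exact Subgroup.map_mono hcomm
  have hA2 : ⁅A, A⁆ ≤ centralizer (A : Set Y) :=
    ((commutator_mono hAT le_rfl).trans hA3).trans inf_le_right
  have hA5 : ∀ φ : MulAut ↥T, (orderOf φ).Coprime p → (∀ a : ↥T, (a : Y) ∈ A → φ a = a) → φ = 1 :=
    fun φ hφ h => CfsgLib.Transfer.aut_eq_one_of_fix_normal hTp H hCH φ hφ
      fun x hx => h x (mem_map_of_mem f hx)
  -- an element of `P` trivial on all chief factors below `A` lies in `T`
  have hfac : True → ∀ g ∈ P, g ∉ T →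
      ∃ U V : Subgroup Y, IsChiefFactor U V ∧ U ≤ A ∧ ¬ ⁅U, zpowers g⁆ ≤ V := by
    intro _ g hg hgT
    by_contra hno
    push Not at hno
    refine hgT ?_
    set K := Techniques.Chief.chiefKer A
    have hgK : g ∈ K := fun U V hUV hUA u hu =>
      hno U V hUV hUA (commutator_mem_commutator hu (mem_zpowers g))
    haveI hKn : K.Normal := ⟨fun x hx y U V hUV hUA u hu => by
      have hu' : y⁻¹ * u * y ∈ U := by simpa using hUV.2.1.conj_mem u hu y⁻¹
      have := hUV.2.2.1.conj_mem _ (hx U V hUV hUA _ hu') y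
      rwa [show y * ⁅y⁻¹ * u * y, x⁆ * y⁻¹ = ⁅u, y * x * y⁻¹⁆ by
        simp only [commutatorElement_def]; group] at this⟩
    set N := K ⊓ G
    have hp' : ∀ x ∈ N, (orderOf x).Coprime p → x ∈ centralizer (G : Set Y) := by
      intro x hx hxp
      have hxA := Techniques.Chief.centralizes_of_coprime (hTp.to_le hAT) hx.1 hxp
      have hφ : (MulAut.conjNormal x : MulAut ↥T) = 1 := by
        refine hA5 _ (Nat.Coprime.coprime_dvd_left (orderOf_map_dvd _ x) hxp) fun a ha => Subtype.ext ?_
        rw [MulAut.conjNormal_apply, ← mem_centralizer_iff.1 hxA _ ha, mul_inv_cancel_right]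
      refine hC x hx.2 (mem_centralizer_iff.2 fun t ht => ?_) hxp
      have htT : t ∈ T := by
        haveI : (pRad p G).Normal := normalizer_eq_top_iff.1 (top_le_iff.1
          (le_normalizer_pRad (by rw [normalizer_eq_top])))
        exact CfsgLib.Cores.le_pCore isPGroup_pRad ht
      have := congrArg (fun φ : MulAut ↥T => ((φ ⟨t, htT⟩ : ↥T) : Y)) hφ
      simp only [MulAut.conjNormal_apply, MulAut.one_apply] at this
      exact (mul_inv_eq_iff_eq_mul.1 this).symm
    have hnil : Group.IsNilpotent N := isNilpotent_of_pPrime_central (p := p) fun x hx hxp =>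
      centralizer_le inf_le_right (hp' x hx hxp)
    obtain ⟨k, hk⟩ := IsPGroup.iff_orderOf.1 (isPGroup_invCore hact) ⟨g, hg⟩
    rw [Subgroup.orderOf_mk] at hk
    have hgp := mem_pRad_of_nilpotent (H := (⊤ : Subgroup Y)) (N := N) le_top
      (by rw [normalizer_eq_top]) hnil ⟨hgK, invCore_le hact hg⟩ hk
    haveI : (pRad p (⊤ : Subgroup Y)).Normal := normalizer_eq_top_iff.1 (top_le_iff.1
      (le_normalizer_pRad le_normalizer))
    exact CfsgLib.Cores.le_pCore isPGroup_pRad hgp
  rcases CfsgLib.PGroup.KInfBelow.kInf_below_normal_or_exists_of_factor P hTP A hAT hAchar hA2 hA3 hA5 hfac with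
    h | ⟨g, hgP, hgT, -, -, hfac'⟩
  · exact h.1
  exfalso
  obtain ⟨U, V, hUV, hUA, hq, hnt⟩ := hfac' trivial
  refine hnt (trivial_on_chief hkey hGR hR hcop (invCore_le hact) (isPGroup_invCore hact)
    (le_normalizer_invCore hact) (fixed_le_normalizer_invCore hact) ?_ hUV (hTp.to_le (hUA.trans hAT)) hgP hq)
  intro K hKG hKn x hx
  exact CfsgLib.Solvable.exists_mul_mem_centralizer R K (by rw [normalizer_eq_top]; exact le_top)
    (hact.cop.coprime_dvd_right (card_dvd_of_le hKG)) (Or.inl hact.solv) x hx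

theorem kInfNormal (hkey : QuadKey.{u} p) : KInfNormal.{u} p := by
  intro X _ _ G R r hr hR hcop hnorm hC
  have hact : CoprimeAct G R := ⟨hnorm, by
    obtain ⟨n, hn⟩ := IsPGroup.iff_card.1 hR
    rw [hn]; exact hcop.symm.pow_left n, by
    haveI := hR.isNilpotent
    infer_instance⟩
  by_cases hPbot : invCore p G R = ⊥
  · have : inducedFunctor kInfLower (invCore p G R) = ⊥ := le_bot_iff.1 ((map_subtype_le _).trans hPbot.le)
    rw [this, normalizer_eq_top]; exact le_top
  have hrp : r ≠ p := by
    rintro rfl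
    obtain ⟨k, hk⟩ := IsPGroup.iff_card.1 (isPGroup_invCore (p := r) hact)
    have hk0 : k ≠ 0 := fun h0 => hPbot (Subgroup.card_eq_one.1 (by rw [hk, h0, pow_zero]))
    have : r ∣ Nat.card G := (hk ▸ dvd_pow_self r hk0 : r ∣ Nat.card (invCore r G R)).trans
      (card_dvd_of_le (invCore_le hact))
    exact hr.out.ne_one (Nat.eq_one_of_dvd_coprimes hcop this dvd_rfl)
  set Y := G ⊔ R
  set G' := G.subgroupOf Y
  set R' := R.subgroupOf Y
  haveI : G'.Normal := (normal_subgroupOf_iff_le_normalizer le_sup_left).2 (sup_le le_normalizer hnorm)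
  have hGR' : G' ⊔ R' = ⊤ := by
    rw [← Subgroup.subgroupOf_sup le_sup_left le_sup_right, Subgroup.subgroupOf_self]
  have hmapG : G'.map Y.subtype = G := map_subgroupOf_eq_of_le le_sup_left
  have hmapR : R'.map Y.subtype = R := map_subgroupOf_eq_of_le le_sup_right
  have hC' : ∀ x ∈ G', x ∈ centralizer (pRad p G' : Set Y) → (orderOf x).Coprime p →
      x ∈ centralizer (G' : Set Y) := by
    intro x hx hxT hxp
    have hxT' : (x : X) ∈ centralizer (pRad p G : Set X) := by
      refine mem_centralizer_iff.2 fun t ht => ?_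
      have htG : t ∈ G := pRad_le p G ht
      have h1 : (pRad p G).subgroupOf Y ≤ pRad p G' := le_pRad
        (isPGroup_pRad.of_equiv (subgroupOfEquivOfLe ((pRad_le p G).trans le_sup_left)).symm)
        (fun s hs => pRad_le p G hs) (fun g hg => mem_normalizer_iff.2 fun s =>
          mem_normalizer_iff.1 (le_normalizer_pRad (H := G) le_normalizer (show (g : X) ∈ G from hg)) (s : X))
      exact congrArg Subtype.val (mem_centralizer_iff.1 hxT (⟨t, le_sup_left (b := R) htG⟩ : Y) (h1 ht))
    refine mem_centralizer_iff.2 fun y hy => Subtype.ext ?_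
    exact mem_centralizer_iff.1 (hC x hx hxT' (by rwa [Subgroup.orderOf_coe])) (y : X) hy
  have hn := normal_in_sup (p := p) hkey hGR' (hR.of_equiv (subgroupOfEquivOfLe le_sup_right).symm)
    (by rw [Nat.card_congr (subgroupOfEquivOfLe (le_sup_left : G ≤ Y)).toEquiv]; exact hcop) hrp hC'
  -- transfer
  have hact' : CoprimeAct G' R' := ⟨by rw [normalizer_eq_top]; exact le_top, by
    rw [Nat.card_congr (subgroupOfEquivOfLe (le_sup_left : G ≤ Y)).toEquiv,
      Nat.card_congr (subgroupOfEquivOfLe (le_sup_right : R ≤ Y)).toEquiv]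
    exact hact.cop, by
    haveI := (hR.of_equiv (subgroupOfEquivOfLe (le_sup_right : R ≤ Y)).symm).isNilpotent
    infer_instance⟩
  have hnY : ∀ {A Q : Subgroup Y}, A ≤ normalizer (Q : Set Y) →
      A.map Y.subtype ≤ normalizer ((Q.map Y.subtype : Subgroup X) : Set X) := fun h =>
    (map_mono h).trans (le_normalizer_map _)
  have hPeq : (invCore p G' R').map Y.subtype = invCore p G R := by
    refine le_antisymm (le_invCore hact ((map_mono (invCore_le hact')).trans hmapG.le)
      ((isPGroup_invCore hact').map _) (hmapR.ge.trans (hnY (le_normalizer_invCore hact'))) ?_) ?_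
    · intro g hg
      refine hnY (fixed_le_normalizer_invCore hact') ⟨⟨g, le_sup_left (b := R) hg.1⟩, ⟨hg.1, ?_⟩, rfl⟩
      exact mem_centralizer_iff.2 fun y hy => Subtype.ext (mem_centralizer_iff.1 hg.2 (y : X) hy)
    · intro x hx
      refine ⟨⟨x, le_sup_left (b := R) (invCore_le hact hx)⟩, ?_, rfl⟩
      refine le_invCore hact' (Q := (invCore p G R).subgroupOf Y) (fun y hy => invCore_le hact hy)
        ((isPGroup_invCore hact).of_equiv
          (subgroupOfEquivOfLe ((invCore_le hact).trans le_sup_left)).symm)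
        (fun g hg => mem_normalizer_iff.2 fun s => mem_normalizer_iff.1 (le_normalizer_invCore hact hg) (s : X))
        (fun g hg => mem_normalizer_iff.2 fun s => mem_normalizer_iff.1 (fixed_le_normalizer_invCore hact
          ⟨hg.1, mem_centralizer_iff.2 fun b hb =>
            congrArg Subtype.val (mem_centralizer_iff.1 hg.2 (⟨b, le_sup_right (a := G) hb⟩ : Y) hb)⟩) (s : X)) hx
  have hKeq : (inducedFunctor kInfLower (invCore p G' R')).map Y.subtype =
      inducedFunctor kInfLower (invCore p G R) := by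
    rw [← hPeq]
    set P' := invCore p G' R'
    let e := P'.equivMapOfInjective Y.subtype Subtype.coe_injective
    show ((kInfLower ↥P').map P'.subtype).map Y.subtype = (kInfLower ↥(P'.map Y.subtype)).map _
    rw [← (Techniques.KSeq.map_kInf_equiv e).1, map_map, map_map]
    rfl
  rw [← hKeq, ← hmapG]
  exact hnY (by rw [normalizer_eq_top]; exact le_top)

end CfsgLib.Flavell
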